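import Groth.Agent.ExtStabLib.PointExt
import Groth.Agent.ExtOneLib
import Groth.Agent.LefAmpleLib.QuotMap
import Mathlib.GroupTheory.CosetCover
import Mathlib.CategoryTheory.Abelian.Injective.Ext

/-!
# Locally free extensions of the ideal of finitely many reduced points
-/

set_option autoImplicit false
set_option backward.isDefEq.respectTransparency false
set_option linter.style.haveILetI false
set_option maxHeartbeats 1000000
set_option synthInstance.maxHeartbeats 200000

universe u

open CategoryTheory CategoryTheory.Limits CategoryTheory.Abelian AlgebraicGeometry TopologicalSpace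

noncomputable section

namespace Groth.Agent.ExtStab

/-- An ideal containing an intersection of finitely many maximal ideals is radical. -/
theorem isRadical_of_iInf_maximal_le {R : Type*} [CommRing R] (T : Finset (Ideal R))
    (hT : ∀ p ∈ T, p.IsMaximal) {J : Ideal R} (hJ : (⨅ p ∈ T, p) ≤ J) : J.IsRadical := by
  classical
  rintro a ⟨n, hn⟩
  have hsup : Ideal.span {a} ⊔ (⨅ p ∈ T.filter (a ∉ ·), p) = ⊤ := Ideal.sup_iInf_eq_top fun p hp => by
    obtain ⟨hp, ha⟩ := Finset.mem_filter.1 hp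
    exact (hT p hp).1.2 _ (right_lt_sup.2 fun h => ha (h (Ideal.mem_span_singleton_self a)))
  obtain ⟨x, hx, q, hq, e⟩ := Submodule.mem_sup.1 (hsup.symm ▸ Submodule.mem_top : (1 : R) ∈ _)
  obtain ⟨b, rfl⟩ := Ideal.mem_span_singleton'.1 hx
  simp only [Submodule.mem_iInf] at hq
  have haq : a * q ∈ J := hJ (by
    simp only [Submodule.mem_iInf]
    intro p hp
    by_cases ha : a ∈ p
    · exact p.mul_mem_right q ha
    · exact p.mul_mem_left a (hq p (Finset.mem_filter.2 ⟨hp, ha⟩)))
  have h : ∀ m : ℕ, a - a * (b * a) ^ m ∈ J := fun m => by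
    induction m with
    | zero => simp
    | succ m ih =>
      have he : a - a * (b * a) ^ (m + 1) = (a - a * (b * a) ^ m) + (a * q) * (b * a) ^ m := by
        rw [show q = 1 - b * a from eq_sub_of_add_eq' e]; ring
      rw [he]
      exact J.add_mem ih (J.mul_mem_right _ haq)
  have h₁ : a * (b * a) ^ n ∈ J := by
    rw [mul_pow, ← mul_assoc]
    exact J.mul_mem_left _ hn
  simpa using J.add_mem (h n) h₁

variable {X : Scheme.{u}}

/-- An ideal sheaf containing the ideal of finitely many reduced closed points is the ideal of its support. -/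
theorem eq_vanishingIdeal_of_le (Z : Closeds X) (hfin : (Z : Set X).Finite)
    (hZ : ∀ z ∈ (Z : Set X), IsClosed ({z} : Set X))
    {J : X.IdealSheafData} (hJ : Scheme.IdealSheafData.vanishingIdeal Z ≤ J) :
    J = Scheme.IdealSheafData.vanishingIdeal J.support := by
  rw [Scheme.IdealSheafData.vanishingIdeal_support]
  refine Scheme.IdealSheafData.ext (funext fun U => ?_)
  have hinj : Function.Injective U.2.fromSpec := U.2.fromSpec.isOpenEmbedding.injective
  have hS := hfin.preimage (hinj.injOn (s := U.2.fromSpec ⁻¹' (Z : Set X)))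
  classical
  refine (Ideal.IsRadical.radical ?_).symm
  refine isRadical_of_iInf_maximal_le (hS.toFinset.image PrimeSpectrum.asIdeal) (fun p hp => ?_) ?_
  · obtain ⟨q, hq, rfl⟩ := Finset.mem_image.1 hp
    rw [← PrimeSpectrum.isClosed_singleton_iff_isMaximal]
    rw [Set.Finite.mem_toFinset] at hq
    have h := (hZ _ hq).preimage U.2.fromSpec.continuous
    rw [show U.2.fromSpec ⁻¹' {U.2.fromSpec q} = {q} from Set.eq_singleton_iff_unique_mem.2
      ⟨rfl, fun _ h' => hinj h'⟩] at h
    exact h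
  · refine le_trans (le_of_eq ?_) (hJ U)
    rw [Scheme.IdealSheafData.vanishingIdeal_ideal, Finset.iInf_finset_image]
    simp [PrimeSpectrum.vanishingIdeal]

/-- The inclusion of ideal modules. -/
theorem exists_idealMod_incl {A B : X.IdealSheafData} (h : A ≤ B) :
    ∃ φ : ClSub.idealMod A ⟶ ClSub.idealMod B, φ ≫ ClSub.idealModι B = ClSub.idealModι A :=
  ⟨kernel.lift _ (ClSub.idealModι A) (by
    rw [← LefAmpleLib.toSubscheme_quotMap h]
    exact (kernel.condition_assoc (ClSub.toSubscheme A) _).trans zero_comp), kernel.lift_ι _ _ _⟩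

variable (k : Type u) [Field k] [CharZero k] [X.Over (Spec (CommRingCat.of k))]

include k in
/-- Multiplication by a positive integer is invertible on modules in characteristic zero. -/
theorem isIso_nsmul_id (M : X.Modules) {n : ℕ} (hn : n ≠ 0) : IsIso (n • 𝟙 M) := by
  rw [Scheme.Modules.Hom.isIso_iff_isIso_app]
  intro U
  have happ : ∀ (m : ℕ) (x : Γ(M, U)), (m • 𝟙 M).app U x = m • x := fun m x => by
    induction m with
    | zero => simp
    | succ m ih => simp [succ_nsmul, ih]
  have hu : IsUnit (n : Γ(X, U)) := by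
    have := (((Scheme.ΓSpecIso (CommRingCat.of k)).inv ≫ (X ↘ Spec (CommRingCat.of k)).appTop ≫
      X.presheaf.map (homOfLE (le_top : U ≤ ⊤)).op).hom).isUnit_map
        (IsUnit.mk0 (n : k) (Nat.cast_ne_zero.2 hn))
    rwa [map_natCast] at this
  rw [ConcreteCategory.isIso_iff_bijective]
  refine ⟨fun x y h => ?_, fun x => ⟨(↑hu.unit⁻¹ : Γ(X, U)) • x, ?_⟩⟩
  · rw [happ, happ, ← Nat.cast_smul_eq_nsmul Γ(X, U), ← Nat.cast_smul_eq_nsmul Γ(X, U)] at h
    exact hu.smul_left_cancel.1 h
  · rw [happ, ← Nat.cast_smul_eq_nsmul Γ(X, U), smul_smul, IsUnit.mul_val_inv, one_smul]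

include k in
/-- Extension groups are divisible in characteristic zero. -/
theorem exists_nsmul_eq_ext [HasExt.{u} X.Modules] {A M : X.Modules} {i : ℕ} (e : Ext.{u} A M i) {n : ℕ}
    (hn : n ≠ 0) : ∃ e' : Ext.{u} A M i, n • e' = e := by
  haveI := isIso_nsmul_id k M hn
  let f : (M ⟶ M) →+ Ext.{u} A M i :=
    AddMonoidHom.mk' (fun c => e.comp (Ext.mk₀ c) (add_zero i)) (fun c d => by rw [Ext.mk₀_add, Ext.comp_add])
  refine ⟨f (inv (n • 𝟙 M)), ?_⟩
  rw [← map_nsmul, show n • inv (n • 𝟙 M) = 𝟙 M by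
    have h := IsIso.hom_inv_id (n • 𝟙 M)
    rwa [Preadditive.nsmul_comp, Category.id_comp] at h]
  exact Ext.comp_mk₀_id e

include k in
/-- Finitely many proper subgroups which are images of extension groups do not cover. -/
theorem exists_ext_notMem [HasExt.{u} X.Modules] {A M : X.Modules} {i : ℕ} {ι : Type*} (s : Finset ι)
    (R : ι → AddSubgroup (Ext.{u} A M i)) (hR : ∀ j ∈ s, R j ≠ ⊤) :
    ∃ e : Ext.{u} A M i, ∀ j ∈ s, e ∉ R j := by
  by_contra! h
  obtain ⟨j, hj, hfi⟩ := AddSubgroup.exists_finiteIndex_of_leftCoset_cover (s := s) (H := R) (g := fun _ => 0)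
    (Set.eq_univ_of_forall fun e => by
      obtain ⟨j, hj, he⟩ := h e
      exact Set.mem_iUnion₂.2 ⟨j, hj, by simpa using he⟩)
  refine hR j hj (eq_top_iff.2 fun e _ => ?_)
  obtain ⟨e', rfl⟩ := exists_nsmul_eq_ext k e hfi.index_ne_zero
  exact (R j).nsmul_index_mem e'

variable [IsAlgClosed k] [IsProper (X ↘ Spec (CommRingCat.of k))]
  [Smooth (X ↘ Spec (CommRingCat.of k))] [IsIntegral X]

include k in
/-- Existence of a locally free extension of the ideal of finitely many reduced points. -/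
theorem exists_flf_extension_iff (hdim : topologicalKrullDim X = 2) {M : X.Modules} (hM : PicF.IsInvertible M)
    (Z : Finset X) (hZc : IsClosed ((Z : Set X))) (hZ : ∀ z ∈ Z, IsClosed ({z} : Set X))
    [HasExt.{u} X.Modules] :
    (∃ (F : X.Modules) (a : M ⟶ F)
        (b : F ⟶ ClSub.idealMod (Scheme.IdealSheafData.vanishingIdeal ⟨(Z : Set X), hZc⟩)) (w : a ≫ b = 0),
        (ShortComplex.mk a b w).ShortExact ∧ FlatMod.IsFinLocFree F) ↔
      ∀ (Z' : Finset X) (hZ'c : IsClosed ((Z' : Set X))), Z' ⊂ Z →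
        ∀ φ : ClSub.idealMod (Scheme.IdealSheafData.vanishingIdeal ⟨(Z : Set X), hZc⟩) ⟶
            ClSub.idealMod (Scheme.IdealSheafData.vanishingIdeal ⟨(Z' : Set X), hZ'c⟩),
          φ ≫ ClSub.idealModι (Scheme.IdealSheafData.vanishingIdeal ⟨(Z' : Set X), hZ'c⟩) =
              ClSub.idealModι (Scheme.IdealSheafData.vanishingIdeal ⟨(Z : Set X), hZc⟩) →
            ¬ Function.Surjective ((Ext.mk₀ φ).precomp M (zero_add 1)) := by
  classical
  set IZ := Scheme.IdealSheafData.vanishingIdeal (X := X) ⟨(Z : Set X), hZc⟩ with hIZ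
  have hsupp : (IZ.support : Set X) = Z := rfl
  have hfin : (IZ.support : Set X).Finite := hsupp ▸ Z.finite_toSet
  constructor
  · rintro ⟨F, a, b, w, hex, hF⟩ Z' hZ'c hlt φ hφ hs
    obtain ⟨e', he'⟩ := hs hex.extClass
    obtain ⟨F', a', b', w', hex', rfl⟩ := ExtOneLib.exists_extension e'
    obtain ⟨g, hg₁, hg₂⟩ := ExtOneLib.exists_hom hex hex' (𝟙 M) φ
      (by rw [Ext.comp_mk₀_id]; exact he'.symm)
    refine (not_flf_iff k hdim hM IZ hfin F a b w hex).2
      ⟨_, F', a', b', w', φ, g, lt_of_le_of_ne (Scheme.IdealSheafData.vanishingIdeal_antimono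
        (show (Z' : Set X) ⊆ Z from Finset.coe_subset.2 hlt.1)) (fun h => ?_), hex', hφ,
        hg₁.trans (Category.id_comp a'), hg₂⟩ hF
    have := congrArg (fun J : X.IdealSheafData => (J.support : Set X)) h
    exact hlt.ne (Finset.coe_injective (this.trans rfl)).symm
  · intro h
    have hc : ∀ Z' : Finset X, Z' ⊆ Z → IsClosed (Z' : Set X) := fun Z' hs => by
      rw [← Set.biUnion_of_singleton (Z' : Set X)]
      exact Z'.finite_toSet.isClosed_biUnion fun y hy => hZ y (hs hy)
    let ι' := {Z' : Finset X // Z' ⊂ Z}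
    have hφ : ∀ j : ι', ∃ φ : ClSub.idealMod IZ ⟶
        ClSub.idealMod (Scheme.IdealSheafData.vanishingIdeal ⟨(j.1 : Set X), hc j.1 j.2.1⟩),
        φ ≫ ClSub.idealModι _ = ClSub.idealModι IZ := fun j =>
      exists_idealMod_incl (Scheme.IdealSheafData.vanishingIdeal_antimono
        (show (j.1 : Set X) ⊆ Z from Finset.coe_subset.2 j.2.1))
    choose φ hφ using hφ
    obtain ⟨e, he⟩ := exists_ext_notMem k (Z.ssubsets.subtype (· ⊂ Z))
      (fun j : ι' => ((Ext.mk₀ (φ j)).precomp M (zero_add 1)).range)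
      (fun j _ ht => h j.1 (hc j.1 j.2.1) j.2 (φ j) (hφ j) (AddMonoidHom.range_eq_top.1 ht))
    obtain ⟨F, a, b, w, hex, rfl⟩ := ExtOneLib.exists_extension e
    refine ⟨F, a, b, w, hex, ?_⟩
    by_contra hF
    obtain ⟨I', F', a', b', w', ψ, g, hlt, hex', hψ, hg₁, hg₂⟩ := (not_flf_iff k hdim hM IZ hfin F a b w hex).1 hF
    have hI' := eq_vanishingIdeal_of_le ⟨(Z : Set X), hZc⟩ Z.finite_toSet (fun z hz => hZ z hz) hlt.le
    have hsub : (I'.support : Set X) ⊆ Z := by
      rw [← hsupp]; exact Scheme.IdealSheafData.support_antitone hlt.le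
    obtain ⟨Z', hcoe⟩ : ∃ Z' : Finset X, (Z' : Set X) = I'.support :=
      ⟨(Z.finite_toSet.subset hsub).toFinset, Set.Finite.coe_toFinset _⟩
    have hss : Z' ⊆ Z := Finset.coe_subset.1 (hcoe ▸ hsub)
    have hI'' : I' = Scheme.IdealSheafData.vanishingIdeal ⟨(Z' : Set X), hc Z' hss⟩ :=
      hI'.trans (congrArg _ (Closeds.ext hcoe.symm))
    have hne : Z' ≠ Z := fun h' => hlt.ne (by
      rw [hI'', hIZ]; congr 1; exact Closeds.ext (congrArg (fun T : Finset X => (T : Set X)) h'.symm))
    have hss' : Z' ⊂ Z := lt_of_le_of_ne hss hne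
    subst hI''
    have hmem : (⟨Z', hss'⟩ : ι') ∈ Z.ssubsets.subtype (· ⊂ Z) :=
      Finset.mem_subtype.2 (Finset.mem_ssubsets.2 hss')
    haveI : ∀ J : X.IdealSheafData, Mono (ClSub.idealModι J) := fun J => inferInstanceAs (Mono (kernel.ι _))
    have hψφ : ψ = φ ⟨Z', hss'⟩ := (cancel_mono (ClSub.idealModι _)).1 (hψ.trans (hφ ⟨Z', hss'⟩).symm)
    refine he _ hmem ⟨hex'.extClass, ?_⟩
    let S : ShortComplex.mk a b w ⟶ ShortComplex.mk a' b' w' :=
      { τ₁ := 𝟙 M, τ₂ := g, τ₃ := ψ, comm₁₂ := (Category.id_comp a').trans hg₁.symm, comm₂₃ := hg₂ }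
    have hn := ShortComplex.ShortExact.extClass_naturality hex hex' S
    rw [Ext.comp_mk₀_id] at hn
    exact (by rw [← hψφ]; exact hn.symm)

end Groth.Agent.ExtStab
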