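import Groth.Agent.ExtStabLib.PureOne
import Groth.Agent.FundLocIsoLib.SerreDual
import Groth.Agent.CurveLib.Finite
import Groth.Agent.BCLib.Gamma
import Groth.Agent.AmpleLib.ExtendMod
import Groth.Agent.ProjBundleLib.FTQuot

/-!
# The double base-point-free dual is generated by its sections
-/

set_option autoImplicit false
set_option backward.isDefEq.respectTransparency false
set_option linter.style.haveILetI false
set_option maxHeartbeats 1000000
set_option synthInstance.maxHeartbeats 200000

universe u

open CategoryTheory CategoryTheory.Limits AlgebraicGeometry TopologicalSpace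
open Groth.Agent.PullbackMod Groth.Agent.DCohLib Groth.Agent.StalkHomLib

noncomputable section

namespace Groth.Agent.ExtStab

local instance hasHFd {X : Scheme.{u}} (M : X.Modules) : ModSite.HasSheafHom (O := X.sheaf) M :=
  ModTensor.hasSheafHom (O := X.sheaf) M

local instance additive_hFd {X : Scheme.{u}} (M : X.Modules) : (hF M).Additive :=
  (ModSite.sheafHomAdj (O := X.sheaf) M).right_adjoint_additive

variable (k : Type u) [Field k] {X : Scheme.{u}} [X.Over (Spec (CommRingCat.of k))] [IsIntegral X]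
  [Smooth (X ↘ Spec (CommRingCat.of k))] [IsProper (X ↘ Spec (CommRingCat.of k))]
  [HasInjectiveResolutions X.Modules]

/-- Duality for the duals of torsion modules. -/
theorem finrank_H0_star (hdim : topologicalKrullDim X = 2) {ω : X.Modules}
    (hω : ExtPow.IsExtPow 2 (Omega.sheaf (X ↘ Spec (CommRingCat.of k))) ω) {Q : X.Modules} (hQ : TwoTerm Q)
    (ht : Subsingleton (Q.presheaf.stalk (genericPoint X))) :
    Module.finrank k (Coh.HH X (star ω Q) 0) = Module.finrank k (Coh.HH X Q 1) := by
  haveI := EulerIneqLib.isNoetherian_proper (X := X) k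
  obtain ⟨H, hH⟩ := TwistShriek.exists_ample_of_smooth (k := k) (X := X) hdim
  obtain ⟨N, ι, hι0, hι⟩ := TwistShriek.exists_closedImmersion_of_ample (X ↘ Spec (CommRingCat.of k)) hH
  haveI := hι0
  haveI : SmoothOfRelativeDimension 2 (X ↘ Spec (CommRingCat.of k)) :=
    TwistShriek.smoothOfRelativeDimension_of_smooth (X ↘ Spec (CommRingCat.of k)) hdim
  haveI : HasExt.{u} X.Modules := inferInstance
  haveI : HasInjectiveResolutions (ModSite.Mod X.sheaf) := ‹HasInjectiveResolutions X.Modules›
  have hQc := hQ.isCoh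
  haveI := hQc.1
  obtain ⟨hωi, -, -⟩ := TwistShriek.canonical_data_proper k hdim hω
  haveI := (CurveLib.isCoh_of_isInvertible hωi).1
  haveI := DefExtLib.hasSheafHom Q
  haveI : (DCoh.sheafHom Q).Additive := Functor.additive_of_iso
    (Adjunction.rightAdjointUniq (ModSite.sheafHomAdj (O := X.sheaf) Q)
      ((DCoh.sheafHomAdj Q).ofNatIsoLeft (ModTensor.tensorSymm X.sheaf Q).symm))
  obtain ⟨e⟩ := nonempty_ext_one_sections k Q ω ht
    (TFCurvSSLib.isTorsionFree_flf (CurveLib.isFinLocFreeOfRank_one hωi))
  obtain ⟨d⟩ := FundLocIsoLib.nonempty_ext_dual (n := 2) ι hι hω hQc (i := 1) (by omega)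
  obtain ⟨i⟩ := nonempty_rightDerived_sheafHom_iso Q ω 1
  haveI := EulerIneqLib.finite_HH (k := k) hQc 1
  rw [ShBCLib.finrank_HH_iso (K := k) i 0, ← e.finrank_eq, d.finrank_eq, Subspace.dual_finrank_eq]

/-- First cohomology of the dual. -/
theorem finrank_H1_star (hdim : topologicalKrullDim X = 2) {ω : X.Modules}
    (hω : ExtPow.IsExtPow 2 (Omega.sheaf (X ↘ Spec (CommRingCat.of k))) ω) {Q : X.Modules} (hQ : TwoTerm Q)
    (ht : Subsingleton (Q.presheaf.stalk (genericPoint X))) :
    Module.finrank k (Coh.HH X (star ω Q) 1) = Module.finrank k (Coh.HH X Q 0) := by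
  haveI := EulerIneqLib.isNoetherian_proper (X := X) k
  obtain ⟨h1, h2, ⟨e⟩⟩ := star_data (TwistShriek.canonical_data_proper k hdim hω).1 hQ ht
  rw [← finrank_H0_star k hdim hω h1 h2, ShBCLib.finrank_HH_iso (K := k) e 0]

/-- Maps with finite cokernel are surjective on `H¹`. -/
theorem hMap_one_surjective_of_finite {A B : X.Modules} (u : A ⟶ B) [Mono u] (hA : Coh.IsCoh A) (hB : Coh.IsCoh B)
    (h0 : topologicalKrullDim (CohB1.support (cokernel u)) ≤ 0) :
    Function.Surjective (CurveLib.hMap (k := k) u 1) := by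
  haveI := EulerIneqLib.isNoetherian_proper (X := X) k
  have hc := (QCohLib.isCoh_kernel_cokernel u hA hB).2
  haveI := CurveLib.subsingleton_HH_of_support (cokernel u) (DevLib.isClosed_support hc) subset_rfl (d := 0) h0
    (p := 1) (by omega)
  intro y
  exact (CurveLib.range_hMap_f (k := k) (DevLib.cokerSeq_shortExact u) 1).ge
    (LinearMap.mem_ker.2 (Subsingleton.elim (α := Coh.HH X (cokernel u) 1) _ _))

/-- A module containing a generated submodule with finite quotient and the same `H¹` is generated. -/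
theorem isGloballyGenerated_of_finite_coker {A B : X.Modules} (u : A ⟶ B) [Mono u] (hA : Coh.IsCoh A)
    (hB : Coh.IsCoh B) (h0 : topologicalKrullDim (CohB1.support (cokernel u)) ≤ 0)
    (hg : Curv2.IsGloballyGenerated A)
    (h1 : Module.finrank k (Coh.HH X A 1) = Module.finrank k (Coh.HH X B 1)) : Curv2.IsGloballyGenerated B := by
  haveI := EulerIneqLib.isNoetherian_proper (X := X) k
  have hS := DevLib.cokerSeq_shortExact u
  have hc := (QCohLib.isCoh_kernel_cokernel u hA hB).2
  haveI := hc.1
  haveI := EulerIneqLib.finite_HH (k := k) hA 1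
  haveI := EulerIneqLib.finite_HH (k := k) hB 1
  have hinj : Function.Injective (CurveLib.hMap (k := k) u 1) :=
    (LinearMap.injective_iff_surjective_of_finrank_eq_finrank h1).2
      (hMap_one_surjective_of_finite k u hA hB h0)
  have hsur : Function.Surjective (CurveLib.hMap (k := k) (cokernel.π u) 0) := fun t => by
    refine (CurveLib.range_hMap_g (k := k) hS 0).ge (LinearMap.mem_ker.2 ?_)
    refine hinj ?_
    rw [map_zero]
    exact LinearMap.mem_ker.1 ((CurveLib.range_hδ (k := k) hS 0).le ⟨t, rfl⟩)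
  refine AmpleLib.isGloballyGenerated_of_mem B fun x z => ?_
  obtain ⟨τ, hτ⟩ := CurveLib.exists_global_germ (C := CohB1.support (cokernel u)) (DevLib.isClosed_support hc) h0
    (cokernel u) subset_rfl x (stalkLin (cokernel.π u) x z)
  obtain ⟨y, hy⟩ := hsur (RpushLib.h0Γ (cokernel u) τ)
  obtain ⟨σ, rfl⟩ := (RpushLib.h0Γ B).surjective y
  have hσ : (cokernel.π u).app ⊤ σ = τ := (RpushLib.h0Γ (cokernel u)).injective
    ((BCLib.h0Γ_natural (cokernel.π u) σ).trans hy)
  let g := B.presheaf.germ ⊤ x (Opens.mem_top x) σ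
  have hker : stalkLin (cokernel.π u) x (z - g) = 0 := by
    rw [map_sub, sub_eq_zero, ← hτ, ← hσ]
    exact (stalkLin_germ (cokernel.π u) (U := ⊤) x (Opens.mem_top x) σ).symm
  obtain ⟨a, ha⟩ := (SyzLib.exact_stalkLin' _ hS.exact x _).1 hker
  rw [← sub_add_cancel z g, ← ha]
  refine Submodule.add_mem _ ?_ (Submodule.subset_span ⟨σ, rfl⟩)
  have hmem : a ∈ Submodule.span (X.presheaf.stalk x)
      (Set.range fun s : Γ(A, ⊤) => A.presheaf.germ ⊤ x (Opens.mem_top x) s) := by
    rw [ProjBundleLib.span_germ_of_isGloballyGenerated hg x]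
    exact Submodule.mem_top
  refine (Submodule.span_le (p := (Submodule.span (X.presheaf.stalk x)
    (Set.range fun s : Γ(B, ⊤) => B.presheaf.germ ⊤ x (Opens.mem_top x) s)).comap (stalkLin u x))).2 ?_ hmem
  rintro _ ⟨s, rfl⟩
  exact Submodule.subset_span ⟨u.app ⊤ s, (stalkLin_germ u (U := ⊤) x (Opens.mem_top x) s).symm⟩

/-- A closed subset of an integral curve missing its generic point is finite. -/
theorem dim_le_zero_of_notMem {C : Scheme.{u}} (j : C ⟶ X) [IsClosedImmersion j] [IsIntegral C]
    (hC : topologicalKrullDim C = 1) {Z : Set X} (hZc : IsClosed Z) (hZ : Z ⊆ Set.range j)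
    (hξ : j (genericPoint C) ∉ Z) : topologicalKrullDim Z ≤ 0 := by
  have hcl : closure ({j (genericPoint C)} : Set X) = Set.range j := by
    refine subset_antisymm (closure_minimal (by simp) j.isClosedEmbedding.isClosed_range) ?_
    rintro _ ⟨c, rfl⟩
    exact ((genericPoint_specializes c).map j.continuous).mem_closure
  have h := HilbLib.dim_lt_of_notMem hZc (ξ := j (genericPoint C)) (n := 1) (fun y hy => hcl ▸ hZ hy) hξ (by
    rw [hcl, ← (j.isEmbedding.toHomeomorph.isHomeomorph).topologicalKrullDim_eq, hC]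
    exact_mod_cast Nat.lt_succ_self 1)
  have := ShStabLib.le_of_lt_natCast_add_one _ 0 (by exact_mod_cast h)
  exact_mod_cast this

/-- Monomorphisms surjective on sections preserve their dimension. -/
theorem finrank_H0_eq_of_surjective {A B : X.Modules} (i : A ⟶ B) [Mono i]
    (h : Function.Surjective (CurveLib.hMap (k := k) i 0)) :
    Module.finrank k (Coh.HH X A 0) = Module.finrank k (Coh.HH X B 0) := by
  have hS := DevLib.cokerSeq_shortExact i
  have hinj : Function.Injective (CurveLib.hMap (k := k) i 0) := fun a b e =>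
    CurveLib.hMap_f_zero_injective (k := k) (S := ShortComplex.mk i (cokernel.π i) (cokernel.condition i)) hS e
  exact LinearEquiv.finrank_eq (LinearEquiv.ofBijective (CurveLib.hMap (k := k) i 0) ⟨hinj, h⟩)

/-- Submodules carrying all of a nonzero space of sections are nonzero. -/
theorem ne_zero_of_surjective {A B : X.Modules} (i : A ⟶ B)
    (h : Function.Surjective (CurveLib.hMap (k := k) i 0)) (h0 : 0 < Module.finrank k (Coh.HH X B 0)) : i ≠ 0 := fun e => by
  haveI : Subsingleton (Coh.HH X B 0) := subsingleton_of_forall_eq 0 fun z => by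
    obtain ⟨w, rfl⟩ := h z
    rw [e, HorrocksPnLib.hMap_zero]
  rw [Module.finrank_zero_of_subsingleton] at h0
  exact lt_irrefl _ h0

include k in
/-- Nonzero submodules of a module simple at the generic point of the supporting curve have finite quotient. -/
theorem finite_coker_of_simple (hdim : topologicalKrullDim X = 2) {C : Scheme.{u}} (j : C ⟶ X) [IsClosedImmersion j]
    [IsIntegral C] (hC : topologicalKrullDim C = 1) {T Q : X.Modules} (hQ : TwoTerm Q) (e : T ⟶ Q) [Mono e]
    (hT : Coh.IsCoh T) (hs : ∀ x, x ∉ Set.range j → Subsingleton (Q.presheaf.stalk x))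
    (hsimple : ∀ z : Q.presheaf.stalk (j (genericPoint C)), z ≠ 0 →
      Function.Surjective fun r : X.presheaf.stalk (j (genericPoint C)) => r • z)
    (he : e ≠ 0) : topologicalKrullDim (CohB1.support (cokernel e)) ≤ 0 := by
  haveI := EulerIneqLib.isNoetherian_proper (X := X) k
  let ξ := j (genericPoint C)
  have hcc := (QCohLib.isCoh_kernel_cokernel e hT hQ.isCoh).2
  have hTs : CohB1.support T ⊆ Set.range j := fun x hx => by
    by_contra hxj
    haveI := hs x hxj
    exact hx ((PullbackMod.mono_iff_stalk e).1 inferInstance x).subsingleton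
  refine dim_le_zero_of_notMem j hC (DevLib.isClosed_support hcc) (fun x hx => ?_) fun hξ => hξ ?_
  · by_contra hxj
    haveI := hs x hxj
    exact hx (LazMuk.subsingleton_stalk_cokernel e x fun y => ⟨0, Subsingleton.elim _ _⟩)
  · obtain ⟨a, ha⟩ : ∃ a : T.presheaf.stalk ξ, a ≠ 0 := by
      by_contra h
      push Not at h
      refine he (eq_zero_of_finite_sub k hdim hQ e hT
        (dim_le_zero_of_notMem j hC (DevLib.isClosed_support hT) hTs fun hm => hm (subsingleton_of_forall_eq 0 h)))
    refine LazMuk.subsingleton_stalk_cokernel e ξ fun y => ?_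
    obtain ⟨r, hr⟩ := hsimple (stalkLin e ξ a)
      (fun h => ha ((PullbackMod.mono_iff_stalk e).1 inferInstance ξ (h.trans (map_zero _).symm))) y
    exact ⟨r • a, by rw [map_smul]; exact hr⟩

theorem bijective_comp_of_iso {A A₁ B : X.Modules} (e : A ≅ A₁) (u : A₁ ⟶ B) (x : X)
    (hu : Function.Bijective (stalkLin u x)) : Function.Bijective (stalkLin (e.hom ≫ u) x) := by
  rw [stalkLin_comp, LinearMap.coe_comp]
  exact hu.comp (HilbLib.stalkLin_bijective_of_iso e x)

/-- Comparison off a finite set. -/
theorem isGloballyGenerated_of_bij_off (hdim : topologicalKrullDim X = 2) {A B : X.Modules} (hA : TwoTerm A)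
    (hg : Curv2.IsGloballyGenerated A) (hB : Coh.IsCoh B) (v : A ⟶ B) {Z : Set X}
    (hZ : topologicalKrullDim Z ≤ 0) (hv : ∀ x, x ∉ Z → Function.Bijective (stalkLin v x))
    (h1 : Module.finrank k (Coh.HH X A 1) = Module.finrank k (Coh.HH X B 1)) : Curv2.IsGloballyGenerated B := by
  haveI := EulerIneqLib.isNoetherian_proper (X := X) k
  haveI := hA.isCoh.1
  have hker := (QCohLib.isCoh_kernel_cokernel v hA.isCoh hB).1
  haveI : Mono v := Preadditive.mono_of_kernel_zero (eq_zero_of_finite_sub k hdim hA (kernel.ι v) hker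
    (le_trans (Topology.IsEmbedding.inclusion (t := Z) fun x hx => by
      by_contra hxR
      refine hx ⟨fun a b => (PullbackMod.mono_iff_stalk (kernel.ι v)).1 inferInstance x ((hv x hxR).1 ?_)⟩
      rw [← LinearMap.comp_apply, ← LinearMap.comp_apply, ← stalkLin_comp, kernel.condition,
        TFOneLib.stalkLin_zero]
      rfl).isInducing.topologicalKrullDim_le hZ))
  refine isGloballyGenerated_of_finite_coker k v hA.isCoh hB ?_ hg h1
  refine le_trans (Topology.IsEmbedding.inclusion (t := Z) fun x hx => ?_).isInducing.topologicalKrullDim_le hZ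
  by_contra hxR
  exact hx (LazMuk.subsingleton_stalk_cokernel v x (hv x hxR).2)

variable [IsAlgClosed k] [CharZero k]

/-- The double base-point-free dual and its dual are generated by global sections. -/
theorem isGloballyGenerated_doubleDual (hdim : topologicalKrullDim X = 2) {ω : X.Modules}
    (hω : ExtPow.IsExtPow 2 (Omega.sheaf (X ↘ Spec (CommRingCat.of k))) ω)
    {C : Scheme.{u}} (j : C ⟶ X) [IsClosedImmersion j] [IsIntegral C] (hC : topologicalKrullDim C = 1)
    {M : C.Modules} (hM : Coh.IsCoh M) (hMtf : TorSh.IsTorsionFree M)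
    (hrk : Module.finrank (C.presheaf.stalk (genericPoint C)) (M.presheaf.stalk (genericPoint C)) = 1)
    (h0 : 0 < Module.finrank k (Coh.HH X ((Coh.push j).obj M) 0))
    (h1 : 0 < Module.finrank k (Coh.HH X ((Coh.push j).obj M) 1))
    {A' : X.Modules} (ι₁ : A' ⟶ (Coh.push j).obj M) [Mono ι₁] (hA'c : Coh.IsCoh A')
    (hA'g : Curv2.IsGloballyGenerated A') (hA'0 : Function.Surjective (CurveLib.hMap (k := k) ι₁ 0))
    {B : X.Modules} (ι₂ : B ⟶ star ω A') [Mono ι₂] (hBc : Coh.IsCoh B) (hBg : Curv2.IsGloballyGenerated B)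
    (hB0 : Function.Surjective (CurveLib.hMap (k := k) ι₂ 0)) :
    Curv2.IsGloballyGenerated (star ω B) ∧ Curv2.IsGloballyGenerated (star ω (star ω B)) := by
  haveI := EulerIneqLib.isNoetherian_proper (X := X) k
  haveI : IsLocallyNoetherian C := LocallyOfFiniteType.isLocallyNoetherian j
  have hreg := fun x => ASp.isRegularLocalRing_stalk_of_smooth_field (X ↘ Spec (CommRingCat.of k)) x
  obtain ⟨hωi, -, -⟩ := TwistShriek.canonical_data_proper k hdim hω
  obtain ⟨H, hH⟩ := TwistShriek.exists_ample_of_smooth (k := k) (X := X) hdim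
  have hQc : Coh.IsCoh ((Coh.push j).obj M) := DevLib.isCoh_pushforward_closed j hM
  have hQ : TwoTerm ((Coh.push j).obj M) := by
    obtain ⟨F, f, hF, hf⟩ := S1108.result X H hH _ hQc.1 hQc.2
    haveI := hf
    exact ⟨kernel f, F, kernel.ι f, f, kernel.condition f, S15848.result k X hdim C j hC M hM hMtf F hF f, hF,
      ShortComplex.ShortExact.mk' (ShortComplex.exact_of_f_is_kernel _ (kernelIsKernel f)) inferInstance hf⟩
  have hA' := twoTerm_sub hreg hdim hH hQ ι₁ hA'c
  have hη : genericPoint X ∉ Set.range j := by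
    intro hm
    have hu : Set.range j = Set.univ := Set.eq_univ_iff_forall.2 fun y =>
      (genericPoint_specializes y).mem_closed j.isClosedEmbedding.isClosed_range hm
    have h := (j.isEmbedding.toHomeomorph.isHomeomorph).topologicalKrullDim_eq
    rw [hC, hu, (Homeomorph.Set.univ X).isHomeomorph.topologicalKrullDim_eq, hdim] at h
    exact absurd h (by norm_num)
  have hsA : CohB1.support A' ⊆ Set.range j := fun x hx => by
    by_contra hxj
    exact hx (haveI := DCohLib.subsingleton_stalk_pushforward j M x hxj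
      ((PullbackMod.mono_iff_stalk ι₁).1 inferInstance x).subsingleton)
  have htA : Subsingleton (A'.presheaf.stalk (genericPoint X)) := not_not.1 fun h => hη (hsA h)
  haveI : HasInjectiveResolutions (ModSite.Mod X.sheaf) := ‹HasInjectiveResolutions X.Modules›
  obtain ⟨hAs, htAs, ⟨bA⟩⟩ := star_data hωi hA' htA
  have hsAs : ∀ x, x ∉ Set.range j → Subsingleton ((star ω A').presheaf.stalk x) := fun x hx =>
    ExtShLib.subsingleton_stalk_extS A' ω hA'c x 1 (hreg x) (Or.inr (not_not.1 fun h => hx (hsA h)))
  let ξ := j (genericPoint C)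
  have hι₁ := ne_zero_of_surjective k ι₁ hA'0 h0
  -- the local ring at `ξ`
  haveI : ∀ x : X, IsRegularLocalRing (X.presheaf.stalk x) := hreg
  obtain ⟨t, -, ht⟩ := S15848.exists_ker_eq_span hdim j hC (genericPoint C)
  have hfld : IsField (C.presheaf.stalk (genericPoint C)) := RefOne.isField_gen
  have hm : IsLocalRing.maximalIdeal (X.presheaf.stalk ξ) = Ideal.span {t} := by
    refine Eq.trans ?_ ht
    have hmax : (RingHom.ker (j.stalkMap (genericPoint C)).hom).IsMaximal := by
      refine (Ideal.Quotient.maximal_ideal_iff_isField_quotient _).2 ?_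
      exact (RingHom.quotientKerEquivOfSurjective (j.stalkMap_surjective (genericPoint C))).toMulEquiv.isField hfld
    exact (IsLocalRing.eq_maximalIdeal hmax).symm
  have hQξ : (∀ q : ((Coh.push j).obj M).presheaf.stalk ξ, t • q = 0) ∧
      ∀ z : ((Coh.push j).obj M).presheaf.stalk ξ, z ≠ 0 → Function.Surjective fun r : X.presheaf.stalk ξ => r • z := by
    have hb := DCohLib.bijective_pushStalk j M (genericPoint C)
    refine ⟨fun q => hb.1 ?_, fun z hz y => ?_⟩
    · rw [DCohLib.pushStalk_smul, map_zero]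
      have : j.stalkMap (genericPoint C) t = 0 := by
        have h := Ideal.mem_span_singleton_self t
        rw [← ht] at h
        exact h
      rw [this, zero_smul]
    · haveI := hM.1
      haveI := PullbackMod.finite_stalk_of_isFT hM.2 (genericPoint C)
      letI : Field (C.presheaf.stalk (genericPoint C)) := hfld.toField
      obtain ⟨c, hc⟩ := exists_smul_eq_of_finrank_eq_one hrk
        (x := DCohLib.pushStalk j M (genericPoint C) z)
        (fun h => hz (hb.1 (h.trans (map_zero _).symm))) (DCohLib.pushStalk j M (genericPoint C) y)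
      obtain ⟨r, hr⟩ := j.stalkMap_surjective (genericPoint C) c
      refine ⟨r, hb.1 ?_⟩
      rw [DCohLib.pushStalk_smul, hr, hc]
  have hA'ξ : (∀ q : A'.presheaf.stalk ξ, t • q = 0) ∧
      ∀ z : A'.presheaf.stalk ξ, z ≠ 0 → Function.Surjective fun r : X.presheaf.stalk ξ => r • z := by
    have hi := (PullbackMod.mono_iff_stalk ι₁).1 inferInstance ξ
    refine ⟨fun q => hi (by rw [map_smul, hQξ.1, map_zero]), fun z hz y => ?_⟩
    obtain ⟨r, hr⟩ := hQξ.2 _ (fun h => hz (hi (h.trans (map_zero _).symm))) (stalkLin ι₁ ξ y)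
    exact ⟨r, hi (by rw [map_smul]; exact hr)⟩
  haveI : Coh.IsQCoh (star ω A') := hAs.isCoh.1
  -- cohomology of `A'`
  haveI : Mono ι₁ := inferInstance
  have hQA := finite_coker_of_simple k hdim j hC hQ ι₁ hA'c
    (fun x hx => DCohLib.subsingleton_stalk_pushforward j M x hx) hQξ.2 hι₁
  have hA1 : 0 < Module.finrank k (Coh.HH X A' 1) := by
    haveI := EulerIneqLib.finite_HH (k := k) hA'c 1
    refine h1.trans_le ?_
    exact LinearMap.finrank_le_finrank_of_surjective (hMap_one_surjective_of_finite k ι₁ hA'c hQc hQA)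
  -- `B`
  have hB : Module.finrank k (Coh.HH X B 0) = Module.finrank k (Coh.HH X A' 1) :=
    (finrank_H0_eq_of_surjective k ι₂ hB0).trans (finrank_H0_star k hdim hω hA' htA)
  have hι₂ := ne_zero_of_surjective k ι₂ hB0 (by rw [finrank_H0_star k hdim hω hA' htA]; exact hA1)
  have hsB : CohB1.support B ⊆ Set.range j := fun x hx => by
    by_contra hxj
    haveI := hsAs x hxj
    exact hx ((PullbackMod.mono_iff_stalk ι₂).1 inferInstance x).subsingleton
  have hRc := (QCohLib.isCoh_kernel_cokernel ι₂ hBc hAs.isCoh).2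
  have hR := finite_coker_of_simple k hdim j hC hAs ι₂ hBc hsAs
    (star_simple hωi hA' ξ hm hA'ξ.1 hA'ξ.2) hι₂
  -- the double dual
  have hBt := twoTerm_sub hreg hdim hH hAs ι₂ hBc
  have htB : Subsingleton (B.presheaf.stalk (genericPoint X)) := not_not.1 fun h => hη (hsB h)
  obtain ⟨hBs, htBs, ⟨bB⟩⟩ := star_data hωi hBt htB
  refine ⟨?_, AmpleLib.isGloballyGenerated_of_iso bB.symm hBg⟩
  obtain ⟨hUs, -, -⟩ := star_data hωi hAs htAs
  obtain ⟨u, hu⟩ := exists_star_map hreg ω (DevLib.cokerSeq_shortExact ι₂) hBc hAs.isCoh hRc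
  exact isGloballyGenerated_of_bij_off k hdim hA' hA'g hBs.isCoh (bA.inv ≫ u) hR
    (fun x hx => bijective_comp_of_iso bA.symm u x (hu x (not_not.1 hx)))
    (by rw [finrank_H1_star k hdim hω hBt htB, hB])

end Groth.Agent.ExtStab
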