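import Groth.Agent.ExtStabLib.RankOne
import Groth.Agent.ShStabLib.Hom
import Groth.Agent.ShStabLib.Compare
import Groth.Agent.VBLib.Regular

/-!
# Saturated rank-one submodules of semistable rank-two modules
-/

set_option autoImplicit false
set_option backward.isDefEq.respectTransparency false
set_option linter.style.haveILetI false
set_option maxHeartbeats 1000000
set_option synthInstance.maxHeartbeats 200000

universe u

open CategoryTheory CategoryTheory.Limits AlgebraicGeometry TopologicalSpace Polynomial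
open Groth.Agent.PullbackMod Groth.Agent.DCohLib Groth.Agent.Nakai StabCat
open Groth.Agent.IntLib (PicRing pairing dif inv')

noncomputable section

namespace Groth.Agent.ExtStab

variable {X : Scheme.{u}} [IsIntegral X]

/-- Torsion-free at the generic point gives torsion-free stalks. -/
theorem isTorsionFree_of_isTF {M : X.Modules} (h : DevLib.IsTF (genericPoint X) M) : TorSh.IsTorsionFree M := by
  intro x
  constructor
  intro a ha
  have hinj : ∀ m : M.presheaf.stalk x, RefOne.toGen M x m = 0 → m = 0 := by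
    intro m hm
    obtain ⟨U, hxU, s, rfl⟩ := TopCat.Presheaf.exists_germ_eq M.presheaf m
    rw [RefOne.toGen_germ] at hm
    rw [h U s fun _ => hm, map_zero]
  intro m m' he
  refine sub_eq_zero.1 (hinj _ ?_)
  have h0 : RefOne.toK x a • RefOne.toGen M x (m - m') = 0 := by
    rw [← RefOne.toGen_smul, smul_sub, show a • m = a • m' from he, sub_self]
    exact map_zero _
  letI : Field (X.presheaf.stalk (genericPoint X)) := RefOne.isField_gen.toField
  exact (smul_eq_zero.1 h0).resolve_left fun hz =>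
    (isRegular_iff_ne_zero.1 ha) (RefOne.toK_injective x (hz.trans (map_zero _).symm))

/-- At the generic point every coherent module is reflexive. -/
theorem bijective_bidual_generic [IsLocallyNoetherian X] {Q : X.Modules} (hQ : Coh.IsCoh Q) :
    Function.Bijective (stalkLin (RefHull.bidualMap Q) (genericPoint X)) := by
  refine (RefOne.bijective_bidual_stalk_iff hQ _).2 ?_
  haveI := VBLib.finite_generic hQ
  haveI := VBLib.free_generic Q inferInstance
  exact inferInstanceAs (Module.IsReflexive (X.presheaf.stalk (genericPoint X)) (Q.presheaf.stalk (genericPoint X)))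

variable (k : Type u) [Field k] [X.Over (Spec (CommRingCat.of k))] [IsProper (X ↘ Spec (CommRingCat.of k))]

/-- The multiplicity is the generic rank times the self-intersection. -/
theorem alpha_two_eq (hdim : topologicalKrullDim X = 2) {L : X.Modules} (hL : CohB1.IsAmple L)
    {M : X.Modules} (hM : Coh.IsCoh M) {pM : ℚ[X]} (hpM : ShStabLib.HP k L M pM) :
    alpha 2 pM = ((VBLib.grk M : ℕ) : ℚ) * (form k (cl hL.1) (cl hL.1) : ℚ) := by
  classical
  haveI := EulerIneqLib.isNoetherian_proper (X := X) k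
  let η := genericPoint X
  have hcl : closure ({η} : Set X) = Set.univ :=
    Set.eq_univ_of_forall fun y => (genericPoint_specializes y).mem_closure
  have hdη : topologicalKrullDim (closure ({η} : Set X)) = ((2 : ℕ) : WithBot ℕ∞) := by
    rw [hcl, (Homeomorph.Set.univ X).isHomeomorph.topologicalKrullDim_eq]
    exact hdim
  have hd : ∀ N : X.Modules, topologicalKrullDim (CohB1.support N) ≤ ((2 : ℕ) : WithBot ℕ∞) := fun N =>
    Topology.IsInducing.subtypeVal.topologicalKrullDim_le.trans hdim.le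
  have hs : ∀ N : X.Modules, ∀ ξ : X,
      ξ ∈ ({η} : Finset X).filter (fun ξ => ξ ∈ CohB1.support N) ↔
        ξ ∈ CohB1.support N ∧ topologicalKrullDim (closure ({ξ} : Set X)) = ((2 : ℕ) : WithBot ℕ∞) := fun N ξ => by
    rw [Finset.mem_filter, Finset.mem_singleton]
    refine ⟨fun ⟨h1, h2⟩ => ⟨h2, h1 ▸ hdη⟩, fun ⟨h2, h3⟩ => ⟨?_, h2⟩⟩
    by_contra hne
    have := HilbLib.dim_lt_of_notMem (isClosed_closure (s := ({ξ} : Set X))) (ξ := η) (n := 2)
      (fun y _ => hcl ▸ Set.mem_univ y) (fun h => hne ((specializes_iff_mem_closure.2 h).antisymm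
        (genericPoint_specializes ξ)).eq) (by rw [hdη]; exact_mod_cast Nat.lt_succ_self 2)
    rw [h3] at this
    exact lt_irrefl _ this
  let c := pairing k (IntLib.compMod η) (∏ _i : Fin 2, dif hL.1)
  have key : ∀ N : X.Modules, Coh.IsCoh N → pairing k N (cl hL.1 ^ 2) = (VBLib.grk N : ℤ) * c := by
    intro N hN
    have e : (∏ _i : Fin 2, dif hL.1) = cl hL.1 ^ 2 := by
      rw [Finset.prod_const, Finset.card_univ, Fintype.card_fin, cl_eq_neg_dif, neg_sq]
    obtain ⟨-, h⟩ := IntLib.pairing_decomp k (fun _ : Fin 2 => L) (fun _ => hL.1) hN (hd N) _ (hs N)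
    rw [e] at h
    haveI := VBLib.finite_generic hN
    letI : Field (X.presheaf.stalk η) := RefOne.isField_gen.toField
    have hlen : Module.length (X.presheaf.stalk η) (N.presheaf.stalk η) = (VBLib.grk N : ℕ) :=
      Module.length_eq_finrank _ _
    rw [h, show c = pairing k (IntLib.compMod η) (cl hL.1 ^ 2) from congrArg (pairing k (IntLib.compMod η)) e]
    by_cases hη : η ∈ CohB1.support N
    · rw [Finset.filter_singleton, if_pos hη, Finset.sum_singleton, hlen, ENat.toNat_coe]
    · rw [Finset.filter_singleton, if_neg hη, Finset.sum_empty, (VBLib.grk_eq_zero_iff hN).2 hη]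
      simp
  have hO := key _ (DevLib.isCoh_structureModule X)
  rw [VBLib.grk_of_rank (CurveLib.isFinLocFreeOfRank_one ParaFLib.isInvertible_structureModule), Nat.cast_one,
    one_mul] at hO
  have hdeg := ShStabLib.degree_lt k hL hM (d := 2)
    (lt_of_le_of_lt (hd M) (by exact_mod_cast Nat.lt_succ_self 2)) hpM
  have h2 := pairing_cl_pow_eq_coeff k hM hL.1 (hd M) pM hdeg hpM
  rw [alpha, ← h2, key M hM, ← hO, form, pow_two]
  push_cast
  rfl

variable [Smooth (X ↘ Spec (CommRingCat.of k))]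

include k in
/-- Maps into a reflexive module extend along monomorphisms with finite cokernel. -/
theorem exists_extend_finite (hdim : topologicalKrullDim X = 2) {M N P : X.Modules} (g : M ⟶ N) [Mono g]
    (hM : Coh.IsCoh M) (hN : Coh.IsCoh N) (hg : topologicalKrullDim (CohB1.support (cokernel g)) ≤ 0)
    (hP : Coh.IsCoh P) (hr : RefHull.IsReflexive P) (p : M ⟶ P) : ∃ ψ : N ⟶ P, g ≫ ψ = p := by
  haveI := EulerIneqLib.isNoetherian_proper (X := X) k
  have hcl := DevLib.isClosed_support (QCohLib.isCoh_kernel_cokernel g hM hN).2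
  have hreg := fun x => ASp.isRegularLocalRing_stalk_of_smooth_field (X ↘ Spec (CommRingCat.of k)) x
  let U : X.Opens := ⟨(CohB1.support (cokernel g))ᶜ, hcl.isOpen_compl⟩
  refine exists_extend_hom g U
    (fun x hx => ⟨(PullbackMod.mono_iff_stalk g).1 inferInstance x, LazMuk.mem_support_coker_iff g x hx⟩)
    (fun W => NormalRefLib.bijective_res (NormalRefLib.normal_of_regular (X := X) hreg) hP hr W (W ⊓ U) inf_le_left
      fun y hy hyU => ?_) p
  have hy' : y ∈ CohB1.support (cokernel g) := not_not.1 fun h => hyU ⟨hy, h⟩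
  rw [TwistShriek.dim_closed_point_integral (n := 2) (X ↘ Spec (CommRingCat.of k)) (by exact_mod_cast hdim) y
    (by rw [← CurveLib.closure_singleton_eq hcl hg hy']; exact isClosed_closure)]
  exact le_of_eq Nat.cast_ofNat.symm

variable [IsAlgClosed k] [PicGrp.Law X]

omit [IsAlgClosed k] in
/-- A rank-two module, slope-semistable, of the degree of the polarisation has no nonzero maps to
invertible modules of nonpositive degree. -/
theorem hom_eq_zero_of_nonpos (hdim : topologicalKrullDim X = 2) {L : X.Modules} (hL : CohB1.IsAmple L)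
    (hgen : ∀ c : PicLoc.PicSet X, ∃ n : ℤ, c = PicGrp.cls L hL.1 ^ n)
    {V : X.Modules} (hμ : ShStab.IsMuSemistable k X L V 2) {pV pO : ℚ[X]} (hpV : ShStabLib.HP k L V pV)
    (hpO : ShStabLib.HP k L (Coh.structureModule X) pO)
    (hV2 : alpha 2 pV = 2 * (form k (cl hL.1) (cl hL.1) : ℚ))
    (hV1 : alpha 1 pV = 2 * alpha 1 pO + (form k (cl hL.1) (cl hL.1) : ℚ))
    {T : X.Modules} (hT : PicF.IsInvertible T) (hneg : form k (cl hT) (cl hL.1) ≤ 0) (φ : V ⟶ T) : φ = 0 := by
  haveI := EulerIneqLib.isNoetherian_proper (X := X) k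
  by_contra hφ
  have hV := hμ.1
  have hTc := CurveLib.isCoh_of_isInvertible hT
  have hd : ∀ M : X.Modules, ShStabLib.DimLE 2 M := fun M =>
    lt_of_le_of_lt (Topology.IsInducing.subtypeVal.topologicalKrullDim_le.trans hdim.le)
      (by exact_mod_cast Nat.lt_succ_self 2)
  obtain ⟨pT, -, hpT⟩ := ShStabLib.exists_hp k hL hTc (hd T)
  obtain ⟨hT2, hT1⟩ := alpha_invertible k hdim hL hT hpT hpO
  obtain ⟨pK, -, hpK⟩ := ShStabLib.exists_hp k hL (QCohLib.isCoh_kernel_cokernel φ hV hTc).1 (hd _)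
  obtain ⟨pI, hpI, hs, hIc, -⟩ := ShStabLib.exists_hp_coker k hL (kernel.ι φ)
    (QCohLib.isCoh_kernel_cokernel φ hV hTc).1 hV (hd V) hpK hpV
  have hj : Abelian.factorThruCoimage φ ≠ 0 := fun h => hφ (by
    rw [← Abelian.coimage.fac φ, h, Limits.comp_zero])
  obtain ⟨q, hq, hI2, hI1, -, -⟩ := rank_one_sub k hdim hL hgen
    (Abelian.factorThruCoimage φ : cokernel (kernel.ι φ) ⟶ T) hIc hT hj hpI hpT
  have hδ : (0 : ℚ) < (form k (cl hL.1) (cl hL.1) : ℤ) := by exact_mod_cast form_ample_pos k (by exact_mod_cast hdim) hL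
  have e2 := congrArg (alpha 2) hs
  have e1 := congrArg (alpha 1) hs
  rw [ShStabLib.alpha_add, hI2, hT2, hV2] at e2
  rw [ShStabLib.alpha_add, hI1, hT1, hV1] at e1
  have hK2 : alpha 2 pK = (form k (cl hL.1) (cl hL.1) : ℚ) := by linarith
  have h := hμ.2.2.2.2 _ (kernel.ι φ) inferInstance (QCohLib.isCoh_kernel_cokernel φ hV hTc).1 pK pV hpK hpV
    (by rw [hK2]; exact hδ) (by rw [hK2, hV2]; linarith)
  change alpha 1 pK / alpha 2 pK ≤ alpha 1 pV / alpha 2 pV at h
  rw [hK2, hV2, hV1, div_le_div_iff₀ hδ (by linarith)] at h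
  have hneg' : (form k (cl hT) (cl hL.1) : ℚ) ≤ 0 := by exact_mod_cast hneg
  have hq' : (0 : ℚ) ≤ q := by exact_mod_cast hq
  nlinarith

omit [IsAlgClosed k] in
/-- Saturation of a section: the extension. -/
theorem exists_ext_of_section (hdim : topologicalKrullDim X = 2) {L : X.Modules} (hL : CohB1.IsAmple L)
    (hgen : ∀ c : PicLoc.PicSet X, ∃ n : ℤ, c = PicGrp.cls L hL.1 ^ n)
    {V : X.Modules} (hVtf : TorSh.IsTorsionFree V) (hμ : ShStab.IsMuSemistable k X L V 2) {pV pO : ℚ[X]}
    (hpV : ShStabLib.HP k L V pV) (hpO : ShStabLib.HP k L (Coh.structureModule X) pO)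
    (hV2 : alpha 2 pV = 2 * (form k (cl hL.1) (cl hL.1) : ℚ))
    (hV1 : alpha 1 pV = 2 * alpha 1 pO + (form k (cl hL.1) (cl hL.1) : ℚ))
    {T : X.Modules} (hT : PicF.IsInvertible T) (t : ℤ) (ht : PicGrp.cls T hT = PicGrp.cls L hL.1 ^ t)
    (hcase : RefHull.IsReflexive V ∨ t = 0) (j : T ⟶ V) (hj : j ≠ 0) :
    ∃ (m : ℤ) (_ : t ≤ m) (_ : m ≤ 0) (M : X.Modules) (hM : PicF.IsInvertible M)
      (_ : PicGrp.cls M hM = PicGrp.cls L hL.1 ^ m)
      (L' : X.Modules) (hL' : PicF.IsInvertible L') (_ : PicGrp.cls L' hL' = PicGrp.cls L hL.1 ^ (1 - m))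
      (N : X.Modules) (ι : N ⟶ L') (_ : Mono ι) (_ : Coh.IsCoh N)
      (_ : topologicalKrullDim (CohB1.support (cokernel ι)) ≤ 0)
      (a : M ⟶ V) (b : V ⟶ N) (w : a ≫ b = 0), (ShortComplex.mk a b w).ShortExact := by
  classical
  haveI := EulerIneqLib.isNoetherian_proper (X := X) k
  let η := genericPoint X
  have hV := hμ.1
  haveI := hV.1
  have hTc := CurveLib.isCoh_of_isInvertible hT
  set δ := form k (cl hL.1) (cl hL.1) with hδdef
  have hδ : 0 < δ := form_ample_pos k (by exact_mod_cast hdim) hL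
  have hδ' : (0 : ℚ) < (δ : ℚ) := by exact_mod_cast hδ
  have hd : ∀ M : X.Modules, ShStabLib.DimLE 2 M := fun M =>
    lt_of_le_of_lt (Topology.IsInducing.subtypeVal.topologicalKrullDim_le.trans hdim.le)
      (by exact_mod_cast Nat.lt_succ_self 2)
  letI : Field (X.presheaf.stalk η) := RefOne.isField_gen.toField
  -- the section is injective
  have hjη : Function.Injective (stalkLin j η) := by
    obtain ⟨s, hs⟩ := ParaFLib.exists_stalk_gen hT η
    have hjs : stalkLin j η s ≠ 0 := fun h0 => hj (LazMuk.hom_eq_zero_of_generic hVtf j (LinearMap.ext fun z => by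
      obtain ⟨r, rfl⟩ := hs.2 z
      rw [map_smul, h0, smul_zero, LinearMap.zero_apply]))
    rw [injective_iff_map_eq_zero]
    intro z hz
    obtain ⟨r, rfl⟩ := hs.2 z
    rw [map_smul] at hz
    show r • s = 0
    rw [(smul_eq_zero.1 hz).resolve_right hjs, zero_smul]
  haveI := hTc.1
  haveI : Mono j := LazMuk.mono_of_generic
    (TFCurvSSLib.isTorsionFree_flf (CurveLib.isFinLocFreeOfRank_one hT)) j hjη
  -- the saturation
  have hQ0 := (QCohLib.isCoh_kernel_cokernel j hTc hV).2
  let D := RefHull.ddual (cokernel j)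
  have hDc : Coh.IsCoh D := RefOne.isCoh_dual (RefOne.isCoh_dual hQ0)
  haveI : Coh.IsQCoh D := hDc.1
  haveI : Coh.IsQCoh (RefHull.dual (RefHull.dual (cokernel j))) := hDc.1
  let f : V ⟶ D := cokernel.π j ≫ RefHull.bidualMap (cokernel j)
  let κ : kernel f ⟶ V := kernel.ι f
  let l : T ⟶ kernel f := kernel.lift f j (by rw [← Category.assoc, cokernel.condition, Limits.zero_comp])
  have hlκ : l ≫ κ = j := kernel.lift_ι _ _ _
  haveI : Mono l := mono_of_mono_fac hlκ
  obtain ⟨hMc, -⟩ := QCohLib.isCoh_kernel_cokernel f hV hDc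
  haveI := hMc.1
  have hMtf : TorSh.IsTorsionFree (kernel f) := TFCurvSSLib.torsionFree_of_mono κ hVtf
  have hlη : Function.Surjective (stalkLin l η) := fun z => by
    let S : ShortComplex X.Modules := ShortComplex.mk j (cokernel.π j) (cokernel.condition j)
    have hS : S.Exact := ShortComplex.exact_of_g_is_cokernel _ (cokernelIsCokernel j)
    have h1 : stalkLin (cokernel.π j) η (stalkLin κ η z) = 0 := (bijective_bidual_generic hQ0).1 (by
      rw [map_zero, ← LinearMap.comp_apply, ← stalkLin_comp, ← LinearMap.comp_apply, ← stalkLin_comp,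
        kernel.condition, TFOneLib.stalkLin_zero, LinearMap.zero_apply])
    obtain ⟨w, hw⟩ := (SyzLib.exact_stalkLin' S hS η _).1 h1
    refine ⟨w, (PullbackMod.mono_iff_stalk κ).1 inferInstance η ?_⟩
    rw [← LinearMap.comp_apply, ← stalkLin_comp, hlκ]
    exact hw
  obtain ⟨pT, -, hpT⟩ := ShStabLib.exists_hp k hL hTc (hd T)
  obtain ⟨hT2, hT1⟩ := alpha_invertible k hdim hL hT hpT hpO
  rw [form_of_cls k hdim hL hT t ht, ← hδdef, Int.cast_mul] at hT1
  obtain ⟨pM, -, hpM⟩ := ShStabLib.exists_hp k hL hMc (hd _)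
  obtain ⟨pR, hpR, hsM, hRc, -⟩ := ShStabLib.exists_hp_coker k hL l hTc hMc (hd _) hpT hpM
  have hRd : ShStabLib.DimLE 1 (cokernel l) := dimLE_one_of_notMem hdim (DevLib.isClosed_support hRc)
    fun h => h (LazMuk.subsingleton_stalk_cokernel l η hlη)
  obtain ⟨hR2, hR1⟩ := LazMuk.alpha_of_dimLE_one k hL hRc hRd hpR
  have hq0 : (0 : ℚ) ≤ alpha 1 pR := ShStabLib.alpha_nonneg k hL hRc hRd hpR
  have hM2 : alpha 2 pM = (δ : ℚ) := by rw [hsM, ShStabLib.alpha_add, hR2, add_zero, hT2]
  have hMb : alpha 1 pM / alpha 2 pM ≤ alpha 1 pV / alpha 2 pV :=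
    hμ.2.2.2.2 _ κ inferInstance hMc pM pV hpM hpV (by rw [hM2]; exact hδ') (by rw [hM2, hV2]; linarith)
  rw [hM2, hV2, hV1, div_le_div_iff₀ hδ' (by linarith)] at hMb
  -- the saturation is invertible
  obtain ⟨hMi⟩ : Nonempty (PicF.IsInvertible (kernel f)) := by
    rcases hcase with hVr | ht0
    · obtain ⟨s, hs⟩ := ParaFLib.exists_stalk_gen hT η
      have hb : Function.Bijective (stalkLin l η) := ⟨(PullbackMod.mono_iff_stalk l).1 inferInstance η, hlη⟩
      have hgen1 : Function.Bijective fun r : X.presheaf.stalk η => r • stalkLin l η s := by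
        have : (fun r : X.presheaf.stalk η => r • stalkLin l η s) = stalkLin l η ∘ fun r => r • s :=
          funext fun r => (map_smul _ r s).symm
        rw [this]
        exact hb.comp hs
      obtain ⟨T', b', hT', hb', hb0⟩ := exists_ddual_invertible k hdim hMc hMtf hgen1
      haveI := hb'
      have hT'c := CurveLib.isCoh_of_isInvertible hT'
      haveI := hT'c.1
      obtain ⟨ψ, hψ⟩ := exists_extend_finite k hdim b' hMc hT'c hb0 hV hVr κ
      have hbη : Function.Surjective (stalkLin b' η) :=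
        LazMuk.mem_support_coker_iff b' η fun h => by
          have hcl := DevLib.isClosed_support (QCohLib.isCoh_kernel_cokernel b' hMc hT'c).2
          have := (Topology.IsEmbedding.inclusion (show (Set.univ : Set X) ⊆ CohB1.support (cokernel b') from
            fun y _ => (genericPoint_specializes y).mem_closed hcl h)).isInducing.topologicalKrullDim_le.trans hb0
          rw [(Homeomorph.Set.univ X).isHomeomorph.topologicalKrullDim_eq, hdim] at this
          exact absurd this (by norm_num)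
      have hT'tf := TFCurvSSLib.isTorsionFree_flf (CurveLib.isFinLocFreeOfRank_one hT')
      have hψf : ψ ≫ f = 0 := LazMuk.hom_eq_zero_of_generic
        (isTorsionFree_of_isTF (MuSimpleLib.isTF_of_isReflexive (RefOne.isReflexive_dual (RefOne.isCoh_dual hQ0)))) _
        (LinearMap.ext fun z => by
          obtain ⟨w, rfl⟩ := hbη z
          rw [← LinearMap.comp_apply, ← stalkLin_comp, ← Category.assoc, hψ, kernel.condition, TFOneLib.stalkLin_zero]
          rfl)
      let g := kernel.lift f ψ hψf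
      have hbg : b' ≫ g = 𝟙 _ := (cancel_mono κ).1 (by rw [Category.assoc, kernel.lift_ι, hψ, Category.id_comp])
      have hgb : g ≫ b' = 𝟙 _ := sub_eq_zero.1 (LazMuk.hom_eq_zero_of_generic hT'tf _ (LinearMap.ext fun z => by
        obtain ⟨w, rfl⟩ := hbη z
        rw [← LinearMap.comp_apply, ← stalkLin_comp, Preadditive.comp_sub, ← Category.assoc, hbg, Category.id_comp,
          Category.comp_id, sub_self, TFOneLib.stalkLin_zero]
        rfl))
      exact ⟨ParaFLib.isInvertible_of_iso (⟨g, b', hgb, hbg⟩ : T' ≅ kernel f) hT'⟩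
    · subst ht0
      rw [zpow_zero] at ht
      obtain ⟨eT⟩ := (PicGrp.cls_eq_one_iff hT).1 ht
      rw [hsM, ShStabLib.alpha_add, hT1, hR1] at hMb
      have hq : pairing k (cokernel l) (cl hL.1) < δ := by
        have : (pairing k (cokernel l) (cl hL.1) : ℚ) < δ := by push_cast at hMb ⊢; nlinarith
        exact_mod_cast this
      have hfin : topologicalKrullDim (CohB1.support (cokernel l)) ≤ 0 := by
        obtain ⟨I, hI, ⟨θ⟩⟩ := AmpleEmb.exists_isInverseOf hL.1
        have hgenI : ∀ z : PicLoc.PicSet X, ∃ n : ℤ, z = PicGrp.cls I hI ^ n := fun z => by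
          obtain ⟨n, hn⟩ := hgen z
          exact ⟨-n, by rw [← PicGrp.cls_inv_eq_cls hL.1 hI ⟨θ⟩, inv_zpow', neg_neg, hn]⟩
        by_contra hne
        refine not_le.2 hq (LazMuk.le_pairing_of_curves k hL δ
          (fun J hJi hJd => LazMuk.le_pairing_curve k hdim hI hL θ hgenI J hJi hJd) hRc
          (ShStabLib.le_of_lt_natCast_add_one _ 1 hRd) fun hlt => hne ?_)
        have := ShStabLib.le_of_lt_natCast_add_one _ 0 (by exact_mod_cast hlt)
        exact_mod_cast this
      have hTtf := TFCurvSSLib.isTorsionFree_flf (CurveLib.isFinLocFreeOfRank_one hT)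
      have hTr : RefHull.IsReflexive T := ASBunKS.isReflexive_invertible hT
      obtain ⟨g, hg⟩ := exists_extend_finite k hdim l hTc hMc hfin hTc hTr (𝟙 T)
      have hgl : g ≫ l = 𝟙 _ := sub_eq_zero.1 (LazMuk.hom_eq_zero_of_generic hMtf _ (LinearMap.ext fun z => by
        obtain ⟨w, rfl⟩ := hlη z
        rw [← LinearMap.comp_apply, ← stalkLin_comp, Preadditive.comp_sub, ← Category.assoc, hg, Category.id_comp,
          Category.comp_id, sub_self, TFOneLib.stalkLin_zero]
        rfl))
      exact ⟨ParaFLib.isInvertible_of_iso (⟨l, g, hg, hgl⟩ : T ≅ kernel f) hT⟩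
  obtain ⟨m, hm⟩ := hgen (PicGrp.cls (kernel f) hMi)
  obtain ⟨-, hM1⟩ := alpha_invertible k hdim hL hMi hpM hpO
  rw [form_of_cls k hdim hL hMi m hm, ← hδdef, Int.cast_mul] at hM1
  have htm : t ≤ m := by
    have h := congrArg (alpha 1) hsM
    rw [ShStabLib.alpha_add, hT1, hM1] at h
    have : (t : ℚ) * δ ≤ (m : ℚ) * δ := by linarith
    exact_mod_cast le_of_mul_le_mul_right this hδ'
  have hm0 : m ≤ 0 := by
    rw [hM1] at hMb
    by_contra hlt
    have h1 : (1 : ℚ) ≤ m := by exact_mod_cast (not_le.1 hlt : (0 : ℤ) < m)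
    nlinarith [mul_le_mul_of_nonneg_right h1 hδ'.le]
  -- the quotient
  obtain ⟨pN, hpN, hsV, hNc, -⟩ := ShStabLib.exists_hp_coker k hL κ hMc hV (hd V) hpM hpV
  have hDtf : TorSh.IsTorsionFree D :=
    isTorsionFree_of_isTF (MuSimpleLib.isTF_of_isReflexive (RefOne.isReflexive_dual (RefOne.isCoh_dual hQ0)))
  have hNtf : TorSh.IsTorsionFree (cokernel κ) :=
    TFCurvSSLib.torsionFree_of_mono (Abelian.factorThruCoimage f : cokernel κ ⟶ D) hDtf
  haveI := hNc.1
  have hN2 : alpha 2 pN = (δ : ℚ) := by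
    have h := congrArg (alpha 2) hsV
    rw [ShStabLib.alpha_add, hM2, hV2] at h
    linarith
  have hN1 : alpha 1 pN = alpha 1 pO + (1 - (m : ℚ)) * δ := by
    have h := congrArg (alpha 1) hsV
    rw [ShStabLib.alpha_add, hM1, hV1] at h
    linarith
  have hg1 : VBLib.grk (cokernel κ) = 1 := by
    have h := alpha_two_eq k hdim hL hNc hpN
    rw [hN2, ← hδdef] at h
    have h' : ((VBLib.grk (cokernel κ) : ℕ) : ℚ) = 1 := by nlinarith
    exact_mod_cast h'
  haveI := VBLib.finite_generic hNc
  obtain ⟨s, hs0, hs⟩ := finrank_eq_one_iff'.1 hg1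
  have hsb : Function.Bijective fun r : X.presheaf.stalk η => r • s :=
    ⟨fun a b h => smul_left_injective _ hs0 h, fun z => hs z⟩
  obtain ⟨L', ι, hL', hι, hι0⟩ := exists_ddual_invertible k hdim hNc hNtf hsb
  haveI := hι
  have hι' : ι ≠ 0 := fun h => hs0 ((PullbackMod.mono_iff_stalk ι).1 inferInstance η (by
    rw [h, TFOneLib.stalkLin_zero, LinearMap.zero_apply, LinearMap.zero_apply]))
  obtain ⟨u, hu⟩ := hgen (PicGrp.cls L' hL')
  obtain ⟨pL', -, hpL'⟩ := ShStabLib.exists_hp k hL (CurveLib.isCoh_of_isInvertible hL') (hd _)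
  obtain ⟨-, hL'1⟩ := alpha_invertible k hdim hL hL' hpL' hpO
  rw [form_of_cls k hdim hL hL' u hu, ← hδdef, Int.cast_mul] at hL'1
  obtain ⟨q, -, -, hq1, -, hqfin⟩ := rank_one_sub k hdim hL hgen ι hNc hL' hι' hpN hpL'
  rw [hqfin hι0, hL'1, hN1] at hq1
  have hum : u = 1 - m := by
    have : (u : ℚ) * δ = (1 - (m : ℚ)) * δ := by push_cast at hq1; linarith
    exact_mod_cast mul_right_cancel₀ hδ'.ne' this
  subst hum
  exact ⟨m, htm, hm0, kernel f, hMi, hm, L', hL', hu, cokernel κ, ι, hι, hNc, hι0, κ, cokernel.π κ,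
    cokernel.condition κ, DevLib.cokerSeq_shortExact κ⟩

end Groth.Agent.ExtStab
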