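import Groth.Agent.ExtStabLib.PicInt
import Groth.Agent.ExtStabLib.RankTwo
import Groth.Agent.ExtStabLib.DoubleDual
import Groth.Agent.S1689
import Groth.Agent.KRRAmple.Basic
import Groth.Agent.IdealMulLib.Basic

/-!
# Extensions of ideals of points on surfaces which are not locally free
-/

set_option autoImplicit false
set_option backward.isDefEq.respectTransparency false
set_option linter.style.haveILetI false
set_option maxHeartbeats 1000000
set_option synthInstance.maxHeartbeats 200000

universe u

open CategoryTheory CategoryTheory.Limits AlgebraicGeometry TopologicalSpace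
open Groth.Agent.PullbackMod Groth.Agent.DCohLib

noncomputable section

namespace Groth.Agent.ExtStab

variable {X : Scheme.{u}}

/-- Submodules of torsion-free modules are torsion-free. -/
theorem tf_of_mono {A B : X.Modules} (f : A ⟶ B) [Mono f] (hB : TorSh.IsTorsionFree B) : TorSh.IsTorsionFree A :=
  fun x => by
    haveI := hB x
    refine ⟨fun a ha m m' he => (mono_iff_stalk f).1 inferInstance x ?_⟩
    exact (Module.IsTorsionFree.isSMulRegular ha) (by
      show a • stalkLin f x m = a • stalkLin f x m'
      rw [← map_smul, ← map_smul]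
      exact congrArg _ he)

/-- The stalks of a short exact sequence. -/
theorem stalk_exact {A B C : X.Modules} {f : A ⟶ B} {g : B ⟶ C} {w : f ≫ g = 0}
    (hS : (ShortComplex.mk f g w).ShortExact) (x : X) :
    Function.Injective (stalkLin f x) ∧ Function.Exact (stalkLin f x) (stalkLin g x) ∧
      Function.Surjective (stalkLin g x) :=
  ⟨(mono_iff_stalk f).1 hS.mono_f x, SyzLib.exact_stalkLin' _ hS.exact x, (epi_iff_stalk g).1 hS.epi_g x⟩

/-- Extensions of torsion-free modules are torsion-free. -/
theorem tf_of_shortExact {A B C : X.Modules} {f : A ⟶ B} {g : B ⟶ C} {w : f ≫ g = 0}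
    (hS : (ShortComplex.mk f g w).ShortExact) (hA : TorSh.IsTorsionFree A) (hC : TorSh.IsTorsionFree C) :
    TorSh.IsTorsionFree B := fun x => by
  haveI := hA x
  haveI := hC x
  obtain ⟨hinj, hex, -⟩ := stalk_exact hS x
  refine ⟨fun a ha m m' he => sub_eq_zero.1 ?_⟩
  have he' : a • (m - m') = 0 := by rw [smul_sub]; exact sub_eq_zero.2 he
  have h1 : stalkLin g x (m - m') = 0 := (Module.IsTorsionFree.isSMulRegular ha) (by
    show a • stalkLin g x (m - m') = a • (0 : C.presheaf.stalk x)
    rw [← map_smul, he', map_zero, smul_zero])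
  obtain ⟨t, ht⟩ := (hex _).1 h1
  have h2 : t = 0 := (Module.IsTorsionFree.isSMulRegular ha) (by
    show a • t = a • (0 : A.presheaf.stalk x)
    rw [smul_zero]
    exact hinj (by rw [map_smul, ht, he', map_zero]))
  rw [← ht, h2, map_zero]

/-- Quasi-coherent submodules of the structure sheaf are ideals, compatibly with the inclusions. -/
theorem exists_idealMod_comp {F : X.Modules} [Coh.IsQCoh F] (s : F ⟶ Coh.structureModule X) [Mono s] :
    ∃ (J : X.IdealSheafData) (e : F ≅ ClSub.idealMod J), e.hom ≫ ClSub.idealModι J = s := by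
  have hs : ∀ V : X.Opens, Function.Injective (s.app V) := CohCmpLib.injective_app_of_mono s
  obtain ⟨w, h⟩ := HypSurfLib.exists_shortExact s hs (HypSurfLib.imageIdeal s) fun _ => rfl
  refine ⟨HypSurfLib.imageIdeal s, IsLimit.conePointUniqueUpToIso h.fIsKernel (limit.isLimit _), ?_⟩
  exact IsLimit.conePointUniqueUpToIso_hom_comp h.fIsKernel (limit.isLimit _) WalkingParallelPair.zero

/-- A map of ideals over the structure sheaf is an inclusion. -/
theorem le_of_idealMod_hom {A B : X.IdealSheafData} (f : ClSub.idealMod A ⟶ ClSub.idealMod B)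
    (hf : f ≫ ClSub.idealModι B = ClSub.idealModι A) : A ≤ B := fun U x hx => by
  obtain ⟨m, hm⟩ := (OmegaAffLib.mem_range_idealSect A U x).1 hx
  refine (OmegaAffLib.mem_range_idealSect B U x).2 ⟨f.app U.1 m, ?_⟩
  rw [← hm]
  show (f ≫ ClSub.idealModι B).app U.1 m = (ClSub.idealModι A).app U.1 m
  rw [hf]

variable (k : Type u) [Field k] [X.Over (Spec (CommRingCat.of k))] [IsProper (X ↘ Spec (CommRingCat.of k))]

include k in
/-- Finite closed subsets have dimension at most zero. -/
theorem dim_le_zero_of_finite_closed {Z : Set X} (hZ : IsClosed Z) (hfin : Z.Finite) :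
    topologicalKrullDim Z ≤ 0 := by
  haveI : JacobsonSpace X := LocallyOfFiniteType.jacobsonSpace (X ↘ Spec (CommRingCat.of k))
  have hcl : ∀ z ∈ Z, IsClosed ({z} : Set X) := by
    have hf : (Z ∩ closedPoints X).Finite := hfin.subset Set.inter_subset_left
    have hc : IsClosed (Z ∩ closedPoints X) := by
      rw [← Set.biUnion_of_singleton (Z ∩ closedPoints X)]
      exact hf.isClosed_biUnion fun y hy => hy.2
    intro z hz
    have : z ∈ closure (Z ∩ closedPoints X) := by
      rw [JacobsonSpace.closure_inter_closedPoints hZ]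
      exact hz
    rw [hc.closure_eq] at this
    exact this.2
  haveI : Finite Z := hfin.to_subtype
  haveI : T1Space Z := ⟨fun z => by
    have h := (hcl z.1 z.2).preimage (continuous_subtype_val (p := (· ∈ Z)))
    convert h using 1
    ext w
    exact Subtype.ext_iff⟩
  exact topologicalKrullDim_zero_of_discreteTopology Z

variable [IsIntegral X] [Smooth (X ↘ Spec (CommRingCat.of k))]

include k in
/-- A monomorphism from a reflexive module into a torsion-free one with finite cokernel is an isomorphism. -/
theorem isIso_of_finite_coker (hdim : topologicalKrullDim X = 2) {A B : X.Modules} (g : A ⟶ B) [Mono g]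
    (hA : Coh.IsCoh A) (hB : Coh.IsCoh B) (hAr : RefHull.IsReflexive A) (hBt : TorSh.IsTorsionFree B)
    (hc : topologicalKrullDim (CohB1.support (cokernel g)) ≤ 0) : IsIso g := by
  haveI := EulerIneqLib.isNoetherian_proper (X := X) k
  haveI := hB.1
  obtain ⟨ψ, hψ⟩ := exists_extend_finite k hdim g hA hB hc hA hAr (𝟙 A)
  have hη : genericPoint X ∉ CohB1.support (cokernel g) := fun h => by
    have hu : (Set.univ : Set X) ⊆ CohB1.support (cokernel g) := by
      rw [← (genericPoint_spec X).def]
      exact (DevLib.isClosed_support (QCohLib.isCoh_kernel_cokernel g hA hB).2).closure_subset_iff.2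
        (Set.singleton_subset_iff.2 h)
    have h1 := (Homeomorph.Set.univ X).isHomeomorph.topologicalKrullDim_eq.ge.trans
      ((Topology.IsEmbedding.inclusion hu).isInducing.topologicalKrullDim_le.trans hc)
    rw [hdim] at h1
    exact absurd h1 (by norm_num)
  have hzero : 𝟙 B - ψ ≫ g = 0 := LazMuk.hom_eq_zero_of_generic hBt _ (LinearMap.ext fun z => by
    obtain ⟨y, rfl⟩ := LazMuk.mem_support_coker_iff g (genericPoint X) hη z
    rw [← LinearMap.comp_apply, ← stalkLin_comp, Preadditive.comp_sub, Category.comp_id, ← Category.assoc, hψ,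
      Category.id_comp, sub_self, DevLib.stalkLin_zero]
    rfl)
  exact ⟨⟨ψ, hψ, (sub_eq_zero.1 hzero).symm⟩⟩

include k in
/-- An extension of an ideal of points by an invertible module is not locally free exactly when it comes from
a larger ideal. -/
theorem not_flf_iff (hdim : topologicalKrullDim X = 2) {M : X.Modules} (hM : PicF.IsInvertible M)
    (IZ : X.IdealSheafData) (hZ : (IZ.support : Set X).Finite)
    (F : X.Modules) (a : M ⟶ F) (b : F ⟶ ClSub.idealMod IZ) (w : a ≫ b = 0)
    (hex : (ShortComplex.mk a b w).ShortExact) :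
    ¬ FlatMod.IsFinLocFree F ↔
      ∃ (I' : X.IdealSheafData) (F' : X.Modules) (a' : M ⟶ F') (b' : F' ⟶ ClSub.idealMod I') (w' : a' ≫ b' = 0)
        (φ : ClSub.idealMod IZ ⟶ ClSub.idealMod I') (g : F ⟶ F'),
        IZ < I' ∧ (ShortComplex.mk a' b' w').ShortExact ∧ φ ≫ ClSub.idealModι I' = ClSub.idealModι IZ ∧
          a ≫ g = a' ∧ g ≫ b' = b ≫ φ := by
  haveI := EulerIneqLib.isNoetherian_proper (X := X) k
  have hreg := fun x => ASp.isRegularLocalRing_stalk_of_smooth_field (X ↘ Spec (CommRingCat.of k)) x
  have hMc : Coh.IsCoh M := CurveLib.isCoh_of_isInvertible hM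
  haveI := hMc.1
  have hMr : RefHull.IsReflexive M := ASBunKS.isReflexive_invertible hM
  have hMt : TorSh.IsTorsionFree M := TFCurvSSLib.isTorsionFree_flf (CurveLib.isFinLocFreeOfRank_one hM)
  have hOi : PicF.IsInvertible (Coh.structureModule X) := ParaFLib.isInvertible_structureModule
  have hOc : Coh.IsCoh (Coh.structureModule X) := DevLib.isCoh_structureModule X
  have hOt : TorSh.IsTorsionFree (Coh.structureModule X) :=
    TFCurvSSLib.isTorsionFree_flf (CurveLib.isFinLocFreeOfRank_one hOi)
  have hZd : topologicalKrullDim (IZ.support : Set X) ≤ 0 := dim_le_zero_of_finite_closed k IZ.support.isClosed hZ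
  have hιbij : ∀ (J : X.IdealSheafData) (x : X), x ∉ (J.support : Set X) →
      Function.Bijective (stalkLin (ClSub.idealModι J) x) := fun J x hx => by
    obtain ⟨hinj, hran⟩ := RefOne.idealModι_stalk J x
    refine ⟨hinj, fun z => ?_⟩
    obtain ⟨r, rfl⟩ := (RefOne.oEquiv x).surjective z
    exact (hran r).2 (by rw [IdealMulLib.stalkIdeal_eq_top J hx]; trivial)
  haveI : ∀ J : X.IdealSheafData, Mono (ClSub.idealModι J) := fun J => inferInstanceAs (Mono (kernel.ι _))
  have hit : ∀ J : X.IdealSheafData, TorSh.IsTorsionFree (ClSub.idealMod J) := fun J =>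
    tf_of_mono (ClSub.idealModι J) hOt
  have hIc := RefOne.isCoh_idealMod IZ
  have hFc : Coh.IsCoh F := QCohLib.isCoh_X₂ hex hMc hIc
  haveI := hFc.1
  have hFt : TorSh.IsTorsionFree F := tf_of_shortExact hex hMt (hit IZ)
  constructor
  · intro hnflf
    -- the reflexive hull
    let F' := RefHull.ddual F
    let g : F ⟶ F' := RefHull.bidualMap F
    have hF'c : Coh.IsCoh F' := RefOne.isCoh_dual (RefOne.isCoh_dual hFc)
    haveI := hF'c.1
    have hF'r : RefHull.IsReflexive F' := RefOne.isReflexive_dual (RefOne.isCoh_dual hFc)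
    have hF'flf : FlatMod.IsFinLocFree F' :=
      (S1689.result X hreg hdim.le F' hF'c).1 ((RefOne.isReflexive_iff hF'c).1 hF'r)
    obtain ⟨r, hr⟩ := Groth.Agent.KRRAmple.exists_isFinLocFreeOfRank hF'flf
    have hF't : TorSh.IsTorsionFree F' := TFCurvSSLib.isTorsionFree_flf hr
    haveI : Mono g := LazMuk.mono_of_generic hFt _ (bijective_bidual_generic hFc).1
    have hX := NormalRefLib.normal_of_regular (X := X) hreg
    have hgsupp : topologicalKrullDim (CohB1.support (cokernel g)) ≤ 0 := by
      have hlow : ∀ y ∈ CohB1.support (cokernel g), (2 : WithBot ℕ∞) ≤ ringKrullDim (X.presheaf.stalk y) :=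
        fun y hy => by_contra fun h => hy (LazMuk.subsingleton_stalk_cokernel _ y
          ((RefOne.bijective_bidual_stalk_iff hFc y).2 (NormalRefLib.isReflexiveAt_of_low hX hFc hFt h)).2)
      have hlt := dim_lt_of_codim_two k (DevLib.isClosed_support (QCohLib.isCoh_kernel_cokernel g hFc hF'c).2)
        (n := 1) (by exact_mod_cast hdim.le) hlow
      have := ShStabLib.le_of_lt_natCast_add_one _ 0 (by exact_mod_cast hlt)
      exact_mod_cast this
    haveI : Mono a := hex.mono_f
    let a' : M ⟶ F' := a ≫ g
    haveI : Mono a' := mono_comp _ _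
    let N := cokernel a'
    let π : F' ⟶ N := cokernel.π a'
    have hNc : Coh.IsCoh N := (QCohLib.isCoh_kernel_cokernel a' hMc hF'c).2
    haveI := hNc.1
    haveI : Epi (ShortComplex.mk a b w).g := hex.epi_g
    have haπ : a ≫ g ≫ π = 0 := by rw [← Category.assoc]; exact cokernel.condition a'
    obtain ⟨j, hj⟩ : ∃ j : ClSub.idealMod IZ ⟶ N, b ≫ j = g ≫ π :=
      ⟨hex.exact.desc (g ≫ π) haπ, hex.exact.g_desc _ _⟩
    have hsπ : (ShortComplex.mk a' π (cokernel.condition a')).ShortExact :=
      ShortComplex.ShortExact.mk' (ShortComplex.exact_of_g_is_cokernel _ (cokernelIsCokernel a')) inferInstance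
        inferInstance
    haveI : Mono j := (mono_iff_stalk j).2 fun x => by
      obtain ⟨-, hexF, hbs⟩ := stalk_exact hex x
      obtain ⟨-, hexπ, -⟩ := stalk_exact hsπ x
      rw [injective_iff_map_eq_zero]
      intro y hy
      obtain ⟨m, rfl⟩ := hbs y
      rw [← LinearMap.comp_apply, ← stalkLin_comp, hj, stalkLin_comp, LinearMap.comp_apply] at hy
      obtain ⟨t, ht⟩ := (hexπ _).1 hy
      have hm : stalkLin a x t = m := (mono_iff_stalk g).1 inferInstance x (by
        rw [← LinearMap.comp_apply, ← stalkLin_comp]; exact ht)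
      rw [← hm, ← LinearMap.comp_apply, ← stalkLin_comp, w, DevLib.stalkLin_zero]
      rfl
    have hjsurj : ∀ x : X, x ∉ CohB1.support (cokernel g) → Function.Surjective (stalkLin j x) := fun x hx z => by
      obtain ⟨-, -, hπs⟩ := stalk_exact hsπ x
      obtain ⟨y, rfl⟩ := hπs z
      obtain ⟨m, rfl⟩ := LazMuk.mem_support_coker_iff g x hx y
      exact ⟨stalkLin b x m, by
        rw [← LinearMap.comp_apply, ← stalkLin_comp, hj, stalkLin_comp, LinearMap.comp_apply]⟩
    have hjd : topologicalKrullDim (CohB1.support (cokernel j)) ≤ 0 := by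
      refine (Topology.IsEmbedding.inclusion ?_).isInducing.topologicalKrullDim_le.trans hgsupp
      intro x hx
      by_contra h
      exact hx (LazMuk.subsingleton_stalk_cokernel _ x (hjsurj x h))
    obtain ⟨h, hh⟩ := exists_extend_finite k hdim j hIc hNc hjd hOc (ASBunKS.isReflexive_invertible hOi)
      (ClSub.idealModι IZ)
    -- the extended inclusion is injective
    let M' := kernel (π ≫ h)
    have hM'c : Coh.IsCoh M' := (QCohLib.isCoh_kernel_cokernel (π ≫ h) hF'c hOc).1
    let m : M ⟶ M' := kernel.lift (π ≫ h) a' (by rw [← Category.assoc, cokernel.condition, Limits.zero_comp])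
    haveI : Mono m := mono_of_mono_fac (kernel.lift_ι (π ≫ h) a' _)
    have hmd : topologicalKrullDim (CohB1.support (cokernel m)) ≤ 0 := by
      refine (Topology.IsEmbedding.inclusion ?_).isInducing.topologicalKrullDim_le.trans hgsupp
      intro x hx
      by_contra hn
      refine hx (LazMuk.subsingleton_stalk_cokernel _ x fun z => ?_)
      have hz : stalkLin h x (stalkLin π x (stalkLin (kernel.ι (π ≫ h)) x z)) = 0 := by
        rw [← LinearMap.comp_apply (stalkLin h x), ← stalkLin_comp, ← LinearMap.comp_apply, ← stalkLin_comp,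
          kernel.condition, DevLib.stalkLin_zero]
        rfl
      obtain ⟨u, hu⟩ := hjsurj x hn (stalkLin π x (stalkLin (kernel.ι (π ≫ h)) x z))
      have hu0 : u = 0 := (mono_iff_stalk (ClSub.idealModι IZ)).1 inferInstance x (by
        rw [map_zero, ← hh, stalkLin_comp, LinearMap.comp_apply, hu, hz])
      rw [hu0, map_zero] at hu
      obtain ⟨t, ht⟩ := ((stalk_exact hsπ x).2.1 _).1 hu.symm
      refine ⟨t, (mono_iff_stalk (kernel.ι (π ≫ h))).1 inferInstance x ?_⟩
      rw [← LinearMap.comp_apply, ← stalkLin_comp, kernel.lift_ι]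
      exact ht
    haveI : IsIso m := isIso_of_finite_coker k hdim m hMc hM'c hMr (tf_of_mono (kernel.ι (π ≫ h)) hF't) hmd
    haveI : Mono h := (mono_iff_stalk h).2 fun x => by
      rw [injective_iff_map_eq_zero]
      intro z hz
      obtain ⟨y, rfl⟩ := (stalk_exact hsπ x).2.2 z
      have hexk := SyzLib.exact_stalkLin' (ShortComplex.mk (kernel.ι (π ≫ h)) (π ≫ h) (kernel.condition _))
        (ShortComplex.exact_of_f_is_kernel _ (kernelIsKernel (π ≫ h))) x
      obtain ⟨v, hv⟩ := (hexk y).1 (by
        show stalkLin (π ≫ h) x y = 0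
        rw [stalkLin_comp, LinearMap.comp_apply, hz])
      obtain ⟨t, rfl⟩ := ((isIso_iff_stalk m).1 inferInstance x).2 v
      rw [← hv]
      show stalkLin π x (stalkLin (kernel.ι (π ≫ h)) x (stalkLin m x t)) = 0
      rw [← LinearMap.comp_apply (stalkLin (kernel.ι (π ≫ h)) x), ← stalkLin_comp, kernel.lift_ι,
        ← LinearMap.comp_apply, ← stalkLin_comp, cokernel.condition, DevLib.stalkLin_zero]
      rfl
    obtain ⟨I', e, he⟩ := exists_idealMod_comp h
    have w' : a' ≫ π ≫ e.hom = 0 := by rw [← Category.assoc, cokernel.condition, Limits.zero_comp]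
    have hφ : (j ≫ e.hom) ≫ ClSub.idealModι I' = ClSub.idealModι IZ := by rw [Category.assoc, he, hh]
    refine ⟨I', F', a', π ≫ e.hom, w', j ≫ e.hom, g, lt_of_le_of_ne (le_of_idealMod_hom _ hφ) ?_, ?_, hφ, rfl, ?_⟩
    · intro heq
      subst heq
      have h1 : j ≫ e.hom = 𝟙 _ := by rw [← cancel_mono (ClSub.idealModι IZ), hφ, Category.id_comp]
      haveI : IsIso j := by
        haveI : IsIso (j ≫ e.hom) := by rw [h1]; infer_instance
        exact IsIso.of_isIso_comp_right j e.hom
      haveI : IsIso g := (isIso_iff_stalk g).2 fun x => ⟨(mono_iff_stalk g).1 inferInstance x, fun y => by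
        obtain ⟨u, hu⟩ := ((isIso_iff_stalk j).1 inferInstance x).2 (stalkLin π x y)
        obtain ⟨n, rfl⟩ := (stalk_exact hex x).2.2 u
        rw [← LinearMap.comp_apply, ← stalkLin_comp, hj, stalkLin_comp, LinearMap.comp_apply] at hu
        obtain ⟨t, ht⟩ := ((stalk_exact hsπ x).2.1 (y - stalkLin g x n)).1 (by
          show stalkLin π x (y - stalkLin g x n) = 0
          rw [map_sub, hu, sub_self])
        refine ⟨n + stalkLin a x t, ?_⟩
        have ht' : stalkLin g x (stalkLin a x t) = y - stalkLin g x n := by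
          rw [← LinearMap.comp_apply, ← stalkLin_comp]; exact ht
        rw [map_add, ht', add_sub_cancel]⟩
      exact hnflf (S1689.result X hreg hdim.le F hFc |>.1 ((RefOne.isReflexive_iff hFc).1
        (show IsIso (RefHull.bidualMap F) from inferInstanceAs (IsIso g))))
    · exact ShortComplex.shortExact_of_iso
        (ShortComplex.isoMk (Iso.refl _) (Iso.refl _) e (by simp) (by simp) :
          ShortComplex.mk a' π (cokernel.condition a') ≅ ShortComplex.mk a' (π ≫ e.hom) w') hsπ
    · rw [← Category.assoc, ← hj, Category.assoc]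
  · rintro ⟨I', F', a', b', w', φ, g, hlt, hex', hφ, hag, hgb⟩ hflf
    have hI'c := RefOne.isCoh_idealMod I'
    have hF'c : Coh.IsCoh F' := QCohLib.isCoh_X₂ hex' hMc hI'c
    have hF't : TorSh.IsTorsionFree F' := tf_of_shortExact hex' hMt (hit I')
    haveI : Mono φ := mono_of_mono_fac hφ
    haveI : Mono g := (mono_iff_stalk g).2 fun x => by
      rw [injective_iff_map_eq_zero]
      intro m hm
      have h1 : stalkLin b x m = 0 := (mono_iff_stalk φ).1 inferInstance x (by
        rw [← LinearMap.comp_apply, ← stalkLin_comp, ← hgb, stalkLin_comp, LinearMap.comp_apply, hm, map_zero,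
          map_zero])
      obtain ⟨t, ht⟩ := ((stalk_exact hex x).2.1 m).1 h1
      have h2 : t = 0 := (stalk_exact hex' x).1 (by
        rw [map_zero, ← hag, stalkLin_comp, LinearMap.comp_apply, ht, hm])
      rw [← ht, h2, map_zero]
    have hgsurj : ∀ x : X, Function.Surjective (stalkLin φ x) → Function.Surjective (stalkLin g x) := fun x hs y => by
      obtain ⟨u, hu⟩ := hs (stalkLin b' x y)
      obtain ⟨n, rfl⟩ := (stalk_exact hex x).2.2 u
      rw [← LinearMap.comp_apply, ← stalkLin_comp, ← hgb, stalkLin_comp, LinearMap.comp_apply] at hu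
      obtain ⟨t, ht⟩ := ((stalk_exact hex' x).2.1 (y - stalkLin g x n)).1 (by
        show stalkLin b' x (y - stalkLin g x n) = 0
        rw [map_sub, hu, sub_self])
      refine ⟨n + stalkLin a x t, ?_⟩
      have ht' : stalkLin g x (stalkLin a x t) = y - stalkLin g x n := by
        rw [← LinearMap.comp_apply, ← stalkLin_comp, hag]; exact ht
      rw [map_add, ht', add_sub_cancel]
    have hgd : topologicalKrullDim (CohB1.support (cokernel g)) ≤ 0 := by
      refine (Topology.IsEmbedding.inclusion ?_).isInducing.topologicalKrullDim_le.trans hZd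
      intro x hx
      by_contra hn
      refine hx (LazMuk.subsingleton_stalk_cokernel _ x (hgsurj x fun z => ?_))
      obtain ⟨y, hy⟩ := (hιbij IZ x hn).2 (stalkLin (ClSub.idealModι I') x z)
      refine ⟨y, (mono_iff_stalk (ClSub.idealModι I')).1 inferInstance x ?_⟩
      rw [← LinearMap.comp_apply, ← stalkLin_comp, hφ, hy]
    have hFr : RefHull.IsReflexive F :=
      (RefOne.isReflexive_iff hFc).2 ((S1689.result X hreg hdim.le F hFc).2 hflf)
    haveI : IsIso g := isIso_of_finite_coker k hdim g hFc hF'c hFr hF't hgd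
    haveI : Epi b' := hex'.epi_g
    haveI : Epi φ := by
      haveI : Epi (b ≫ φ) := by rw [← hgb]; exact epi_comp _ _
      exact epi_of_epi b φ
    haveI : IsIso φ := isIso_of_mono_of_epi φ
    exact hlt.ne (le_antisymm hlt.le (le_of_idealMod_hom (inv φ) (by rw [IsIso.inv_comp_eq, hφ])))

end Groth.Agent.ExtStab
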