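import Groth.Agent.ExtStabLib.ExtBidual
import Groth.Agent.S15848
import Groth.Agent.S1108
import Groth.Agent.S2427

/-!
# Biduality of torsion modules with two-term locally free resolutions
-/

set_option autoImplicit false
set_option backward.isDefEq.respectTransparency false
set_option linter.style.haveILetI false
set_option maxHeartbeats 1000000
set_option synthInstance.maxHeartbeats 200000

universe u

open CategoryTheory CategoryTheory.Limits AlgebraicGeometry
open Groth.Agent.PullbackMod Groth.Agent.DCohLib Groth.Agent.StalkHomLib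

noncomputable section

namespace Groth.Agent.ExtStab

variable {X : Scheme.{u}}

local instance hasHFc (M : X.Modules) : ModSite.HasSheafHom (O := X.sheaf) M :=
  ModTensor.hasSheafHom (O := X.sheaf) M

local instance additive_hFc (M : X.Modules) : (hF M).Additive :=
  (ModSite.sheafHomAdj (O := X.sheaf) M).right_adjoint_additive

/-- `Ext¹(Ext¹(Q, ω), ω) ≅ Q` for a torsion module `Q = P₀/P₁`. -/
theorem nonempty_extSh_bidual [IsIntegral X] [IsLocallyNoetherian X] [HasInjectiveResolutions X.Modules]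
    {S : ShortComplex X.Modules} (hS : S.ShortExact) (h₁ : FlatMod.IsFinLocFree S.X₁)
    (h₂ : FlatMod.IsFinLocFree S.X₂) (h₃ : Coh.IsCoh S.X₃)
    (ht : Subsingleton (S.X₃.presheaf.stalk (genericPoint X))) {ω : X.Modules} (hω : PicF.IsInvertible ω) :
    Nonempty (((hF (((hF S.X₃).rightDerived 1).obj ω)).rightDerived 1).obj ω ≅ S.X₃) := by
  have hflf : ∀ P : X.Modules, FlatMod.IsFinLocFree P → FlatMod.IsFinLocFree ((hF P).obj ω) := fun P hP => by
    haveI := LocFreeHomLib.isIso_alpha P hP ω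
    exact S2427.isFinLocFree_of_iso (asIso (LocFreeHomLib.alpha P ω))
      (DCohLib.isFinLocFree_tensor (CurveLib.isFinLocFree_of_isInvertible hω) (DCohMore.isFinLocFree_dual P hP))
  haveI := (CurveLib.isCoh_of_isInvertible hω).1
  obtain ⟨⟨c₁⟩, hm⟩ := nonempty_extSh_one_coker hS (CurveLib.isCoh_of_isFinLocFree h₁) h₂ h₃ ω
  let g := (ExtShLib.hFMap S.f).app ω
  haveI : Mono g := hm (isZero_hF_of_torsion S.X₃ ω ht
    (TFCurvSSLib.isTorsionFree_flf (CurveLib.isFinLocFreeOfRank_one hω)))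
  have d₂ := hflf _ h₂
  have d₁ := hflf _ h₁
  let T : ShortComplex X.Modules := ShortComplex.mk g (cokernel.π g) (cokernel.condition g)
  have hT : T.ShortExact := DevLib.cokerSeq_shortExact g
  obtain ⟨⟨c₂⟩, -⟩ := nonempty_extSh_one_coker hT (CurveLib.isCoh_of_isFinLocFree d₂) d₁
    (QCohLib.isCoh_kernel_cokernel g (CurveLib.isCoh_of_isFinLocFree d₂) (CurveLib.isCoh_of_isFinLocFree d₁)).2 ω
  obtain ⟨u⟩ := nonempty_extSh_congr c₁ ω 1
  haveI := isIso_bidual S.X₁ ω h₁ hω
  haveI := isIso_bidual S.X₂ ω h₂ hω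
  haveI := hS.epi_g
  let v : cokernel S.f ≅ cokernel ((ExtShLib.hFMap T.f).app ω) :=
    cokernel.mapIso _ _ (asIso (bidual S.X₁ ω)) (asIso (bidual S.X₂ ω))
      (bidual_natural S.X₂ ω S.f (CurveLib.isCoh_of_isFinLocFree d₂))
  exact ⟨u ≪≫ c₂ ≪≫ v.symm ≪≫ IsColimit.coconePointUniqueUpToIso (cokernelIsCokernel _) hS.exact.gIsCokernel⟩

/-- Both internal Homs give the same double Ext sheaf. -/
theorem nonempty_double_iso [HasInjectiveResolutions X.Modules] (Q ω : X.Modules) [DCoh.HasSheafHom Q]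
    [(DCoh.sheafHom Q).Additive] [DCoh.HasSheafHom (((DCoh.sheafHom Q).rightDerived 1).obj ω)]
    [(DCoh.sheafHom (((DCoh.sheafHom Q).rightDerived 1).obj ω)).Additive] :
    Nonempty (((DCoh.sheafHom (((DCoh.sheafHom Q).rightDerived 1).obj ω)).rightDerived 1).obj ω ≅
      ((hF (((hF Q).rightDerived 1).obj ω)).rightDerived 1).obj ω) := by
  haveI : HasInjectiveResolutions (ModSite.Mod X.sheaf) := ‹HasInjectiveResolutions X.Modules›
  obtain ⟨a⟩ := nonempty_rightDerived_sheafHom_iso (((DCoh.sheafHom Q).rightDerived 1).obj ω) ω 1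
  obtain ⟨b⟩ := nonempty_rightDerived_sheafHom_iso Q ω 1
  obtain ⟨c⟩ := nonempty_extSh_congr b ω 1
  exact ⟨a.symm ≪≫ c.symm⟩

end Groth.Agent.ExtStab
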