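import Groth.Agent.ExtStabLib.ExtSections
import Groth.Agent.DCohLib.ExtTensor
import Groth.Agent.TwistShriek.SurfCan

/-!
# The sheaf Hom out of a torsion module
-/

set_option autoImplicit false
set_option backward.isDefEq.respectTransparency false
set_option linter.style.haveILetI false
set_option maxHeartbeats 1000000

universe u

open CategoryTheory CategoryTheory.Limits AlgebraicGeometry
open Groth.Agent.PullbackMod Groth.Agent.DCohLib

noncomputable section

namespace Groth.Agent.ExtStab

variable {X : Scheme.{u}}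

/-- No maps from torsion modules into torsion-free ones, as sheaves. -/
theorem isZero_hF_of_torsion [IsIntegral X] [IsLocallyNoetherian X] (F G : X.Modules)
    [ModSite.HasSheafHom (O := X.sheaf) F] [Coh.IsQCoh G]
    (hF : Subsingleton (F.presheaf.stalk (genericPoint X))) (hG : TorSh.IsTorsionFree G) :
    IsZero ((StalkHomLib.hF F).obj G) := by
  rw [IsZero.iff_id_eq_zero]
  refine ((ModSite.sheafHomAdj (O := X.sheaf) F).homEquiv ((StalkHomLib.hF F).obj G) G).symm.injective ?_
  have key : ∀ φ : ((ModSite.tensorBi X.sheaf).flip.obj F).obj ((StalkHomLib.hF F).obj G) ⟶ G, φ = 0 := fun φ => by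
    refine LazMuk.hom_eq_zero_of_generic hG φ (LinearMap.ext fun z => ?_)
    haveI : Subsingleton ((tmod F ((StalkHomLib.hF F).obj G)).presheaf.stalk (genericPoint X)) :=
      subsingleton_stalk_tmod _ _ hF
    haveI : Subsingleton ((tmod ((StalkHomLib.hF F).obj G) F).presheaf.stalk (genericPoint X)) :=
      (Equiv.ofBijective _ (HilbLib.stalkLin_bijective_of_iso
        (CurveLib.tmodComm ((StalkHomLib.hF F).obj G) F) (genericPoint X))).subsingleton
    rw [Subsingleton.elim (α := (tmod ((StalkHomLib.hF F).obj G) F).presheaf.stalk (genericPoint X)) z 0, map_zero,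
      map_zero]
  exact (key _).trans (key _).symm

/-- The Ext sheaves of the two internal Homs. -/
theorem nonempty_rightDerived_sheafHom_iso [HasInjectiveResolutions X.Modules]
    [HasInjectiveResolutions (ModSite.Mod X.sheaf)] (F : X.Modules) [DCoh.HasSheafHom F]
    [(DCoh.sheafHom F).Additive] [ModSite.HasSheafHom (O := X.sheaf) F] (G : X.Modules) (q : ℕ) :
    Nonempty (((ModSite.extSh (O := X.sheaf) F q).obj G : X.Modules) ≅ ((DCoh.sheafHom F).rightDerived q).obj G) := by
  haveI : (StalkHomLib.hF F).Additive := (ModSite.sheafHomAdj (O := X.sheaf) F).right_adjoint_additive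
  let R := injectiveResolution G
  let e : StalkHomLib.hF F ≅ DCoh.sheafHom F :=
    Adjunction.rightAdjointUniq (ModSite.sheafHomAdj (O := X.sheaf) F)
      ((DCoh.sheafHomAdj F).ofNatIsoLeft (ModTensor.tensorSymm X.sheaf F).symm)
  exact ⟨R.isoRightDerivedObj (StalkHomLib.hF F) q ≪≫ (HomologicalComplex.homologyFunctor _ _ q).mapIso
    ((NatIso.mapHomologicalComplex e (ComplexShape.up ℕ)).app R.cocomplex) ≪≫
    (R.isoRightDerivedObj (DCoh.sheafHom F) q).symm⟩

/-- `Ext¹(F, G)` is the group of sections of the first Ext sheaf, `F` torsion and `G` torsion-free. -/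
theorem nonempty_ext_one_sections (A : Type u) [CommRing A] [X.Over (Spec (CommRingCat.of A))]
    [IsIntegral X] [IsLocallyNoetherian X] [HasExt.{u} X.Modules] [HasInjectiveResolutions X.Modules]
    (F G : X.Modules) [Coh.IsQCoh F] [Coh.IsQCoh G] [DCoh.HasSheafHom F] [(DCoh.sheafHom F).Additive]
    (hF : Subsingleton (F.presheaf.stalk (genericPoint X))) (hG : TorSh.IsTorsionFree G) :
    Nonempty (Abelian.Ext.{u} F G 1 ≃ₗ[A] Coh.HH X (((DCoh.sheafHom F).rightDerived 1).obj G) 0) := by
  haveI : HasInjectiveResolutions (ModSite.Mod X.sheaf) := ‹HasInjectiveResolutions X.Modules›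
  haveI : ModSite.HasSheafHom (O := X.sheaf) F := ModTensor.hasSheafHom (O := X.sheaf) F
  obtain ⟨e⟩ := nonempty_ext_sections_lt A F G 0 fun q hq => by
    obtain rfl : q = 0 := by omega
    haveI : (StalkHomLib.hF F).Additive := (ModSite.sheafHomAdj (O := X.sheaf) F).right_adjoint_additive
    haveI : PreservesFiniteLimits (StalkHomLib.hF F) :=
      haveI := (ModSite.sheafHomAdj (O := X.sheaf) F).rightAdjoint_preservesLimits
      inferInstance
    have hz : IsZero ((ModSite.extSh (O := X.sheaf) F 0).obj G : X.Modules) :=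
      (isZero_hF_of_torsion F G hF hG).of_iso ((StalkHomLib.hF F).rightDerivedZeroIsoSelf.app G)
    exact fun p => HiGrowth.subsingleton_HH_of_isZero hz (p + 1)
  obtain ⟨i⟩ := nonempty_rightDerived_sheafHom_iso F G 1
  exact ⟨e.trans (BCLib.hhEquivL (A := A) i 0)⟩

end Groth.Agent.ExtStab
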