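import Groth.Agent.ExtStabLib.K3Vanish

/-!
# Maps from the ideal of a curve into rank-one modules on another curve
-/

set_option autoImplicit false
set_option backward.isDefEq.respectTransparency false
set_option linter.style.haveILetI false
set_option maxHeartbeats 1000000
set_option synthInstance.maxHeartbeats 200000

universe u

open CategoryTheory CategoryTheory.Limits AlgebraicGeometry TopologicalSpace Polynomial
open Groth.Agent.PullbackMod Groth.Agent.DCohLib Groth.Agent.Nakai
open Groth.Agent.IntLib (PicRing pairing dif inv')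

noncomputable section

namespace Groth.Agent.ExtStab

variable (k : Type u) [Field k]

/-- On a curve an invertible module with a nonzero map to a torsion-free module of rank one has at most its
Euler characteristic. -/
theorem euler_le_of_invertible {C : Scheme.{u}} [IsIntegral C] [C.Over (Spec (CommRingCat.of k))]
    [IsProper (C ↘ Spec (CommRingCat.of k))] (hd : topologicalKrullDim C = 1) {T G : C.Modules}
    (hT : PicF.IsInvertible T) (hG : Coh.IsCoh G) (hGt : TorSh.IsTorsionFree G)
    (hGr : Module.finrank (C.presheaf.stalk (genericPoint C)) (G.presheaf.stalk (genericPoint C)) = 1)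
    (f : T ⟶ G) (hf : f ≠ 0) : Curv2.euler k C T ≤ Curv2.euler k C G := by
  haveI := EulerIneqLib.isNoetherian_proper (X := C) k
  haveI := hG.1
  haveI := mono_of_invertible hT hGt f hf
  have hTc := CurveLib.isCoh_of_isInvertible hT
  let η := genericPoint C
  letI : Field (C.presheaf.stalk η) := RefOne.isField_gen.toField
  obtain ⟨s, hs⟩ := ParaFLib.exists_stalk_gen hT η
  have hs0 : stalkLin f η s ≠ 0 := fun h => by
    have : s = 0 := (PullbackMod.mono_iff_stalk f).1 inferInstance η (h.trans (map_zero _).symm)
    have h1 := hs.1 (show (1 : C.presheaf.stalk η) • s = (0 : C.presheaf.stalk η) • s by rw [this, smul_zero, smul_zero])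
    exact one_ne_zero h1
  haveI := VBLib.finite_generic hG
  have hsurj : Function.Surjective (stalkLin f η) := fun v => by
    obtain ⟨c, hc⟩ := (finrank_eq_one_iff_of_nonzero' _ hs0).1 hGr v
    exact ⟨c • s, by rw [map_smul, hc]⟩
  have hQc := (QCohLib.isCoh_kernel_cokernel f hTc hG).2
  have hη : η ∉ CohB1.support (cokernel f) := fun h =>
    h (LazMuk.subsingleton_stalk_cokernel f η hsurj)
  have h0 : topologicalKrullDim (CohB1.support (cokernel f)) ≤ 0 := by
    refine dim_le_zero_of_finite (ξ := η) ?_ (DevLib.isClosed_support hQc)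
      (fun y _ => (genericPoint_specializes y).mem_closure) hη
    rw [show closure ({η} : Set C) = Set.univ from
      Set.eq_univ_of_forall fun y => (genericPoint_specializes y).mem_closure,
      (Homeomorph.Set.univ C).isHomeomorph.topologicalKrullDim_eq, hd]
    exact Nat.cast_one.symm
  have he : Curv2.euler k C G = Curv2.euler k C T + Curv2.euler k C (cokernel f) :=
    CurveLib.euler_shortExact (DevLib.cokerSeq_shortExact f) hTc hG hQc
  have hpos : 0 ≤ Curv2.euler k C (cokernel f) := by
    rw [CurveLib.euler_eq_sum (K := k) _ 1 fun p hp =>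
      CurveLib.subsingleton_HH_of_support _ (DevLib.isClosed_support hQc) subset_rfl (d := 0) (by exact_mod_cast h0) hp]
    simp
  linarith

variable {X : Scheme.{u}} [X.Over (Spec (CommRingCat.of k))] [IsIntegral X]
  [Smooth (X ↘ Spec (CommRingCat.of k))] [IsProper (X ↘ Spec (CommRingCat.of k))]

/-- The Hilbert polynomial at zero. -/
theorem euler_of_hilb {C : Scheme.{u}} [C.Over (Spec (CommRingCat.of k))]
    [IsProper (C ↘ Spec (CommRingCat.of k))] {L M : C.Modules} {P : ℚ[X]} (h : ShStab.IsHilbPoly k C L M P) :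
    (Curv2.euler k C M : ℚ) = P.eval 0 := by
  have := h 0
  rw [Nat.cast_zero] at this
  rw [← this]
  exact congrArg (fun z : ℤ => (z : ℚ)) (CurveLib.euler_iso (K := k)
    (AmpleLib.comm M (CohB1.tensorPow L 0) ≪≫ AmpleLib.unitL M).symm)

variable [IsAlgClosed k]

/-- No nonzero maps from the ideal of a curve into a module of low degree on another. -/
theorem hom_ideal_push_eq_zero (hdim : topologicalKrullDim X = 2) {L : X.Modules}
    (C₁ C₂ : X.IdealSheafData) [IsIntegral C₁.subscheme] [IsIntegral C₂.subscheme]
    (hC₁ : topologicalKrullDim C₁.subscheme = 1) (hC₂ : topologicalKrullDim C₂.subscheme = 1) (ℓ : ℕ)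
    (hℓ : FGA.intNum k X 2 (fun i : Fin 2 => if i = 0 then ClSub.idealMod C₁ else ClSub.idealMod C₂)
      (Coh.structureModule X) < (ℓ : ℤ))
    (G : C₂.subscheme.Modules) (hGc : Coh.IsCoh G) (hGt : TorSh.IsTorsionFree G)
    (hGr : Module.finrank (C₂.subscheme.presheaf.stalk (genericPoint C₂.subscheme))
        (G.presheaf.stalk (genericPoint C₂.subscheme)) = 1)
    (hGP : letI : C₂.subscheme.Over (Spec (CommRingCat.of k)) := ⟨C₂.subschemeι ≫ (X ↘ Spec (CommRingCat.of k))⟩
       ∃ P : Polynomial ℚ,
        ShStab.IsHilbPoly k C₂.subscheme ((Scheme.Modules.pullback C₂.subschemeι).obj L)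
          (Coh.structureModule C₂.subscheme) P ∧
        ShStab.IsHilbPoly k C₂.subscheme ((Scheme.Modules.pullback C₂.subschemeι).obj L) G
          (P - Polynomial.C (ℓ : ℚ)))
    (φ : ClSub.idealMod C₁ ⟶ (Scheme.Modules.pushforward C₂.subschemeι).obj G) : φ = 0 := by
  haveI := EulerIneqLib.isNoetherian_proper (X := X) k
  letI : C₂.subscheme.Over (Spec (CommRingCat.of k)) := ⟨C₂.subschemeι ≫ (X ↘ Spec (CommRingCat.of k))⟩
  haveI : IsProper (C₂.subscheme ↘ Spec (CommRingCat.of k)) :=
    inferInstanceAs (IsProper (C₂.subschemeι ≫ (X ↘ Spec (CommRingCat.of k))))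
  have hs : ∀ J : X.IdealSheafData, topologicalKrullDim J.subscheme = 1 →
      topologicalKrullDim (J.support : Set X) = 1 := fun J h => by
    rw [← Scheme.IdealSheafData.range_subschemeι, ← J.subschemeι.isEmbedding.toHomeomorph.isHomeomorph.topologicalKrullDim_eq]
    exact h
  have h₁ := TwistShriek.invertible_curve k hdim C₁ inferInstance (hs C₁ hC₁)
  have h₂ := TwistShriek.invertible_curve k hdim C₂ inferInstance (hs C₂ hC₂)
  obtain ⟨P, hPO, hPG⟩ := hGP
  have hχ : Curv2.euler k C₂.subscheme G = Curv2.euler k C₂.subscheme (Coh.structureModule _) - ℓ := by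
    have a := euler_of_hilb k hPO
    have b := euler_of_hilb k hPG
    rw [eval_sub, eval_C, ← a] at b
    exact_mod_cast b
  have hint : FGA.intNum k X 2 (fun i : Fin 2 => if i = 0 then ClSub.idealMod C₁ else ClSub.idealMod C₂)
      (Coh.structureModule X) = form k (cl h₂) (cl h₁) := by
    rw [show (fun i : Fin 2 => if i = 0 then ClSub.idealMod C₁ else ClSub.idealMod C₂) =
      ![ClSub.idealMod C₁, ClSub.idealMod C₂] from funext fun i => by fin_cases i <;> rfl,
      TwistShriek.intNum_eq_form k hdim.le h₁ h₂, form_comm]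
  let adj := Scheme.Modules.pullbackPushforwardAdjunction C₂.subschemeι
  by_contra hφ
  have hψ : (adj.homEquiv _ _).symm φ ≠ 0 := fun h => hφ (by
    rw [← (adj.homEquiv _ _).apply_symm_apply φ, h, Adjunction.homEquiv_unit, Functor.map_zero, Limits.comp_zero])
  have hle := euler_le_of_invertible k hC₂ (AmpleLib.isInvertible_pullback C₂.subschemeι h₁) hGc hGt hGr _ hψ
  have hdeg := deg_pullback_curve k C₂ rfl hC₂ h₁
  rw [TwistShriek.pairing_quotMod_cl k h₂] at hdeg
  simp only [Curv2.deg, Nat.cast_one, one_mul] at hdeg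
  rw [hint] at hℓ
  rw [hχ] at hle
  linarith

end Groth.Agent.ExtStab
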