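import Groth.Agent.ExtStabLib.CurveExt
import Groth.Agent.ExtShLib.SeqF
import Groth.Agent.LocFreeHomLib.Ext
import Groth.Agent.ProjSerreLib.CMDual
import Groth.Agent.VBLib.HomPair
import Mathlib.Algebra.Homology.HomologicalComplexAbelian
import Mathlib.Algebra.Homology.HomologySequence

/-!
# First Ext sheaves through two-term locally free resolutions, and biduality
-/

set_option autoImplicit false
set_option backward.isDefEq.respectTransparency false
set_option linter.style.haveILetI false
set_option maxHeartbeats 1000000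
set_option synthInstance.maxHeartbeats 200000

universe u

open CategoryTheory CategoryTheory.Limits AlgebraicGeometry
open Groth.Agent.PullbackMod Groth.Agent.DCohLib Groth.Agent.StalkHomLib
open scoped TensorProduct

noncomputable section

namespace Groth.Agent.ExtStab

variable {X : Scheme.{u}}

local instance hasHFb (M : X.Modules) : ModSite.HasSheafHom (O := X.sheaf) M :=
  ModTensor.hasSheafHom (O := X.sheaf) M

local instance additive_hFb (M : X.Modules) : (hF M).Additive :=
  (ModSite.sheafHomAdj (O := X.sheaf) M).right_adjoint_additive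

local instance preservesFiniteLimits_hFb (M : X.Modules) : PreservesFiniteLimits (hF M) :=
  haveI := (ModSite.sheafHomAdj (O := X.sheaf) M).rightAdjoint_preservesLimits
  inferInstance

/-- Contravariance on an isomorphism. -/
theorem nonempty_hF_iso {A B : X.Modules} (e : A ≅ B) : Nonempty (hF A ≅ hF B) :=
  ⟨Adjunction.rightAdjointUniq (ModSite.sheafHomAdj (O := X.sheaf) A)
    ((ModSite.sheafHomAdj (O := X.sheaf) B).ofNatIsoLeft ((ModSite.tensorBi X.sheaf).flip.mapIso e).symm)⟩

variable [HasInjectiveResolutions X.Modules]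

theorem nonempty_extSh_congr {A B : X.Modules} (e : A ≅ B) (G : X.Modules) (q : ℕ) :
    Nonempty (((hF A).rightDerived q).obj G ≅ ((hF B).rightDerived q).obj G) := by
  obtain ⟨f⟩ := nonempty_hF_iso e
  let R := injectiveResolution G
  exact ⟨R.isoRightDerivedObj (hF A) q ≪≫ (HomologicalComplex.homologyFunctor _ _ q).mapIso
    ((NatIso.mapHomologicalComplex f (ComplexShape.up ℕ)).app R.cocomplex) ≪≫
    (R.isoRightDerivedObj (hF B) q).symm⟩

/-- The zeroth homology of the image of an injective resolution. -/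
def zeroIso (Φ : X.Modules ⥤ X.Modules) [Φ.Additive] [PreservesFiniteLimits Φ] {G : X.Modules}
    (I : InjectiveResolution G) : Φ.obj G ⟶ ((Φ.mapHomologicalComplex _).obj I.cocomplex).homology 0 :=
  I.toRightDerivedZero' Φ ≫ (CochainComplex.isoHomologyπ₀ _).hom

theorem isIso_zeroIso (Φ : X.Modules ⥤ X.Modules) [Φ.Additive] [PreservesFiniteLimits Φ] {G : X.Modules}
    (I : InjectiveResolution G) : IsIso (zeroIso Φ I) := by
  haveI : IsIso (Φ.toRightDerivedZero.app G) := inferInstance
  have h : zeroIso Φ I = Φ.toRightDerivedZero.app G ≫ (I.isoRightDerivedObj Φ 0).hom := by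
    rw [I.toRightDerivedZero_eq, zeroIso]
    simp
  rw [h]
  infer_instance

theorem zeroIso_natural {Φ Ψ : X.Modules ⥤ X.Modules} [Φ.Additive] [Ψ.Additive] [PreservesFiniteLimits Φ]
    [PreservesFiniteLimits Ψ] (α : Φ ⟶ Ψ) {G : X.Modules} (I : InjectiveResolution G) :
    zeroIso Φ I ≫ HomologicalComplex.homologyMap ((NatTrans.mapHomologicalComplex α _).app I.cocomplex) 0 =
      α.app G ≫ zeroIso Ψ I := by
  have h : I.toRightDerivedZero' Φ ≫
      HomologicalComplex.cyclesMap ((NatTrans.mapHomologicalComplex α _).app I.cocomplex) 0 =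
        α.app G ≫ I.toRightDerivedZero' Ψ := by
    rw [← cancel_mono (HomologicalComplex.iCycles _ _), Category.assoc, HomologicalComplex.cyclesMap_i,
      InjectiveResolution.toRightDerivedZero'_comp_iCycles_assoc, Category.assoc,
      InjectiveResolution.toRightDerivedZero'_comp_iCycles, NatTrans.mapHomologicalComplex_app_f]
    exact α.naturality (I.ι.f 0)
  rw [zeroIso, zeroIso, Category.assoc, CochainComplex.isoHomologyπ₀, CochainComplex.isoHomologyπ₀,
    HomologicalComplex.isoHomologyπ_hom, HomologicalComplex.isoHomologyπ_hom, HomologicalComplex.homologyπ_naturality,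
    ← Category.assoc, h, Category.assoc]

/-- The first Ext sheaf through a two-term locally free resolution. -/
theorem nonempty_extSh_one_coker [IsLocallyNoetherian X] {S : ShortComplex X.Modules} (hS : S.ShortExact)
    (h₁ : Coh.IsCoh S.X₁) (h₂ : FlatMod.IsFinLocFree S.X₂) (h₃ : Coh.IsCoh S.X₃) (G : X.Modules) :
    Nonempty (((hF S.X₃).rightDerived 1).obj G ≅ cokernel ((ExtShLib.hFMap S.f).app G)) ∧
      (IsZero ((hF S.X₃).obj G) → Mono ((ExtShLib.hFMap S.f).app G)) := by
  let I := injectiveResolution G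
  have h₂c := CurveLib.isCoh_of_isFinLocFree h₂
  let K : X.Modules → CochainComplex X.Modules ℕ := fun P => ((hF P).mapHomologicalComplex _).obj I.cocomplex
  let g : K S.X₃ ⟶ K S.X₂ := (NatTrans.mapHomologicalComplex (ExtShLib.hFMap S.g) _).app I.cocomplex
  let f : K S.X₂ ⟶ K S.X₁ := (NatTrans.mapHomologicalComplex (ExtShLib.hFMap S.f) _).app I.cocomplex
  have hdeg := fun n => ExtShLib.shortExact_hom hS h₁ h₂c h₃ (I.cocomplex.X n) (I.injective n)
  let T : ShortComplex (CochainComplex X.Modules ℕ) := ShortComplex.mk g f (HomologicalComplex.hom_ext _ _ fun n => (hdeg n).1)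
  have hT : T.ShortExact := HomologicalComplex.shortExact_of_degreewise_shortExact T fun n => (hdeg n).2
  haveI : PreservesFiniteColimits (hF S.X₂) := LocFreeHomLib.preservesFiniteColimits_hF S.X₂ h₂
  have hz : IsZero (T.X₂.homology 1) := by
    rw [← HomologicalComplex.exactAt_iff_isZero_homology]
    exact (ShortComplex.Exact.map (I.cocomplex_exactAt_succ 0) (hF S.X₂) : _)
  have hex := hT.homology_exact₁ 0 1 rfl
  have hex3 := hT.homology_exact₃ 0 1 rfl
  haveI : Epi (hT.δ 0 1 rfl) := hex.epi_f (hz.eq_of_tgt _ _)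
  let e₁ : cokernel (HomologicalComplex.homologyMap f 0) ≅ (K S.X₃).homology 1 :=
    IsColimit.coconePointUniqueUpToIso (cokernelIsCokernel _) hex3.gIsCokernel
  haveI := isIso_zeroIso (hF S.X₂) I
  haveI := isIso_zeroIso (hF S.X₁) I
  let e₂ : cokernel ((ExtShLib.hFMap S.f).app G) ≅ cokernel (HomologicalComplex.homologyMap f 0) :=
    cokernel.mapIso _ _ (asIso (zeroIso (hF S.X₂) I)) (asIso (zeroIso (hF S.X₁) I))
      (zeroIso_natural (ExtShLib.hFMap S.f) I).symm
  refine ⟨⟨I.isoRightDerivedObj (hF S.X₃) 1 ≪≫ e₁.symm ≪≫ e₂.symm⟩, fun h0 => ?_⟩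
  haveI := isIso_zeroIso (hF S.X₃) I
  have h0' : IsZero (T.X₁.homology 0) := h0.of_iso (asIso (zeroIso (hF S.X₃) I)).symm
  haveI : Mono (HomologicalComplex.homologyMap f 0) := (hT.homology_exact₂ 0).mono_g (h0'.eq_of_src _ _)
  haveI : Mono ((ExtShLib.hFMap S.f).app G ≫ zeroIso (hF S.X₁) I) := by
    rw [← zeroIso_natural]
    exact mono_comp _ _
  exact mono_of_mono ((ExtShLib.hFMap S.f).app G) (zeroIso (hF S.X₁) I)

section Bidual

variable (F ω : X.Modules)

/-- The evaluation into the double internal Hom. -/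
def bidual : F ⟶ (hF ((hF F).obj ω)).obj ω :=
  (ModSite.sheafHomAdj (O := X.sheaf) ((hF F).obj ω)).homEquiv F ω
    ((CurveLib.tmodComm F ((hF F).obj ω)).hom ≫ ev F ω)

omit [HasInjectiveResolutions X.Modules] in
theorem theta_bidual (x : X) (f : F.presheaf.stalk x) (d : ((hF F).obj ω).presheaf.stalk x) :
    theta ((hF F).obj ω) ω x (stalkLin (bidual F ω) x f) d = theta F ω x d f := by
  rw [theta_transpose, bidual, Equiv.symm_apply_apply, theta_apply, stalkLin_comp, LinearMap.comp_apply]
  exact congrArg _ (VBLib.HomPair.tmodComm_stalk _ _ x f d)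

omit [HasInjectiveResolutions X.Modules] in
theorem bidual_natural [IsLocallyNoetherian X] {K : X.Modules} (a : K ⟶ F)
    (hK : Coh.IsCoh ((hF F).obj ω)) :
    a ≫ bidual F ω = bidual K ω ≫ (ExtShLib.hFMap ((ExtShLib.hFMap a).app ω)).app ω := by
  refine sub_eq_zero.1 ((PullbackMod.eq_zero_iff_stalk _).2 fun x => LinearMap.ext fun z => ?_)
  rw [TFOneLib.stalkLin_sub, LinearMap.sub_apply, LinearMap.zero_apply, sub_eq_zero]
  refine @(StalkHomLib.theta_bijective ((hF F).obj ω) x hK ω).1 _ _ (LinearMap.ext fun d => ?_)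
  rw [stalkLin_comp, stalkLin_comp, LinearMap.comp_apply, LinearMap.comp_apply, theta_bidual,
    ExtShLib.theta_hFMap, theta_bidual, ExtShLib.theta_hFMap]

omit [HasInjectiveResolutions X.Modules] in
theorem isIso_bidual [IsLocallyNoetherian X] (hFl : FlatMod.IsFinLocFree F) (hω : PicF.IsInvertible ω) :
    IsIso (bidual F ω) := by
  have hd : Coh.IsCoh ((hF F).obj ω) := ProjSerreLib.isCoh_hF hFl (CurveLib.isCoh_of_isInvertible hω)
  refine (PullbackMod.isIso_iff_stalk _).2 fun x => ?_
  obtain ⟨hfree, hfin⟩ := free_finite_stalk_of_flf hFl x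
  let R := X.presheaf.stalk x
  obtain ⟨g, hg⟩ := ParaFLib.exists_stalk_gen hω x
  let one : R ≃ₗ[R] ω.presheaf.stalk x := LinearEquiv.ofBijective (LinearMap.toSpanSingleton R _ g) hg
  let D : ((hF F).obj ω).presheaf.stalk x ≃ₗ[R] Module.Dual R (F.presheaf.stalk x) :=
    (LinearEquiv.ofBijective _ (StalkHomLib.theta_bijective F x (CurveLib.isCoh_of_isFinLocFree hFl) ω)).trans
      (LinearEquiv.congrRight one.symm)
  let E : F.presheaf.stalk x ≃ₗ[R] (((hF F).obj ω).presheaf.stalk x →ₗ[R] ω.presheaf.stalk x) :=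
    (Module.evalEquiv R (F.presheaf.stalk x)).trans (LinearEquiv.arrowCongr D.symm one)
  refine (Function.Bijective.of_comp_iff' (StalkHomLib.theta_bijective ((hF F).obj ω) x hd ω) _).1 ?_
  have key : (theta ((hF F).obj ω) ω x) ∘ (stalkLin (bidual F ω) x) = E := by
    funext f
    refine LinearMap.ext fun d => ?_
    refine (theta_bidual F ω x f d).trans ?_
    simp [E, D]
    exact (one.apply_symm_apply _).symm
  rw [key]
  exact E.bijective

end Bidual

end Groth.Agent.ExtStab
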