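import Groth.Agent.ProjSerreLib.GammaExt
import Groth.Agent.ProjSerreLib.Twists
import Groth.Agent.LazMukLib.Free
import Groth.Agent.VolLib.HiGrowth

/-!
# Ext groups out of torsion modules as sections of the first Ext sheaf
-/

set_option autoImplicit false
set_option backward.isDefEq.respectTransparency false
set_option linter.style.haveILetI false
set_option maxHeartbeats 1000000

universe w v u

open CategoryTheory CategoryTheory.Limits

noncomputable section

namespace Groth.Agent.ExtStab

section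

open Groth.Agent.ProjSerreLib

variable {C : Type*} [Category C] [Abelian C] {D : Type*} [Category D] [Abelian D] {Φ : C ⥤ D} [Φ.Additive]
  [PreservesFiniteLimits Φ] {P : C → Prop} (h : AcyclicClass Φ P) {K : CochainComplex C ℕ} (hK : ∀ q, P (K.X q))

include h hK in
/-- Homology commutes with the functor, given acyclicity of the homology in lower degrees only. -/
theorem nonempty_homology_map_iso_lt (q : ℕ) (hH : ∀ p, p < q + 1 → P (K.homology p)) :
    Nonempty (((Φ.mapHomologicalComplex (ComplexShape.up ℕ)).obj K).homology (q + 1) ≅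
      Φ.obj (K.homology (q + 1))) := by
  let L : (K.sc (q + 1)).LeftHomologyData :=
    { K := (K.sc (q + 1)).cycles
      H := (K.sc (q + 1)).homology
      i := (K.sc (q + 1)).iCycles
      π := (K.sc (q + 1)).homologyπ
      wi := (K.sc (q + 1)).iCycles_g
      hi := (K.sc (q + 1)).cyclesIsKernel
      wπ := (K.sc (q + 1)).toCycles_comp_homologyπ
      hπ := (K.sc (q + 1)).homologyIsCokernel }
  suffices hP : L.IsPreservedBy Φ by
    haveI := hP
    exact ⟨(L.map Φ).homologyIso ≪≫ Φ.mapIso L.homologyIso.symm⟩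
  refine ⟨inferInstance, ?_⟩
  have hz := acyc_cycles h hK q (fun p hp => hH p (Nat.lt_succ_of_le hp)) q le_rfl
  haveI := mono_toNextCyc K q
  have hB := h.right (shortExact_cycSeq K q) hz (hK q)
  have h1 := h.shortExact_map (shortExact_bdrySeq K q) hB
  haveI he : Epi (Φ.map (cokernel.π (K.iCycles q))) := h.epi (shortExact_cycSeq K q) hz
  have h0 : (ShortComplex.mk (K.toCycles q (q + 1)) (K.homologyπ (q + 1))
      (K.toCycles_comp_homologyπ q (q + 1))).map Φ |>.Exact := by
    let φ : (ShortComplex.mk (K.toCycles q (q + 1)) (K.homologyπ (q + 1))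
        (K.toCycles_comp_homologyπ q (q + 1))).map Φ ⟶ (bdrySeq K q).map Φ :=
      { τ₁ := Φ.map (cokernel.π (K.iCycles q))
        τ₂ := 𝟙 _
        τ₃ := 𝟙 _
        comm₁₂ := by
          show Φ.map (cokernel.π (K.iCycles q)) ≫ Φ.map (toNextCyc K q) = Φ.map (K.toCycles q (q + 1)) ≫ 𝟙 _
          rw [Category.comp_id, ← Φ.map_comp]
          exact congrArg Φ.map (cokernel.π_desc _ _ _)
        comm₂₃ := by
          show 𝟙 _ ≫ Φ.map (K.homologyπ (q + 1)) = Φ.map (K.homologyπ (q + 1)) ≫ 𝟙 _
          rw [Category.id_comp, Category.comp_id] }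
    haveI : Epi φ.τ₁ := he
    haveI : IsIso φ.τ₂ := inferInstanceAs (IsIso (𝟙 _))
    haveI : Mono φ.τ₃ := inferInstanceAs (Mono (𝟙 _))
    exact (ShortComplex.exact_iff_of_epi_of_isIso_of_mono φ).2 h1.exact
  haveI : Epi (Φ.map (K.homologyπ (q + 1))) := h1.epi_g
  have hs : L.f' = eqToHom (congrArg K.X (CochainComplex.prev_nat_succ q)) ≫ K.toCycles q (q + 1) := by
    rw [← cancel_mono L.i, L.f'_i]
    refine Eq.trans ?_ (Category.assoc _ _ _).symm
    refine Eq.trans ?_ (congrArg (eqToHom _ ≫ ·) (K.toCycles_i q (q + 1)).symm)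
    exact (K.eqToHom_comp_d (show (ComplexShape.up ℕ).Rel ((ComplexShape.up ℕ).prev (q + 1)) (q + 1) from by
      rw [CochainComplex.prev_nat_succ]; rfl) (rfl : (ComplexShape.up ℕ).Rel q (q + 1))).symm
  refine preservesColimit_of_preserves_colimit_cocone L.hπ' ((isColimitMapCoconeCoforkEquiv Φ _).symm ?_)
  let T := (ShortComplex.mk (K.toCycles q (q + 1)) (K.homologyπ (q + 1))
      (K.toCycles_comp_homologyπ q (q + 1))).map Φ
  haveI : Epi T.g := ‹Epi (Φ.map (K.homologyπ (q + 1)))›
  have hT := h0.gIsCokernel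
  exact Cofork.IsColimit.mk _
    (fun s => (hT.desc (CokernelCofork.ofπ s.π (by
      have hg0 : Φ.map L.f' ≫ s.π = 0 :=
        s.condition.trans ((congrArg (· ≫ s.π) (Φ.map_zero _ _)).trans zero_comp)
      have hg' := (congrArg (fun φ => Φ.map φ ≫ s.π) hs).symm.trans hg0
      refine (cancel_epi (Φ.map (eqToHom (congrArg K.X (CochainComplex.prev_nat_succ q))))).1 ?_
      refine Eq.trans ?_ (hg'.trans comp_zero.symm)
      exact ((congrArg (· ≫ s.π) (Φ.map_comp _ _)).trans (Category.assoc _ _ _)).symm)) : Φ.obj (K.homology (q + 1)) ⟶ s.pt))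
    (fun s => hT.fac (CokernelCofork.ofπ s.π _) WalkingParallelPair.one)
    (fun s m hm => (cancel_epi (Φ.map (K.homologyπ (q + 1)))).1
      (hm.trans (hT.fac (CokernelCofork.ofπ s.π _) WalkingParallelPair.one).symm))

end

open AlgebraicGeometry Opposite Groth.Agent.StalkHomLib Groth.Agent.DCohLib

variable (A : Type u) [CommRing A] {X : Scheme.{u}} [X.Over (Spec (CommRingCat.of A))]

/-- Ext groups are the sections of the Ext sheaves when the lower ones are acyclic. -/
theorem nonempty_ext_sections_lt [HasExt.{u} X.Modules] (F G : X.Modules) [ModSite.HasSheafHom (O := X.sheaf) F]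
    [Coh.IsQCoh F] [HasInjectiveResolutions (ModSite.Mod X.sheaf)] (i : ℕ)
    (h : ∀ q, q < i + 1 → ProjSerreLib.Acyc ((ModSite.extSh (O := X.sheaf) F q).obj G : X.Modules)) :
    Nonempty (Abelian.Ext.{u} F G (i + 1) ≃ₗ[A] Coh.HH X ((ModSite.extSh (O := X.sheaf) F (i + 1)).obj G) 0) := by
  haveI : HasInjectiveResolutions X.Modules := ‹HasInjectiveResolutions (ModSite.Mod X.sheaf)›
  haveI : (hF F).Additive := (ModSite.sheafHomAdj (O := X.sheaf) F).right_adjoint_additive
  let R := injectiveResolution G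
  let K : CochainComplex X.Modules ℕ := ((hF F).mapHomologicalComplex _).obj R.cocomplex
  have hK : ∀ q, ProjSerreLib.Acyc (K.X q) := fun q p => by
    haveI : Injective (R.cocomplex.X q : ModSite.Mod X.sheaf) := R.injective q
    exact SiteBase.subsingleton_H_of_isTotallyAcyclic
      (SiteBase.isTotallyAcyclic_sheafHom (O := X.sheaf) F (R.cocomplex.X q)) p
  have hq : ∀ q, ((ModSite.extSh (O := X.sheaf) F q).obj G : X.Modules) ≅ K.homology q := fun q =>
    R.isoRightDerivedObj (hF F) q
  obtain ⟨e⟩ := nonempty_homology_map_iso_lt (ProjSerreLib.acyclicClass A) hK i fun q hqi =>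
    (ProjSerreLib.acyclicClass A).iso (hq q) (h q hqi)
  let γ : hF F ⋙ CohIII.globalSectionsA A ≅ (linearCoyoneda A X.Modules).obj (op F) :=
    NatIso.ofComponents (fun N => (ProjSerreLib.homSectEquiv A F N).toModuleIso) fun {N N'} g =>
      ModuleCat.hom_ext (LinearMap.ext fun s => ProjSerreLib.toHom_natural F g s)
  obtain ⟨l⟩ := StalkHomLib.nonempty_homology_linCx_iso A F R (i + 1)
  let c : ((((CohIII.globalSectionsA A).mapHomologicalComplex (ComplexShape.up ℕ)).obj K).homology (i + 1)) ≅
      (linCx A F R).homology (i + 1) :=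
    (HomologicalComplex.homologyFunctor _ _ (i + 1)).mapIso
      ((NatIso.mapHomologicalComplex γ (ComplexShape.up ℕ)).app R.cocomplex)
  exact ⟨((l.symm ≪≫ c.symm ≪≫ e ≪≫ (CohIII.globalSectionsA A).mapIso (hq (i + 1)).symm).toLinearEquiv).trans
    (BCLib.gammaH0 _)⟩

end Groth.Agent.ExtStab
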