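import Groth.Agent.LazMukLib.Free

/-!
# Extending maps into the structure sheaf across closed subsets of codimension two
-/

set_option autoImplicit false
set_option backward.isDefEq.respectTransparency false
set_option linter.style.haveILetI false
set_option maxHeartbeats 1000000
set_option synthInstance.maxHeartbeats 200000

universe u

open CategoryTheory CategoryTheory.Limits AlgebraicGeometry TopologicalSpace Opposite
open Groth.Agent.PullbackMod

noncomputable section

namespace Groth.Agent.ExtStab

variable {X : Scheme.{u}}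

theorem res_res {M : X.Modules} {U V W : X.Opens} (h : V ≤ U) (h' : W ≤ V) (s : Γ(M, U)) :
    M.presheaf.map (homOfLE h').op (M.presheaf.map (homOfLE h).op s) = M.presheaf.map (homOfLE (h'.trans h)).op s := by
  rw [← ConcreteCategory.comp_apply, ← M.presheaf.map_comp]
  rfl

/-- A map that is bijective on stalks off a closed subset across which the sections of `P` extend uniquely
allows maps to `P` to be extended. -/
theorem exists_extend_hom {M N P : X.Modules} (g : M ⟶ N) (U : X.Opens)
    (hg : ∀ x ∈ U, Function.Bijective (stalkLin g x))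
    (hP : ∀ W : X.Opens, Function.Bijective (P.presheaf.map (homOfLE (inf_le_left : W ⊓ U ≤ W)).op))
    (p : M ⟶ P) : ∃ ψ : N ⟶ P, g ≫ ψ = p := by
  have hb : ∀ W : X.Opens, Function.Bijective (g.app (W ⊓ U)) := fun W =>
    ZClosLib.app_bijective_of_stalk g _ fun x hx => hg x hx.2
  have hspec : ∀ (W : X.Opens) (n : Γ(N, W)), ∃ s : Γ(P, W), ∀ m : Γ(M, W ⊓ U),
      g.app (W ⊓ U) m = N.presheaf.map (homOfLE inf_le_left).op n →
        P.presheaf.map (homOfLE inf_le_left).op s = p.app (W ⊓ U) m := fun W n => by
    obtain ⟨m₀, hm₀⟩ := (hb W).2 (N.presheaf.map (homOfLE inf_le_left).op n)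
    obtain ⟨s, hs⟩ := (hP W).2 (p.app (W ⊓ U) m₀)
    exact ⟨s, fun m hm => by rw [(hb W).1 (hm.trans hm₀.symm)]; exact hs⟩
  choose f hf using hspec
  have key : ∀ (W : X.Opens) (n : Γ(N, W)) (s : Γ(P, W)) (m : Γ(M, W ⊓ U)),
      g.app (W ⊓ U) m = N.presheaf.map (homOfLE inf_le_left).op n →
        P.presheaf.map (homOfLE inf_le_left).op s = p.app (W ⊓ U) m → f W n = s :=
    fun W n s m hm hs => (hP W).1 ((hf W n m hm).trans hs.symm)
  let ψ : N ⟶ P := ⟨PresheafOfModules.homMk
    { app := fun W => AddCommGrpCat.ofHom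
        { toFun := f W.unop
          map_zero' := key W.unop 0 0 0 (by rw [map_zero, map_zero]) (by rw [map_zero, map_zero])
          map_add' := fun a b => by
            obtain ⟨ma, hma⟩ := (hb W.unop).2 (N.presheaf.map (homOfLE inf_le_left).op a)
            obtain ⟨mb, hmb⟩ := (hb W.unop).2 (N.presheaf.map (homOfLE inf_le_left).op b)
            refine key W.unop (a + b) (f W.unop a + f W.unop b) (ma + mb) ?_ ?_
            · rw [map_add, map_add, hma, hmb]
            · rw [map_add, map_add, hf W.unop a ma hma, hf W.unop b mb hmb] }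
      naturality := fun W V i => by
        ext n
        obtain ⟨m, hm⟩ := (hb W.unop).2 (N.presheaf.map (homOfLE inf_le_left).op n)
        have hle : V.unop ⊓ U ≤ W.unop ⊓ U := inf_le_inf_right U i.unop.le
        show f V.unop (N.presheaf.map i n) = P.presheaf.map i (f W.unop n)
        rw [show i = (homOfLE i.unop.le).op from Subsingleton.elim _ _]
        refine key V.unop _ _ (M.presheaf.map (homOfLE hle).op m) ?_ ?_
        · rw [NormalRefLib.app_res, hm, res_res, res_res]
        · rw [res_res, NormalRefLib.app_res, ← hf W.unop n m hm, res_res] }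
    (fun W (a : Γ(X, W.unop)) n => by
      obtain ⟨m, hm⟩ := (hb W.unop).2 (N.presheaf.map (homOfLE inf_le_left).op n)
      refine key W.unop (a • n) (a • f W.unop n) ((X.presheaf.map (homOfLE (inf_le_left : W.unop ⊓ U ≤ W.unop)).op a) • m) ?_ ?_
      · rw [Scheme.Modules.Hom.app_smul, hm, Scheme.Modules.map_smul]
      · rw [Scheme.Modules.map_smul, hf W.unop n m hm, Scheme.Modules.Hom.app_smul])⟩
  refine ⟨ψ, Scheme.Modules.hom_ext _ _ fun W => AddCommGrpCat.hom_ext (AddMonoidHom.ext fun m => ?_)⟩
  show f W (g.app W m) = p.app W m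
  exact key W _ _ (M.presheaf.map (homOfLE inf_le_left).op m) (NormalRefLib.app_res g _ m)
    (NormalRefLib.app_res p _ m).symm

end Groth.Agent.ExtStab
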