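import Groth.Agent.SepFamLib.Hom
import Groth.Agent.S1026
import Groth.Agent.QuotRepLib.FlatPull
import Groth.Agent.CurveLib.Euler
import Groth.Agent.QCohLib.FiniteType
import Groth.Agent.DevLib.Sub

/-!
# Sections of the members of two extensions in a flat family
-/

set_option autoImplicit false
set_option backward.isDefEq.respectTransparency false
set_option linter.style.haveILetI false
set_option maxHeartbeats 1000000
set_option synthInstance.maxHeartbeats 200000

universe u

open CategoryTheory CategoryTheory.Limits AlgebraicGeometry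

noncomputable section

namespace Groth.Agent.ExtStab

variable (k : Type u) [Field k] {X : Scheme.{u}} [X.Over (Spec (CommRingCat.of k))]
  [IsProper (X ↘ Spec (CommRingCat.of k))]

theorem finrank_H0_le_of_shortExact {S : ShortComplex X.Modules} (hS : S.ShortExact) (h₂ : Coh.IsCoh S.X₂) :
    Module.finrank k (Coh.HH X S.X₁ 0) ≤ Module.finrank k (Coh.HH X S.X₂ 0) := by
  haveI := EulerIneqLib.finite_HH (k := k) h₂ 0
  exact LinearMap.finrank_le_finrank_of_injective (CurveLib.hMap_f_zero_injective (k := k) hS)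

theorem finrank_H0_mid_le {S : ShortComplex X.Modules} (hS : S.ShortExact) (h₁ : Coh.IsCoh S.X₁)
    (h₂ : Coh.IsCoh S.X₂) (h₃ : Coh.IsCoh S.X₃) :
    Module.finrank k (Coh.HH X S.X₂ 0) ≤ Module.finrank k (Coh.HH X S.X₁ 0) + Module.finrank k (Coh.HH X S.X₃ 0) := by
  haveI := EulerIneqLib.finite_HH (k := k) h₁ 0
  haveI := EulerIneqLib.finite_HH (k := k) h₂ 0
  haveI := EulerIneqLib.finite_HH (k := k) h₃ 0
  have h := (CurveLib.hMap (k := k) S.g 0).finrank_range_add_finrank_ker
  rw [← CurveLib.range_hMap_f hS 0, LinearMap.finrank_range_of_inj (CurveLib.hMap_f_zero_injective (k := k) hS)] at h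
  have := (LinearMap.range (CurveLib.hMap (k := k) S.g 0)).finrank_le
  omega

theorem finrank_H0_add_of_H1 {S : ShortComplex X.Modules} (hS : S.ShortExact) (h₁ : Coh.IsCoh S.X₁)
    (h₂ : Coh.IsCoh S.X₂) [Subsingleton (Coh.HH X S.X₃ 1)]
    (h : Module.finrank k (Coh.HH X S.X₁ 1) = Module.finrank k (Coh.HH X S.X₂ 1)) :
    Module.finrank k (Coh.HH X S.X₁ 0) + Module.finrank k (Coh.HH X S.X₃ 0) = Module.finrank k (Coh.HH X S.X₂ 0) := by
  haveI := EulerIneqLib.finite_HH (k := k) h₁ 1
  haveI := EulerIneqLib.finite_HH (k := k) h₂ 1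
  haveI := EulerIneqLib.finite_HH (k := k) h₂ 0
  have hs : Function.Surjective (CurveLib.hMap (k := k) S.f (0 + 1)) := fun y =>
    (CurveLib.range_hMap_f hS 1).ge (LinearMap.mem_ker.2 (Subsingleton.elim (α := Coh.HH X S.X₃ 1) _ _))
  have hi := (LinearMap.injective_iff_surjective_of_finrank_eq_finrank h).2 hs
  have hd : CurveLib.hδ (k := k) hS 0 = 0 := LinearMap.ext fun z => hi (by
    rw [LinearMap.zero_apply, map_zero]
    exact LinearMap.mem_ker.1 ((CurveLib.range_hδ (k := k) hS 0).le ⟨z, rfl⟩))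
  have hg : LinearMap.range (CurveLib.hMap (k := k) S.g 0) = ⊤ := by
    rw [CurveLib.range_hMap_g hS, hd, LinearMap.ker_zero]
  have e := (CurveLib.hMap (k := k) S.g 0).finrank_range_add_finrank_ker
  rw [← CurveLib.range_hMap_f hS 0, LinearMap.finrank_range_of_inj (CurveLib.hMap_f_zero_injective (k := k) hS), hg,
    finrank_top] at e
  omega

theorem euler_eq_finrank_of_finite {M : X.Modules} (hM : Coh.IsCoh M)
    (h : topologicalKrullDim (CohB1.support M) ≤ 0) :
    Curv2.euler k X M = (Module.finrank k (Coh.HH X M 0) : ℤ) ∧ Subsingleton (Coh.HH X M 1) := by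
  haveI := EulerIneqLib.isNoetherian_proper (X := X) k
  have hv : ∀ p, 1 ≤ p → Subsingleton (Coh.HH X M p) := fun p hp =>
    CurveLib.subsingleton_HH_of_support M (DevLib.isClosed_support hM) subset_rfl (d := 0) (by exact_mod_cast h) hp
  refine ⟨?_, hv 1 le_rfl⟩
  rw [CurveLib.euler_eq_sum (K := k) M 1 hv]
  simp

/-- The section of a product at a rational point is a base change. -/
theorem isPullback_section {P : Scheme.{u}} {pP : P ⟶ Spec (CommRingCat.of k)}
    (t : Spec (CommRingCat.of k) ⟶ P) (ht : t ≫ pP = 𝟙 _)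
    (s : X ⟶ pullback (X ↘ Spec (CommRingCat.of k)) pP) (hs : s ≫ pullback.fst _ _ = 𝟙 X)
    (hs' : s ≫ pullback.snd _ _ = (X ↘ Spec (CommRingCat.of k)) ≫ t) :
    IsPullback s (X ↘ Spec (CommRingCat.of k)) (pullback.snd (X ↘ Spec (CommRingCat.of k)) pP) t := by
  refine IsPullback.of_right ?_ hs' (IsPullback.of_hasPullback (X ↘ Spec (CommRingCat.of k)) pP)
  rw [hs, ht]
  exact IsPullback.of_id_fst

variable {P : Scheme.{u}} {Q : Scheme.{u}} {q : Q ⟶ P} [IsProper q] [IsLocallyNoetherian P] [PreconnectedSpace P]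

/-- The semicontinuity from two extensions. -/
theorem finrank_H0_le_of_families (A A' A'' : Q.Modules) (hA : Coh.IsCoh A) (hA' : Coh.IsCoh A') (hA'' : Coh.IsCoh A'')
    (α : A' ⟶ A) (β : A' ⟶ A'') [Mono α] [Mono β]
    (hQ : FlatMod.IsFlatOver q (cokernel α)) (hQ' : FlatMod.IsFlatOver q (cokernel β))
    {t₀ t : Spec (CommRingCat.of k) ⟶ P} {s₀ s : X ⟶ Q}
    (h₀ : IsPullback s₀ (X ↘ Spec (CommRingCat.of k)) q t₀) (h : IsPullback s (X ↘ Spec (CommRingCat.of k)) q t)
    (hz₀ : topologicalKrullDim (CohB1.support ((Scheme.Modules.pullback s₀).obj (cokernel β))) ≤ 0)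
    (hz : topologicalKrullDim (CohB1.support ((Scheme.Modules.pullback s).obj (cokernel β))) ≤ 0)
    (e0 : Module.finrank k (Coh.HH X ((Scheme.Modules.pullback s₀).obj A') 0) =
      Module.finrank k (Coh.HH X ((Scheme.Modules.pullback s₀).obj A) 0))
    (e1 : Module.finrank k (Coh.HH X ((Scheme.Modules.pullback s₀).obj A') 1) =
      Module.finrank k (Coh.HH X ((Scheme.Modules.pullback s₀).obj A'') 1))
    (hup : Module.finrank k (Coh.HH X ((Scheme.Modules.pullback s₀).obj A'') 0) ≤
      Module.finrank k (Coh.HH X ((Scheme.Modules.pullback s).obj A'') 0)) :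
    Module.finrank k (Coh.HH X ((Scheme.Modules.pullback s₀).obj A) 0) ≤
      Module.finrank k (Coh.HH X ((Scheme.Modules.pullback s).obj A) 0) := by
  haveI := EulerIneqLib.isNoetherian_proper (X := X) k
  haveI : IsLocallyNoetherian Q := LocallyOfFiniteType.isLocallyNoetherian q
  have hcα := (QCohLib.isCoh_kernel_cokernel α hA' hA).2
  have hcβ := (QCohLib.isCoh_kernel_cokernel β hA' hA'').2
  haveI := hA.1
  haveI := hA'.1
  haveI := hA''.1
  haveI := hcα.1
  haveI := hcβ.1
  have hcoh : ∀ (j : X ⟶ Q) {M : Q.Modules}, Coh.IsCoh M → Coh.IsCoh ((Scheme.Modules.pullback j).obj M) :=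
    fun j M hM => PullbackMod.isCoh_pullback j M hM
  have hSα : ((ShortComplex.mk α (cokernel.π α) (cokernel.condition α)).map (Scheme.Modules.pullback s)).ShortExact :=
    QuotRep.shortExact_pullback_of_flat h (DevLib.cokerSeq_shortExact α) hQ
  have hSβ := fun (j : X ⟶ Q) (u : Spec (CommRingCat.of k) ⟶ P) (hj : IsPullback j (X ↘ Spec (CommRingCat.of k)) q u) =>
    (QuotRep.shortExact_pullback_of_flat hj (DevLib.cokerSeq_shortExact β) hQ' :
      ((ShortComplex.mk β (cokernel.π β) (cokernel.condition β)).map (Scheme.Modules.pullback j)).ShortExact)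
  obtain ⟨x0, v0⟩ := euler_eq_finrank_of_finite k (hcoh s₀ hcβ) hz₀
  obtain ⟨x1, -⟩ := euler_eq_finrank_of_finite k (hcoh s hcβ) hz
  have hlc := S1026.result q (cokernel β) (QCohLib.isFP_of_isCoh _ hcβ) hQ'
  have hlen : Module.finrank k (Coh.HH X ((Scheme.Modules.pullback s₀).obj (cokernel β)) 0) =
      Module.finrank k (Coh.HH X ((Scheme.Modules.pullback s).obj (cokernel β)) 0) := by
    have := hlc.apply_eq_of_preconnectedSpace (t₀ (IsLocalRing.closedPoint k)) (t (IsLocalRing.closedPoint k))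
    rw [← SepFamLib.euler_point h₀, ← SepFamLib.euler_point h, x0, x1] at this
    exact_mod_cast this
  have c1 := finrank_H0_le_of_shortExact k hSα (hcoh s hA)
  have c2 := finrank_H0_mid_le k (hSβ s t h) (hcoh s hA') (hcoh s hA'') (hcoh s hcβ)
  haveI : Subsingleton (Coh.HH X
    ((ShortComplex.mk β (cokernel.π β) (cokernel.condition β)).map (Scheme.Modules.pullback s₀)).X₃ 1) := v0
  have c3 := finrank_H0_add_of_H1 k (hSβ s₀ t₀ h₀) (hcoh s₀ hA') (hcoh s₀ hA'') e1
  change Module.finrank k (Coh.HH X ((Scheme.Modules.pullback s).obj A') 0) ≤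
    Module.finrank k (Coh.HH X ((Scheme.Modules.pullback s).obj A) 0) at c1
  change Module.finrank k (Coh.HH X ((Scheme.Modules.pullback s).obj A'') 0) ≤
    Module.finrank k (Coh.HH X ((Scheme.Modules.pullback s).obj A') 0) +
      Module.finrank k (Coh.HH X ((Scheme.Modules.pullback s).obj (cokernel β)) 0) at c2
  change Module.finrank k (Coh.HH X ((Scheme.Modules.pullback s₀).obj A') 0) +
      Module.finrank k (Coh.HH X ((Scheme.Modules.pullback s₀).obj (cokernel β)) 0) =
    Module.finrank k (Coh.HH X ((Scheme.Modules.pullback s₀).obj A'') 0) at c3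
  omega

end Groth.Agent.ExtStab
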