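import Groth.Agent.ExtStabLib.Extend
import Groth.Agent.LazMukLib.Num
import Groth.Agent.ASBunKS.RankOne
import Groth.Agent.LazMukLib.Stable

/-!
# Stability of nonsplit extensions of twisted ideals by the structure sheaf
-/

set_option autoImplicit false
set_option backward.isDefEq.respectTransparency false
set_option linter.style.haveILetI false
set_option maxHeartbeats 1000000
set_option synthInstance.maxHeartbeats 200000

universe u

open CategoryTheory CategoryTheory.Limits AlgebraicGeometry TopologicalSpace Polynomial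
open Groth.Agent.PullbackMod Groth.Agent.DCohLib Groth.Agent.Nakai StabCat
open Groth.Agent.IntLib (PicRing pairing dif inv')

noncomputable section

namespace Groth.Agent.ExtStab

variable {X : Scheme.{u}}

/-- A nonzero submodule of an invertible module on an integral scheme has the same generic stalk. -/
theorem surjective_generic_of_invertible [IsIntegral X] [IsLocallyNoetherian X] {M T : X.Modules}
    (hT : PicF.IsInvertible T) (f : M ⟶ T) (hf : f ≠ 0) :
    Function.Surjective (stalkLin f (genericPoint X)) := by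
  let η := genericPoint X
  let R := X.presheaf.stalk η
  haveI := (CurveLib.isCoh_of_isInvertible hT).1
  letI : Field R := RefOne.isField_gen.toField
  obtain ⟨t, ht⟩ := ParaFLib.exists_stalk_gen hT η
  obtain ⟨z, hz⟩ : ∃ z, stalkLin f η z ≠ 0 := by
    by_contra h
    push Not at h
    exact hf (LazMuk.hom_eq_zero_of_generic (TFCurvSSLib.isTorsionFree_flf (CurveLib.isFinLocFreeOfRank_one hT)) f
      (LinearMap.ext h))
  obtain ⟨r, hr⟩ := ht.2 (stalkLin f η z)
  dsimp only at hr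
  have hr0 : (r : R) ≠ 0 := fun h => hz (by rw [← hr, h, zero_smul])
  intro y
  obtain ⟨s, hs⟩ := ht.2 y
  dsimp only at hs
  refine ⟨(s * r⁻¹) • z, ?_⟩
  rw [map_smul, ← hr, smul_smul, mul_assoc, inv_mul_cancel₀ hr0, mul_one, hs]

theorem dimLE_one_of_notMem [IsIntegral X] (hdim : topologicalKrullDim X = 2) {Q : X.Modules}
    (hcl : IsClosed (CohB1.support Q)) (hη : genericPoint X ∉ CohB1.support Q) : ShStabLib.DimLE 1 Q := by
  refine HilbLib.dim_lt_of_notMem hcl (fun y _ => (genericPoint_specializes y).mem_closure) hη ?_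
  exact lt_of_le_of_lt (Topology.IsInducing.subtypeVal.topologicalKrullDim_le.trans hdim.le)
    (by exact_mod_cast Nat.lt_succ_self 2)

variable (k : Type u) [Field k] [X.Over (Spec (CommRingCat.of k))]
  [IsProper (X ↘ Spec (CommRingCat.of k))]

/-- The Hilbert polynomial of the polarisation. -/
theorem hp_self {L : X.Modules} {P : ℚ[X]} (hP : ShStabLib.HP k L (Coh.structureModule X) P) :
    ShStabLib.HP k L L (P.comp (Polynomial.X + 1)) := fun m => by
  rw [Polynomial.eval_comp, Polynomial.eval_add, Polynomial.eval_X, Polynomial.eval_one,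
    show (m : ℚ) + 1 = ((m + 1 : ℕ) : ℚ) by push_cast; ring, ← hP (m + 1)]
  exact congrArg (fun z : ℤ => (z : ℚ)) (CurveLib.euler_iso (K := k)
    (AmpleLib.comm L (CohB1.tensorPow L m) ≪≫ (AmpleLib.unitL (CohB1.tensorPow L (m + 1))).symm))

omit k [Field k] [X.Over (Spec (CommRingCat.of k))] [IsProper (X ↘ Spec (CommRingCat.of k))] in
theorem alpha_shift {P : ℚ[X]} (hP : P.degree < ((3 : ℕ) : WithBot ℕ)) :
    alpha 2 (P.comp (Polynomial.X + 1)) = alpha 2 P ∧
      alpha 1 (P.comp (Polynomial.X + 1)) = alpha 1 P + alpha 2 P := by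
  have h3 : ∀ n, 3 ≤ n → P.coeff n = 0 := fun n hn => (degree_lt_iff_coeff_zero P 3).1 hP n hn
  have e : P = C (P.coeff 2) * Polynomial.X ^ 2 + C (P.coeff 1) * Polynomial.X + C (P.coeff 0) := by
    refine Polynomial.ext fun n => ?_
    match n with
    | 0 => simp
    | 1 => simp
    | 2 => simp
    | n + 3 => simp [h3 (n + 3) (by omega), coeff_X]
  obtain ⟨a, ha⟩ : ∃ a, a = P.coeff 2 := ⟨_, rfl⟩
  obtain ⟨b, hb⟩ : ∃ b, b = P.coeff 1 := ⟨_, rfl⟩
  obtain ⟨c, hc⟩ : ∃ c, c = P.coeff 0 := ⟨_, rfl⟩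
  rw [← ha, ← hb, ← hc] at e
  have e' : P.comp (Polynomial.X + 1) =
      C a * Polynomial.X ^ 2 + C (b + 2 * a) * Polynomial.X + C (a + b + c) := by
    rw [e]
    simp only [add_comp, mul_comp, C_comp, X_pow_comp, X_comp, map_add, map_mul, map_ofNat]
    ring
  simp only [alpha, e', ← ha, ← hb, coeff_add, coeff_C_mul, coeff_X_pow, coeff_X, coeff_C,
    Nat.factorial]
  constructor <;> norm_num <;> ring

variable [IsAlgClosed k] [IsIntegral X] [Smooth (X ↘ Spec (CommRingCat.of k))] [PicGrp.Law X]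

theorem isMuStable_ext (hdim : topologicalKrullDim X = 2) {L : X.Modules} (hLi : PicF.IsInvertible L)
    (hLa : CohB1.IsAmple L) (hgen : ∀ c : PicLoc.PicSet X, ∃ n : ℤ, c = PicGrp.cls L hLi ^ n)
    {N : X.Modules} (ι : N ⟶ L) [Mono ι] (hN : Coh.IsCoh N)
    (hZ : topologicalKrullDim (CohB1.support (cokernel ι)) ≤ 0)
    {V : X.Modules} (hV : Coh.IsCoh V) (hVtf : TorSh.IsTorsionFree V)
    (a : Coh.structureModule X ⟶ V) (b : V ⟶ N) (w : a ≫ b = 0)
    (hex : (ShortComplex.mk a b w).ShortExact)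
    (hns : ∀ r : V ⟶ Coh.structureModule X, a ≫ r ≠ 𝟙 (Coh.structureModule X)) :
    ShStab.IsMuStable k X L V 2 := by
  classical
  haveI := EulerIneqLib.isNoetherian_proper (X := X) k
  haveI := hV.1
  haveI : Mono a := hex.mono_f
  let η := genericPoint X
  let O := Coh.structureModule X
  have hO : Coh.IsCoh O := DevLib.isCoh_structureModule X
  have hLc : Coh.IsCoh L := CurveLib.isCoh_of_isInvertible hLi
  have hVpure : ShStab.IsPure X V 2 :=
    MuSimpleLib.isPure_of_isTF (n := 2) (by exact_mod_cast hdim) (LazMuk.isTF_of_isTorsionFree hVtf)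
  have hOstalk : ∀ x : X, Nontrivial (O.presheaf.stalk x) := fun x => (ParaFLib.bijective_oneG x).1.nontrivial
  have hV0 : ¬ IsZero V := fun h => by
    haveI := hOstalk η
    haveI : Subsingleton (V.presheaf.stalk η) := not_not.1 fun hs =>
      (Set.eq_empty_iff_forall_notMem.1 (HilbLib.support_eq_empty_of_isZero h) η) hs
    exact not_subsingleton (O.presheaf.stalk η) ((PullbackMod.mono_iff_stalk a).1 inferInstance η).subsingleton
  refine ⟨hV, hV0, hVpure _ (𝟙 _) inferInstance hV hV0, ?_, ?_⟩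
  · intro F' ι' hι' hF'
    haveI := hι'
    by_cases h0 : IsZero F'
    · rw [HilbLib.support_eq_empty_of_isZero h0]
      haveI : IsEmpty (IrreducibleCloseds (∅ : Set X)) := ⟨fun c => by
        obtain ⟨z, -⟩ := c.isIrreducible.nonempty
        exact z.2⟩
      rw [topologicalKrullDim, Order.krullDim_eq_bot, WithBot.bot_add]
      exact WithBot.bot_ne_coe
    · rw [hVpure F' ι' hι' hF' h0]
      exact_mod_cast (by omega : (2 : ℕ) + 1 ≠ 2)
  intro G κ hκ hG pG pV hpG hpV hposG hltG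
  haveI := hκ
  haveI := hG.1
  have hdimle : ∀ M : X.Modules, ShStabLib.DimLE 2 M := fun M =>
    lt_of_le_of_lt (Topology.IsInducing.subtypeVal.topologicalKrullDim_le.trans hdim.le)
      (by exact_mod_cast Nat.lt_succ_self 2)
  obtain ⟨P₀, hP₀d, hP₀⟩ := ShStabLib.exists_hp k hLa hO (hdimle O)
  obtain ⟨hL2, hL1⟩ := alpha_shift (P := P₀) hP₀d
  have hpL := hp_self k hP₀
  set δ := form k (cl hLa.1) (cl hLa.1) with hδdef
  have hδ : 0 < δ := form_ample_pos k (by exact_mod_cast hdim) hLa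
  have hA2 : alpha 2 P₀ = (δ : ℚ) := by
    have h := pairing_cl_pow_eq_coeff k hO hLa.1 (d := 2) (ShStabLib.le_of_lt_natCast_add_one _ 2 (hdimle O)) P₀ hP₀d hP₀
    rw [alpha, ← h, hδdef, form, pow_two]
  have hδ' : (0 : ℚ) < (δ : ℚ) := by exact_mod_cast hδ
  -- Hilbert polynomial of `V`
  obtain ⟨pN, -, hpN⟩ := ShStabLib.exists_hp k hLa hN (hdimle N)
  obtain ⟨pQ, hpQ, hsL, hQc, -⟩ := ShStabLib.exists_hp_coker k hLa ι hN hLc (hdimle L) hpN hpL
  have hQ1 : ShStabLib.DimLE 1 (cokernel ι) := lt_of_le_of_lt hZ (by exact_mod_cast Nat.succ_pos 1)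
  obtain ⟨hQ2, -⟩ := LazMuk.alpha_of_dimLE_one k hLa hQc hQ1 hpQ
  have hQ1' : alpha 1 pQ = 0 :=
    ShStabLib.alpha_eq_zero k hLa hQc (lt_of_le_of_lt hZ (by exact_mod_cast Nat.one_pos)) hpQ
  have hsV : pV = P₀ + pN := ShStabLib.hp_add k hLa hex hO hV hN hP₀ hpV hpN
  have hN2 : alpha 2 pN = (δ : ℚ) := by
    have h := congrArg (alpha 2) hsL
    rw [hL2, ShStabLib.alpha_add, hQ2, add_zero, hA2] at h
    exact h.symm
  have hN1 : alpha 1 pN = alpha 1 P₀ + (δ : ℚ) := by
    have h := congrArg (alpha 1) hsL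
    rw [hL1, ShStabLib.alpha_add, hQ1', add_zero, hA2] at h
    exact h.symm
  have hV2 : alpha 2 pV = 2 * (δ : ℚ) := by rw [hsV, ShStabLib.alpha_add, hA2, hN2]; ring
  have hV1 : alpha 1 pV = 2 * alpha 1 P₀ + (δ : ℚ) := by rw [hsV, ShStabLib.alpha_add, hN1]; ring
  -- nonzero submodules of invertible modules
  have hsub : ∀ {M T : X.Modules} (f : M ⟶ T) [Mono f], Coh.IsCoh M → PicF.IsInvertible T → f ≠ 0 →
      ∀ {pM pT : ℚ[X]}, ShStabLib.HP k L M pM → ShStabLib.HP k L T pT →
        ∃ pR : ℚ[X], Coh.IsCoh (cokernel f) ∧ ShStabLib.DimLE 1 (cokernel f) ∧ ShStabLib.HP k L (cokernel f) pR ∧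
          alpha 2 pM = alpha 2 pT ∧ alpha 1 pM = alpha 1 pT - (pairing k (cokernel f) (cl hLa.1) : ℚ) := by
    intro M T f _ hM hT hf pM pT hpM hpT
    obtain ⟨pR, hpR, hs, hRc, -⟩ :=
      ShStabLib.exists_hp_coker k hLa f hM (CurveLib.isCoh_of_isInvertible hT) (hdimle T) hpM hpT
    have hd : ShStabLib.DimLE 1 (cokernel f) := dimLE_one_of_notMem hdim (DevLib.isClosed_support hRc)
      fun h => h (LazMuk.subsingleton_stalk_cokernel f η (surjective_generic_of_invertible hT f hf))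
    obtain ⟨h2, h1⟩ := LazMuk.alpha_of_dimLE_one k hLa hRc hd hpR
    refine ⟨pR, hRc, hd, hpR, ?_, ?_⟩
    · rw [hs, ShStabLib.alpha_add, h2, add_zero]
    · rw [hs, ShStabLib.alpha_add, h1, add_sub_cancel_right]
  have hpair : ∀ {R : X.Modules}, Coh.IsCoh R → ShStabLib.DimLE 1 R → (0 : ℚ) ≤ (pairing k R (cl hLa.1) : ℤ) := by
    intro R hR hRd
    obtain ⟨pR, -, hpR⟩ := ShStabLib.exists_hp k hLa hR hRd
    rw [← (LazMuk.alpha_of_dimLE_one k hLa hR hRd hpR).2]
    exact ShStabLib.alpha_nonneg k hLa hR hRd hpR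
  have hG0 : ¬ IsZero G := fun h => by
    have h0 : pG = 0 := ShStabLib.hp_unique k hpG fun m => by
      rw [Polynomial.eval_zero]; exact HilbLib.chi_isZero k hLa.1 h m
    rw [h0] at hposG
    simp [alpha] at hposG
  suffices hmain : alpha 2 pG = (δ : ℚ) ∧ alpha 1 pG ≤ alpha 1 P₀ by
    show alpha 1 pG / alpha 2 pG < alpha 1 pV / alpha 2 pV
    rw [div_lt_div_iff₀ hposG (by rw [hV2]; linarith), hV1, hV2, hmain.1]
    nlinarith [hmain.2]
  by_cases hc : κ ≫ b = 0
  · let κ' := hex.exact.lift κ hc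
    have hκ' : κ' ≫ a = κ := hex.exact.lift_f κ hc
    haveI : Mono κ' := mono_of_mono_fac hκ'
    have hne : κ' ≠ 0 := fun h => hG0 ((IsZero.iff_id_eq_zero G).2
      ((cancel_mono κ').1 (by rw [Category.id_comp, Limits.zero_comp, h])))
    obtain ⟨pR, hRc, hRd, -, h2, h1⟩ := hsub κ' hG ParaFLib.isInvertible_structureModule hne hpG hP₀
    refine ⟨h2.trans hA2, ?_⟩
    rw [h1]
    linarith [hpair hRc hRd]
  -- the composite to the quotient is injective
  let c := κ ≫ b
  haveI hcm : Mono c := by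
    by_contra hnm
    have hKc := (QCohLib.isCoh_kernel_cokernel c hG hN).1
    have hK0 : ¬ IsZero (kernel c) := fun h => hnm (Preadditive.mono_of_kernel_zero (h.eq_of_src _ _))
    let l := hex.exact.lift (kernel.ι c ≫ κ) (by rw [Category.assoc]; exact kernel.condition c)
    have hl : l ≫ a = kernel.ι c ≫ κ := hex.exact.lift_f _ _
    haveI : Mono l := mono_of_mono_fac hl
    have hl0 : l ≠ 0 := fun h => hK0 ((IsZero.iff_id_eq_zero _).2
      ((cancel_mono l).1 (by rw [Category.id_comp, Limits.zero_comp, h])))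
    obtain ⟨pK, -, hpK⟩ := ShStabLib.exists_hp k hLa hKc (hdimle _)
    obtain ⟨pI, hpI, hsG, hIc, -⟩ := ShStabLib.exists_hp_coker k hLa (kernel.ι c) hKc hG (hdimle G) hpK hpG
    let j : cokernel (kernel.ι c) ⟶ L := Abelian.factorThruCoimage c ≫ ι
    haveI : Mono j := inferInstanceAs (Mono (Abelian.factorThruCoimage c ≫ ι))
    have hj0 : j ≠ 0 := fun h => hc (by
      show c = 0
      rw [← Abelian.coimage.fac c, (cancel_mono ι).1 (h.trans Limits.zero_comp.symm), Limits.comp_zero])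
    obtain ⟨-, -, -, -, hK2, -⟩ := hsub l hKc ParaFLib.isInvertible_structureModule hl0 hpK hP₀
    obtain ⟨-, -, -, -, hI2, -⟩ := hsub j hIc hLi hj0 hpI hpL
    have h := congrArg (alpha 2) hsG
    rw [ShStabLib.alpha_add, hK2, hI2, hL2, hA2] at h
    rw [hV2, h] at hltG
    linarith
  have hc0 : c ≫ ι ≠ 0 := fun h => hc ((cancel_mono ι).1 (h.trans Limits.zero_comp.symm))
  haveI : Mono (c ≫ ι) := mono_comp c ι
  obtain ⟨pR, hRc, hRd, -, h2, h1⟩ := hsub (c ≫ ι) hG hLi hc0 hpG hpL
  rw [hL2, hA2] at h2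
  rw [hL1, hA2] at h1
  refine ⟨h2, ?_⟩
  obtain ⟨I, hI, ⟨θ⟩⟩ := AmpleEmb.exists_isInverseOf hLi
  have hgenI : ∀ z : PicLoc.PicSet X, ∃ n : ℤ, z = PicGrp.cls I hI ^ n := fun z => by
    obtain ⟨n, hn⟩ := hgen z
    exact ⟨-n, by rw [← PicGrp.cls_inv_eq_cls hLi hI ⟨θ⟩, inv_zpow', neg_neg, hn]⟩
  have hq : δ ≤ pairing k (cokernel (c ≫ ι)) (cl hLa.1) := by
    refine LazMuk.le_pairing_of_curves k hLa δ
      (fun J hJi hJd => LazMuk.le_pairing_curve k hdim hI hLa θ hgenI J hJi hJd) hRc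
      (ShStabLib.le_of_lt_natCast_add_one _ 1 hRd) fun hlt => ?_
    have hcl := DevLib.isClosed_support hRc
    have hR0 : topologicalKrullDim (CohB1.support (cokernel (c ≫ ι))) ≤ 0 := by
      have := ShStabLib.le_of_lt_natCast_add_one _ 0 (by exact_mod_cast hlt)
      exact_mod_cast this
    have hreg := fun x => ASp.isRegularLocalRing_stalk_of_smooth_field (X ↘ Spec (CommRingCat.of k)) x
    let U : X.Opens := ⟨(CohB1.support (cokernel (c ≫ ι)))ᶜ, hcl.isOpen_compl⟩
    have hd : ∀ y : X, y ∉ U → (2 : WithBot ℕ∞) ≤ ringKrullDim (X.presheaf.stalk y) := fun y hy => by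
      have hy' : y ∈ CohB1.support (cokernel (c ≫ ι)) := not_not.1 hy
      rw [TwistShriek.dim_closed_point_integral (n := 2) (X ↘ Spec (CommRingCat.of k)) (by exact_mod_cast hdim) y
        (by rw [← CurveLib.closure_singleton_eq hcl hR0 hy']; exact isClosed_closure)]
      exact le_of_eq Nat.cast_ofNat.symm
    let h : O ⊞ G ⟶ V := biprod.desc a κ
    haveI : Mono h := Preadditive.mono_of_cancel_zero h fun {T} t ht => by
      have e1 : (t ≫ biprod.fst) ≫ a + (t ≫ biprod.snd) ≫ κ = 0 := by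
        rw [← ht, Category.assoc, Category.assoc, ← Preadditive.comp_add]
        exact congrArg _ biprod.desc_eq.symm
      have e2 : t ≫ biprod.snd = 0 := (cancel_mono c).1 (by
        rw [Limits.zero_comp]
        have := congrArg (· ≫ b) e1
        simpa [Preadditive.add_comp, Category.assoc, w, c] using this)
      rw [e2, Limits.zero_comp, add_zero] at e1
      have e3 : t ≫ biprod.fst = 0 := (cancel_mono a).1 (by rw [Limits.zero_comp]; exact e1)
      exact biprod.hom_ext _ _ (by rw [e3, Limits.zero_comp]) (by rw [e2, Limits.zero_comp])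
    obtain ⟨ψ, hψ⟩ := exists_extend_hom h U (fun x hx => ⟨(PullbackMod.mono_iff_stalk h).1 inferInstance x, fun y => by
        obtain ⟨z, hz⟩ := LazMuk.mem_support_coker_iff (c ≫ ι) x hx (stalkLin ι x (stalkLin b x y))
        rw [stalkLin_comp, LinearMap.comp_apply] at hz
        have hz' : stalkLin c x z = stalkLin b x y := (PullbackMod.mono_iff_stalk ι).1 inferInstance x hz
        obtain ⟨o, ho⟩ := (SyzLib.exact_stalkLin' (ShortComplex.mk a b w) hex.exact x (y - stalkLin κ x z)).1 (by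
          rw [map_sub, ← LinearMap.comp_apply, ← stalkLin_comp, show κ ≫ b = c from rfl, hz', sub_self])
        refine ⟨stalkLin (biprod.inl : O ⟶ O ⊞ G) x o + stalkLin (biprod.inr : G ⟶ O ⊞ G) x z, ?_⟩
        rw [map_add, ← LinearMap.comp_apply, ← stalkLin_comp, ← LinearMap.comp_apply, ← stalkLin_comp,
          biprod.inl_desc, biprod.inr_desc]
        exact (congrArg (· + _) ho).trans (sub_add_cancel _ _)⟩)
      (fun W => NormalRefLib.bijective_res (NormalRefLib.normal_of_regular (X := X) hreg) hO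
        (ASBunKS.isReflexive_invertible ParaFLib.isInvertible_structureModule) W (W ⊓ U) inf_le_left
        fun y hy hyU => hd y fun hyU' => hyU ⟨hy, hyU'⟩) (biprod.fst : O ⊞ G ⟶ O)
    refine hns ψ ?_
    rw [show a = biprod.inl ≫ h from (biprod.inl_desc a κ).symm, Category.assoc, hψ, biprod.inl_fst]
  have hq' : (δ : ℚ) ≤ (pairing k (cokernel (c ≫ ι)) (cl hLa.1) : ℤ) := by exact_mod_cast hq
  linarith

end Groth.Agent.ExtStab
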