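import Groth.Agent.ExtStabLib.IdealPair
import Groth.Agent.ExtStabLib.Stable
import Groth.Agent.MuSimpleLib.Basic
import Groth.Agent.Boot.Helpers
import Groth.Agent.HilbCurveLib.Split
import Groth.Agent.DCohLib.GammaVanish

/-!
# A stable extension of the structure sheaf by the ideal of a point
-/

set_option autoImplicit false
set_option backward.isDefEq.respectTransparency false
set_option linter.style.haveILetI false
set_option maxHeartbeats 1000000
set_option synthInstance.maxHeartbeats 200000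

universe u

open CategoryTheory CategoryTheory.Limits AlgebraicGeometry TopologicalSpace Polynomial
open CategoryTheory.Abelian
open Groth.Agent.PullbackMod Groth.Agent.DCohLib StabCat

noncomputable section

namespace Groth.Agent.ExtStab

variable (k : Type u) [Field k] {X : Scheme.{u}} [X.Over (Spec (CommRingCat.of k))]
  [IsProper (X ↘ Spec (CommRingCat.of k))] [IsIntegral X]

/-- Subsheaves of the structure sheaf: multiplicity one and colength. -/
theorem alpha_sub_structure {L : X.Modules} (hL : CohB1.IsAmple L) {n : ℕ}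
    (hn : topologicalKrullDim X = (n : WithBot ℕ∞)) {pO : ℚ[X]}
    (hpO : ShStabLib.HP k L (Coh.structureModule X) pO) {F : X.Modules} (hF : Coh.IsCoh F) (h0 : ¬ IsZero F)
    (u : F ⟶ Coh.structureModule X) [Mono u] {pF : ℚ[X]} (hpF : ShStabLib.HP k L F pF) :
    ∃ Q : ℚ[X], ShStabLib.HP k L (cokernel u) Q ∧ Coh.IsCoh (cokernel u) ∧ pO = pF + Q ∧
      alpha n Q = 0 ∧ 0 ≤ Q.leadingCoeff ∧ (¬ IsIso u → 0 < Q.leadingCoeff) := by
  haveI := EulerIneqLib.isNoetherian_proper (X := X) k
  have hOc : Coh.IsCoh (Coh.structureModule X) := DevLib.isCoh_structureModule X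
  have hd : ∀ M : X.Modules, ShStabLib.DimLE n M := fun M => lt_of_le_of_lt
    (Topology.IsInducing.subtypeVal.topologicalKrullDim_le.trans hn.le) (by exact_mod_cast Nat.lt_succ_self n)
  have hu : u ≠ 0 := fun h => h0 (IsZero.of_mono_eq_zero u h)
  obtain ⟨Q, hQ, hadd, hQc, hQd⟩ := ShStabLib.exists_hp_coker k hL u hF hOc (hd _) hpF hpO
  have hη : genericPoint X ∉ CohB1.support (cokernel u) := fun h => h
    (LazMuk.subsingleton_stalk_cokernel _ _ (surjective_generic_of_invertible
      (PicLoc.isInvertible_structureModule X) u hu))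
  have hsub : CohB1.support (cokernel u) ⊆ closure {genericPoint X} := by
    rw [(genericPoint_spec X).def]
    exact Set.subset_univ _
  have hlt : topologicalKrullDim (CohB1.support (cokernel u)) < (n : WithBot ℕ∞) :=
    HilbLib.dim_lt_of_notMem (DevLib.isClosed_support hQc) hsub hη (lt_of_le_of_lt
      (Topology.IsInducing.subtypeVal.topologicalKrullDim_le.trans hn.le) (by exact_mod_cast Nat.lt_succ_self n))
  refine ⟨Q, hQ, hQc, hadd, ShStabLib.alpha_eq_zero k hL hQc hlt hQ, ShStabLib.lc_nonneg k hL hQc (hd _) hQ,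
    fun hni => ShStabLib.lc_pos k hL hQc (fun hz => hni ?_) (hd _) hQ⟩
  haveI : Epi u := Preadditive.epi_of_isZero_cokernel _ hz
  exact isIso_of_mono_of_epi u

/-- A positive colength is at least one. -/
theorem lc_two_mul_sub_one {L : X.Modules} {M : X.Modules} {Q : ℚ[X]} (hQ : ShStabLib.HP k L M Q)
    (h : 0 < Q.leadingCoeff) : 0 < (2 * Q - 1).leadingCoeff := by
  rcases Nat.eq_zero_or_pos Q.natDegree with h0 | hpos
  · obtain ⟨c, rfl⟩ := natDegree_eq_zero.1 h0
    rw [leadingCoeff_C] at h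
    have hq := euler_of_hilb k hQ
    rw [eval_C] at hq
    have h1 : (1 : ℤ) ≤ Curv2.euler k X M := by
      have : (0 : ℚ) < (Curv2.euler k X M : ℚ) := by rw [hq]; exact h
      exact_mod_cast this
    have h2 : (1 : ℚ) ≤ c := by
      rw [← hq]
      exact_mod_cast h1
    rw [show (2 : ℚ[X]) * C c - 1 = C (2 * c - 1) by rw [C_sub, C_mul, C_1, ← C_ofNat], leadingCoeff_C]
    linarith
  · have hdeg : (1 : ℚ[X]).degree < (2 * Q).degree := by
      rw [show (2 : ℚ[X]) = C 2 from (C_ofNat 2).symm, degree_C_mul (two_ne_zero' ℚ), degree_one]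
      exact natDegree_pos_iff_degree_pos.1 hpos
    rw [leadingCoeff_sub_of_degree_lt hdeg, show (2 : ℚ[X]) = C 2 from (C_ofNat 2).symm, leadingCoeff_mul,
      leadingCoeff_C]
    linarith

/-- A non-split extension of the structure sheaf by an ideal of colength one is stable. -/
theorem isStable_ext_colength_one {L : X.Modules} (hL : CohB1.IsAmple L) {n : ℕ} (hn1 : 1 ≤ n)
    (hn : topologicalKrullDim X = (n : WithBot ℕ∞)) {pO : ℚ[X]}
    (hpO : ShStabLib.HP k L (Coh.structureModule X) pO) {I : X.Modules} (hI : Coh.IsCoh I)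
    (i : I ⟶ Coh.structureModule X) [Mono i] (hI0 : ¬ IsZero I) (hpI : ShStabLib.HP k L I (pO - 1))
    {E : X.Modules} (f : I ⟶ E) (g : E ⟶ Coh.structureModule X) (w : f ≫ g = 0)
    (hS : (ShortComplex.mk f g w).ShortExact)
    (hns : ∀ t : Coh.structureModule X ⟶ E, t ≫ g ≠ 𝟙 (Coh.structureModule X)) :
    ShStab.IsStable k X L E n ∧ ShStabLib.HP k L E (2 * pO - 1) ∧ 0 < alpha n pO := by
  haveI := EulerIneqLib.isNoetherian_proper (X := X) k
  haveI : Mono f := hS.mono_f
  haveI : Epi g := hS.epi_g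
  have hOc : Coh.IsCoh (Coh.structureModule X) := DevLib.isCoh_structureModule X
  have hEc : Coh.IsCoh E := QCohLib.isCoh_X₂ hS hI hOc
  have hd : ∀ M : X.Modules, ShStabLib.DimLE n M := fun M => lt_of_le_of_lt
    (Topology.IsInducing.subtypeVal.topologicalKrullDim_le.trans hn.le) (by exact_mod_cast Nat.lt_succ_self n)
  obtain ⟨pE, -, hpE⟩ := ShStabLib.exists_hp k hL hEc (hd E)
  have hE2 : pE = 2 * pO - 1 := by
    rw [ShStabLib.hp_add k hL hS hI hEc hOc hpI hpE hpO]
    ring
  have hlift : ∀ {F : X.Modules} (j : F ⟶ E) (hj : j ≫ g = 0), ∃ l : F ⟶ I, l ≫ f = j := fun j hj =>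
    ⟨hS.exact.lift j hj, hS.exact.lift_f j hj⟩
  -- nonzero subsheaves have full support
  have hpure : ShStab.IsPure X E n := by
    intro F j hj hF h0
    have hO := MuSimpleLib.isPure_of_isTF (X := X) hn MuSimpleLib.isTF_structureModule
    haveI := hj
    by_cases hu : j ≫ g = 0
    · obtain ⟨l, hl⟩ := hlift j hu
      haveI : Mono l := mono_of_mono_fac hl
      exact hO F (l ≫ i) (mono_comp _ _) hF h0
    · have hIm := ShStabLib.isCoh_image' (j ≫ g) hF hOc
      have h2 := hO _ (Abelian.image.ι (j ≫ g)) inferInstance hIm (ShStabLib.not_isZero_image hu)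
      refine le_antisymm ((Topology.IsInducing.subtypeVal.topologicalKrullDim_le).trans hn.le) (h2.symm.le.trans ?_)
      exact (Topology.IsEmbedding.inclusion
        (ShStabLib.support_subset_of_epi (Abelian.factorThruImage (j ≫ g)))).isInducing.topologicalKrullDim_le
  have hαO : 0 < alpha n pO := ShStabLib.alpha_pos_of_isPure k hL hOc
    (fun h => hI0 (IsZero.of_mono i h)) (MuSimpleLib.isPure_of_isTF (X := X) hn MuSimpleLib.isTF_structureModule) hpO
  have hone : alpha n (1 : ℚ[X]) = 0 := by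
    rw [alpha, coeff_one, if_neg (by omega), mul_zero]
  have hαE : alpha n pE = 2 * alpha n pO := by
    rw [hE2, alpha, alpha, coeff_sub, mul_sub, show (2 : ℚ[X]) = C 2 from (C_ofNat 2).symm, coeff_C_mul]
    rw [alpha] at hone
    rw [hone]
    ring
  have hE0 : ¬ IsZero E := fun h => hI0 (IsZero.of_mono f h)
  refine ⟨⟨hEc, hE0, hpure, ?_⟩, hE2 ▸ hpE, hαO⟩
  intro F j hj hF h0 hiso pF pE' hpF hpE'
  obtain rfl := ShStabLib.hp_unique k hpE hpE'
  haveI := hj
  rw [ShStabLib.redLT_iff, ShStabLib.cr, hαE]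
  by_cases hu : j ≫ g = 0
  · obtain ⟨l, hl⟩ := hlift j hu
    haveI : Mono l := mono_of_mono_fac hl
    obtain ⟨QI, hQI, -, hQIadd, hQI0, -, -⟩ := alpha_sub_structure k hL hn hpO hI hI0 i hpI
    obtain ⟨Q, hQ, hQadd, hQc, -⟩ := ShStabLib.exists_hp_coker k hL l hF hI (hd _) hpF hpI
    obtain ⟨Q', hQ', -, hQ'add, hQ'0, -, -⟩ := alpha_sub_structure k hL hn hpO hF h0 (l ≫ i) hpF
    have hαF : alpha n pF = alpha n pO := by rw [hQ'add, ShStabLib.alpha_add, hQ'0, add_zero]
    rw [hαF, hE2, show alpha n pO • (2 * pO - 1) - (2 * alpha n pO) • pF = alpha n pO • ((1 : ℚ[X]) + (Q + Q)) by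
      rw [show pF = pO - 1 - Q by rw [hQadd]; ring, Polynomial.smul_eq_C_mul, Polynomial.smul_eq_C_mul,
        Polynomial.smul_eq_C_mul, map_mul, C_ofNat]
      ring, ShStabLib.lc_smul_pos_iff hαO]
    have hQn := ShStabLib.lc_nonneg k hL hQc (hd _) hQ
    exact ShStabLib.lc_add_pos (by rw [leadingCoeff_one]; norm_num) (ShStabLib.lc_add_nonneg hQn hQn)
  · have hIm := ShStabLib.isCoh_image' (j ≫ g) hF hOc
    have hIm0 := ShStabLib.not_isZero_image hu
    obtain ⟨pJ, -, hpJ⟩ := ShStabLib.exists_hp k hL hIm (hd _)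
    obtain ⟨pK, hpK, hKadd, hKc, -⟩ :=
      ShStabLib.exists_hp_ker k hL (Abelian.factorThruImage (j ≫ g)) hF hIm (hd _) hpF hpJ
    obtain ⟨QJ, hQJ, -, hQJadd, hQJ0, -, hQJpos⟩ :=
      alpha_sub_structure k hL hn hpO hIm hIm0 (Abelian.image.ι (j ≫ g)) hpJ
    have hαJ : alpha n pJ = alpha n pO := by rw [hQJadd, ShStabLib.alpha_add, hQJ0, add_zero]
    by_cases hK0 : IsZero (kernel (Abelian.factorThruImage (j ≫ g)))
    · have hpK0 : pK = 0 := ShStabLib.hp_unique k hpK fun m => by
        rw [eval_zero]; exact HilbLib.chi_isZero k hL.1 hK0 m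
      have hpFJ : pF = pJ := by rw [hKadd, hpK0, zero_add]
      have hni : ¬ IsIso (Abelian.image.ι (j ≫ g)) := by
        intro hi'
        haveI := hi'
        haveI : Mono (Abelian.factorThruImage (j ≫ g)) :=
          Preadditive.mono_of_isZero_kernel _ hK0
        haveI : IsIso (Abelian.factorThruImage (j ≫ g)) := isIso_of_mono_of_epi _
        haveI : IsIso (j ≫ g) := by
          rw [← Abelian.image.fac (j ≫ g)]
          infer_instance
        exact hns (inv (j ≫ g) ≫ j) (by rw [Category.assoc, IsIso.inv_hom_id])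
      rw [hpFJ, hαJ, hE2, show alpha n pO • (2 * pO - 1) - (2 * alpha n pO) • pJ = alpha n pO • (2 * QJ - 1) by
        rw [show pJ = pO - QJ by rw [hQJadd]; ring, Polynomial.smul_eq_C_mul, Polynomial.smul_eq_C_mul,
          Polynomial.smul_eq_C_mul, map_mul, C_ofNat]
        ring, ShStabLib.lc_smul_pos_iff hαO]
      exact lc_two_mul_sub_one k hQJ (hQJpos hni)
    · obtain ⟨l, hl⟩ := hlift (kernel.ι (Abelian.factorThruImage (j ≫ g)) ≫ j) (by
        rw [Category.assoc]
        exact (congrArg (kernel.ι _ ≫ ·) (Abelian.image.fac (j ≫ g)).symm).trans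
          (by rw [kernel.condition_assoc, Limits.zero_comp]))
      haveI : Mono (l ≫ f) := by rw [hl]; exact mono_comp _ _
      haveI : Mono l := mono_of_mono l f
      obtain ⟨Q', hQ', -, hQ'add, hQ'0, -, -⟩ := alpha_sub_structure k hL hn hpO hKc hK0 (l ≫ i) hpK
      have hαK : alpha n pK = alpha n pO := by rw [hQ'add, ShStabLib.alpha_add, hQ'0, add_zero]
      have hαF : alpha n pF = 2 * alpha n pO := by rw [hKadd, ShStabLib.alpha_add, hαK, hαJ]; ring
      obtain ⟨Q, hQ, hQadd, hQc, -⟩ := ShStabLib.exists_hp_coker k hL j hF hEc (hd _) hpF hpE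
      rw [hαF, show (2 * alpha n pO) • pE - (2 * alpha n pO) • pF = (2 * alpha n pO) • Q by
        rw [hQadd, smul_add, add_sub_cancel_left], ShStabLib.lc_smul_pos_iff (by linarith)]
      refine ShStabLib.lc_pos k hL hQc (fun hz => hiso ?_) (hd _) hQ
      haveI : Epi j := Preadditive.epi_of_isZero_cokernel _ hz
      exact isIso_of_mono_of_epi j

variable [IsAlgClosed k] [Smooth (X ↘ Spec (CommRingCat.of k))]

/-- The extension, when the first cohomology of the structure sheaf is nonzero. -/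
theorem exists_stable_ext_point {L : X.Modules} (hL : CohB1.IsAmple L) {n : ℕ} (hn1 : 1 ≤ n)
    (hn : topologicalKrullDim X = (n : WithBot ℕ∞))
    (h1 : Nontrivial (Coh.HH X (Coh.structureModule X) 1)) :
    ∃ (pO : ℚ[X]) (I E : X.Modules) (f : I ⟶ E), ShStabLib.HP k L (Coh.structureModule X) pO ∧ Mono f ∧
      ¬ IsIso f ∧ Coh.IsCoh I ∧ ¬ IsZero I ∧ ShStabLib.HP k L I (pO - 1) ∧ ShStab.IsStable k X L E n ∧
      ShStabLib.HP k L E (2 * pO - 1) ∧ 0 < alpha n pO := by
  haveI := EulerIneqLib.isNoetherian_proper (X := X) k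
  obtain ⟨σ, hσ⟩ := Boot.exists_section_of_nonempty (X ↘ Spec (CommRingCat.of k))
  obtain ⟨-, hdeg⟩ := HilbCurveLib.deg_section (X ↘ Spec (CommRingCat.of k)) σ hσ
  let J := σ.ker
  have hQ : ShStabLib.HP k L (ClSub.quotMod J) (C ((1 : ℕ) : ℚ)) := hp_quotMod_of_deg k hL J hdeg
  have hQc : Coh.IsCoh (ClSub.quotMod J) := IntLib.isCoh_quotMod J
  have hIc : Coh.IsCoh (ClSub.idealMod J) := RefOne.isCoh_idealMod J
  have hOc : Coh.IsCoh (Coh.structureModule X) := DevLib.isCoh_structureModule X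
  have hd : ∀ M : X.Modules, ShStabLib.DimLE n M := fun M => lt_of_le_of_lt
    (Topology.IsInducing.subtypeVal.topologicalKrullDim_le.trans hn.le) (by exact_mod_cast Nat.lt_succ_self n)
  haveI : Mono (ClSub.idealModι J) := inferInstanceAs (Mono (kernel.ι _))
  haveI := SerreAff.epi_unitToPush J.subschemeι
  have hS : (ShortComplex.mk (ClSub.idealModι J) (ClSub.toSubscheme J) (kernel.condition _)).ShortExact :=
    ShortComplex.ShortExact.mk' (ShortComplex.exact_of_f_is_kernel _ (kernelIsKernel _)) inferInstance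
      (inferInstanceAs (Epi (ClSub.toSubscheme J)))
  obtain ⟨pO, hpOd, hpO⟩ := ShStabLib.exists_hp k hL hOc (hd _)
  obtain ⟨pI, -, hpI'⟩ := ShStabLib.exists_hp k hL hIc (hd _)
  have hpI : ShStabLib.HP k L (ClSub.idealMod J) (pO - 1) := by
    have h := ShStabLib.hp_add k hL hS hIc hOc hQc hpI' hpO hQ
    rw [Nat.cast_one, C_1] at h
    rw [h, add_sub_cancel_right]
    exact hpI'
  -- the ideal is not zero
  have hI0 : ¬ IsZero (ClSub.idealMod J) := fun hz => by
    have h0 : pO - 1 = 0 := ShStabLib.hp_unique k hpI fun m => by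
      rw [eval_zero]; exact HilbLib.chi_isZero k hL.1 hz m
    have hpure := MuSimpleLib.isPure_of_isTF (X := X) hn MuSimpleLib.isTF_structureModule
    have hO0 : ¬ IsZero (Coh.structureModule X) := fun h => by
      haveI := (ParaFLib.bijective_oneG (genericPoint X)).1.nontrivial
      haveI : Subsingleton ((Coh.structureModule X).presheaf.stalk (genericPoint X)) := not_not.1 fun hs =>
        (Set.eq_empty_iff_forall_notMem.1 (HilbLib.support_eq_empty_of_isZero h) _) hs
      exact not_subsingleton ((Coh.structureModule X).presheaf.stalk (genericPoint X)) inferInstance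
    have hpos := ShStabLib.alpha_pos_of_isPure k hL hOc hO0 hpure hpO
    rw [sub_eq_zero.1 h0, alpha, coeff_one, if_neg (by omega), mul_zero] at hpos
    exact lt_irrefl _ hpos
  -- a non-zero class
  haveI : HasExt.{u} X.Modules := inferInstance
  haveI hQ1 : Subsingleton (Ext.{u} (Coh.structureModule X) (ClSub.quotMod J) 1) :=
    DCohLib.subsingleton_ext_unit _ 1 (CurveLib.subsingleton_HH_of_support _ (DevLib.isClosed_support hQc)
      subset_rfl (d := 0) (by exact_mod_cast dim_le_zero_of_hp_C k hL hQc hn.le hQ) Nat.one_pos)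
  obtain ⟨e⟩ := Groth.Agent.SiteBase.nonempty_ext_unit_H X.ringCatSheaf (Coh.structureModule X) 1
  haveI : Nontrivial (Ext.{u} (Coh.structureModule X) (Coh.structureModule X) 1) :=
    e.toEquiv.nontrivial_congr.2 h1
  obtain ⟨η, hη⟩ := exists_ne (0 : Ext.{u} (Coh.structureModule X) (Coh.structureModule X) 1)
  obtain ⟨ξ, hξ⟩ := Ext.covariant_sequence_exact₂ (Coh.structureModule X) hS η (Subsingleton.elim _ _)
  have hξ0 : ξ ≠ 0 := fun h => hη (by rw [← hξ, h, Ext.zero_comp])
  obtain ⟨E, f, g, w, hE, hcl⟩ := ExtOneLib.exists_extension ξ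
  haveI : Mono f := hE.mono_f
  haveI : Epi g := hE.epi_g
  have hns : ∀ t : Coh.structureModule X ⟶ E, t ≫ g ≠ 𝟙 (Coh.structureModule X) := fun t ht => hξ0 (by
    rw [← hcl, ← Ext.mk₀_id_comp hE.extClass, ← ht, ← Ext.mk₀_comp_mk₀, Ext.comp_assoc_of_second_deg_zero,
      hE.comp_extClass, Ext.comp_zero])
  obtain ⟨hst, hpE, hα⟩ := isStable_ext_colength_one k hL hn1 hn hpO hIc (ClSub.idealModι J) hI0 hpI f g w hE hns
  refine ⟨pO, _, E, f, hpO, inferInstance, fun hi => ?_, hIc, hI0, hpI, hst, hpE, hα⟩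
  haveI := hi
  have hg : g = 0 := by rw [← cancel_epi f, w, Limits.comp_zero]
  exact not_subsingleton (Ext.{u} (Coh.structureModule X) (Coh.structureModule X) 1) (subsingleton_of_forall_eq 0
    fun y => by
      have hid : (𝟙 (Coh.structureModule X)) = 0 := by rw [← cancel_epi g, hg, Limits.zero_comp, Limits.zero_comp]
      rw [← Ext.mk₀_id_comp y, hid, Ext.mk₀_zero, Ext.zero_comp])

end Groth.Agent.ExtStab
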