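import Groth.Agent.ExtStabLib.K3Vanish
import Groth.Agent.DefoCechLib.FirstOrder
import Groth.Agent.DefExtLib.HomIso
import Groth.Agent.ExtOneLib
import Groth.Agent.VBLib.Point
import Groth.Agent.VBLib.CurveDual
import Groth.Agent.ShStabLib.Simple
import Groth.Agent.LocNoethMod.Injective
import Groth.Prelude.Def_KLin

/-!
# Extensions with a middle term that is not locally free
-/

set_option autoImplicit false
set_option backward.isDefEq.respectTransparency false
set_option linter.style.haveILetI false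
set_option maxHeartbeats 1000000
set_option synthInstance.maxHeartbeats 200000

universe u

open CategoryTheory CategoryTheory.Limits AlgebraicGeometry CategoryTheory.Abelian
open Groth.Agent.PullbackMod Groth.Agent.DCohLib Groth.Agent.VBLib.DualDeg IsLocalRing

noncomputable section

namespace Groth.Agent.ExtStab

section Alg

variable {R : Type*} [CommRing R] [IsLocalRing R] {L V N : Type*} [AddCommGroup L] [Module R L] [AddCommGroup V]
  [Module R V] [AddCommGroup N] [Module R N]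

/-- If the quotient is not projective, no functional on a projective middle term takes a unit value on the
generator of the sub. -/
theorem functional_mem_maximalIdeal [Module.Projective R V] {f : L →ₗ[R] V} {g : V →ₗ[R] N}
    (hfg : Function.Exact f g) (hg : Function.Surjective g) {s : L}
    (hs : Function.Surjective fun r : R => r • s) (hN : ¬ Module.Projective R N) (η : V →ₗ[R] R) :
    η (f s) ∈ maximalIdeal R := by
  by_contra h
  obtain ⟨v, hv⟩ : IsUnit (η (f s)) := not_not.1 fun hu => h ((mem_maximalIdeal _).2 hu)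
  let p : V →ₗ[R] V := LinearMap.id - (η.smulRight ((↑v⁻¹ : R) • f s))
  have hp : ∀ w, p w = w - η w • ((↑v⁻¹ : R) • f s) := fun w => rfl
  have hpker : LinearMap.ker g ≤ LinearMap.ker p := fun w hw => by
    obtain ⟨l, rfl⟩ := (hfg w).1 hw
    obtain ⟨r, rfl⟩ := hs l
    rw [LinearMap.mem_ker, hp, map_smul, map_smul, ← hv, smul_smul, smul_eq_mul, mul_assoc, Units.mul_inv, mul_one,
      sub_self]
  let σ : N →ₗ[R] V := ((LinearMap.ker g).liftQ p hpker).comp (g.quotKerEquivOfSurjective hg).symm.toLinearMap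
  refine hN (Module.Projective.of_split σ g (LinearMap.ext fun n => ?_))
  obtain ⟨w, rfl⟩ := hg n
  have e : (g.quotKerEquivOfSurjective hg).symm (g w) = (LinearMap.ker g).mkQ w := by
    rw [LinearEquiv.symm_apply_eq]
    rfl
  rw [LinearMap.id_apply, LinearMap.comp_apply, LinearMap.comp_apply, LinearEquiv.coe_coe, e,
    Submodule.mkQ_apply, Submodule.liftQ_apply, hp, map_sub, map_smul, map_smul, (hfg (f s)).2 ⟨s, rfl⟩,
    smul_zero, smul_zero, sub_zero]

/-- An endomorphism over the identity of a non-projective quotient is the identity modulo the maximal ideal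
on the sub. -/
theorem sub_one_mem_maximalIdeal [Module.Projective R V] {f : L →ₗ[R] V} {g : V →ₗ[R] N}
    (hf : Function.Injective f) (hfg : Function.Exact f g) (hg : Function.Surjective g) {s : L}
    (hs : Function.Bijective fun r : R => r • s) (hN : ¬ Module.Projective R N) {e : V →ₗ[R] V}
    (he : ∀ w, g (e w) = g w) {lam : R} (hlam : e (f s) = lam • f s) : lam - 1 ∈ maximalIdeal R := by
  let φ : R →ₗ[R] V := f.comp (LinearMap.toSpanSingleton R L s)
  have hφi : Function.Injective φ := hf.comp hs.1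
  have hmem : ∀ w, (e - LinearMap.id : V →ₗ[R] V) w ∈ LinearMap.range φ := fun w => by
    obtain ⟨l, hl⟩ := (hfg _).1 (show g ((e - LinearMap.id : V →ₗ[R] V) w) = 0 by
      rw [LinearMap.sub_apply, map_sub, he, LinearMap.id_apply, sub_self])
    obtain ⟨r, rfl⟩ := hs.2 l
    exact ⟨r, hl⟩
  let η : V →ₗ[R] R :=
    (LinearEquiv.ofInjective φ hφi).symm.toLinearMap.comp (LinearMap.codRestrict _ (e - LinearMap.id) hmem)
  have hη : η (f s) = lam - 1 := by
    refine hφi ?_
    show φ ((LinearEquiv.ofInjective φ hφi).symm _) = _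
    rw [← LinearEquiv.ofInjective_apply (f := φ) (h := hφi), LinearEquiv.apply_symm_apply,
      LinearMap.codRestrict_apply, LinearMap.sub_apply, hlam, LinearMap.id_apply]
    show lam • f s - f s = f ((lam - 1) • s)
    rw [map_smul, sub_smul, one_smul]
  exact hη ▸ functional_mem_maximalIdeal hfg hg hs.2 hN η

/-- Two extensions with projective middle terms, compared through a third module. -/
theorem not_mem_of_lifts {V' : Type*} [AddCommGroup V'] [Module R V']
    [Module.Projective R V] [Module.Projective R V'] {f : L →ₗ[R] V} {g : V →ₗ[R] N}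
    (hf : Function.Injective f) (hfg : Function.Exact f g) (hg : Function.Surjective g) {s : L}
    (hs : Function.Bijective fun r : R => r • s) (hN : ¬ Module.Projective R N)
    {f' : L →ₗ[R] V'} {g' : V' →ₗ[R] N} (hfg' : g' (f' s) = 0) (t : V →ₗ[R] V') (ht : ∀ w, g' (t w) = g w)
    {μ : R} (hμ : t (f s) = μ • f' s) : μ ∉ maximalIdeal R := by
  intro hμm
  obtain ⟨h, hh⟩ := Module.projective_lifting_property g g' hg
  obtain ⟨l, hl⟩ := (hfg (h (f' s))).1 (by rw [← LinearMap.comp_apply, hh, hfg'])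
  obtain ⟨γ, rfl⟩ := hs.2 l
  have := sub_one_mem_maximalIdeal hf hfg hg hs hN (e := h.comp t)
    (fun w => by rw [LinearMap.comp_apply, ← LinearMap.comp_apply, hh, ht]) (lam := μ * γ) (by
      rw [LinearMap.comp_apply, hμ, map_smul, ← hl, map_smul, smul_smul])
  exact (Ideal.ne_top_iff_one _).1 (maximalIdeal.isMaximal R).ne_top
    (by simpa using sub_mem (Ideal.mul_mem_right γ _ hμm) this)

end Alg

variable (k : Type u) [Field k] {X : Scheme.{u}} [X.Over (Spec (CommRingCat.of k))]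

theorem cst_eq_smul_id (M : X.Modules) (c : k) : (VBLib.cst k M c : M ⟶ M) = c • 𝟙 M := by
  refine Scheme.Modules.hom_ext _ _ fun U => AddCommGrpCat.hom_ext (AddMonoidHom.ext fun m => ?_)
  show (FactorOne.mulEnd M _).app U m = (c • 𝟙 M).app U m
  rw [FactorOne.mulEnd_app, KLin.smul_app_apply]
  rfl

/-- A class outside a given line. -/
theorem exists_pair {E : Type*} [AddCommGroup E] [Module k E] (h2 : 2 ≤ Module.finrank k E) :
    ∃ e₁ e₂ : E, e₁ ≠ 0 ∧ ∀ c : k, e₂ - c • e₁ ≠ 0 := by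
  haveI := Module.nontrivial_of_finrank_pos (R := k) (M := E) (by omega)
  obtain ⟨e₁, he⟩ := exists_ne (0 : E)
  have hlt : Submodule.span k {e₁} ≠ ⊤ := fun h => by
    have := finrank_top k E
    rw [← h, finrank_span_singleton he] at this
    omega
  obtain ⟨e₂, he₂⟩ : ∃ e, e ∉ Submodule.span k {e₁} := by
    by_contra hc
    push Not at hc
    exact hlt (eq_top_iff.2 fun x _ => hc x)
  exact ⟨e₁, e₂, he, fun c h => he₂ (sub_eq_zero.1 h ▸ Submodule.smul_mem _ c (Submodule.mem_span_singleton_self e₁))⟩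

omit [X.Over (Spec (CommRingCat.of k))] in
/-- Nonzero classes do not split. -/
theorem nonsplit_of_ne_zero [HasExt.{u} X.Modules] {S : ShortComplex X.Modules} (hS : S.ShortExact)
    (h : hS.extClass ≠ 0) (r : S.X₂ ⟶ S.X₁) : S.f ≫ r ≠ 𝟙 S.X₁ := fun hr => h (by
  rw [← Ext.comp_mk₀_id hS.extClass, ← hr, ← Ext.mk₀_comp_mk₀,
    ← Ext.comp_assoc_of_third_deg_zero, hS.extClass_comp, Ext.zero_comp])

variable [IsProper (X ↘ Spec (CommRingCat.of k))] [IsAlgClosed k]

/-- Two independent classes give an extension whose middle term is not locally free, at a closed point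
where the quotient is not free. -/
theorem exists_not_flf_of_point [HasExt.{u} X.Modules] {L N : X.Modules} (hL : PicF.IsInvertible L)
    {x : X} (hx : IsClosed ({x} : Set X)) (hN : ¬ Module.Projective (X.presheaf.stalk x) (N.presheaf.stalk x))
    (e₁ e₂ : Ext N L 1) (h₁ : e₁ ≠ 0) (h₂ : ∀ c : k, e₂ - c • e₁ ≠ 0) :
    ∃ (V : X.Modules) (a : L ⟶ V) (b : V ⟶ N) (w : a ≫ b = 0) (hS : (ShortComplex.mk a b w).ShortExact),
      hS.extClass ≠ 0 ∧ ¬ FlatMod.IsFinLocFree V := by
  obtain ⟨V₁, f₁, g₁, w₁, hV₁, c₁⟩ := ExtOneLib.exists_extension e₁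
  by_cases hfree₁ : FlatMod.IsFinLocFree V₁
  swap
  · exact ⟨V₁, f₁, g₁, w₁, hV₁, by rw [c₁]; exact h₁, hfree₁⟩
  obtain ⟨W, fW, gW, wW, hW, cW⟩ :=
    ExtOneLib.exists_extension (e₁.comp (Ext.mk₀ (biprod.inl : L ⟶ L ⊞ L)) (add_zero 1) +
      e₂.comp (Ext.mk₀ (biprod.inr : L ⟶ L ⊞ L)) (add_zero 1))
  have hcls : ∀ p : L ⊞ L ⟶ L, hW.extClass.comp (Ext.mk₀ p) (add_zero 1) =
      e₁.comp (Ext.mk₀ (biprod.inl ≫ p)) (add_zero 1) + e₂.comp (Ext.mk₀ (biprod.inr ≫ p)) (add_zero 1) := fun p => by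
    rw [cW, Ext.add_comp, Ext.comp_assoc_of_third_deg_zero, Ext.comp_assoc_of_third_deg_zero, Ext.mk₀_comp_mk₀,
      Ext.mk₀_comp_mk₀]
  obtain ⟨m₁, hm₁f, hm₁g⟩ := ExtOneLib.exists_hom hW hV₁ biprod.fst (𝟙 N) (by
    rw [hcls, biprod.inl_fst, biprod.inr_fst, Ext.mk₀_zero, Ext.comp_zero, add_zero, Ext.comp_mk₀_id, c₁,
      Ext.mk₀_id_comp])
  dsimp only at m₁ hm₁f hm₁g
  rw [Category.comp_id] at hm₁g
  let R := X.presheaf.stalk x
  obtain ⟨hfr₁, -⟩ := free_finite_stalk_of_flf hfree₁ x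
  obtain ⟨s, hs⟩ := ParaFLib.exists_stalk_gen hL x
  have hex : ∀ {A B C : X.Modules} (f : A ⟶ B) (g : B ⟶ C) (w : f ≫ g = 0) (h : (ShortComplex.mk f g w).ShortExact),
      Function.Injective (stalkLin f x) ∧ Function.Exact (stalkLin f x) (stalkLin g x) ∧
        Function.Surjective (stalkLin g x) := fun f g w h =>
    ⟨(PullbackMod.mono_iff_stalk f).1 h.mono_f x, SyzLib.exact_stalkLin' _ h.exact x,
      (PullbackMod.epi_iff_stalk g).1 h.epi_g x⟩
  obtain ⟨hf₁, hfg₁, hg₁⟩ := hex f₁ g₁ w₁ hV₁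
  obtain ⟨-, hfgW, hgW⟩ := hex fW gW wW hW
  obtain ⟨q, hq⟩ := Module.projective_lifting_property (stalkLin gW x) (stalkLin g₁ x) hgW
  obtain ⟨l, hl⟩ := (hfgW (q (stalkLin f₁ x s))).1 (by
    rw [← LinearMap.comp_apply, hq]
    exact (hfg₁ _).2 ⟨s, rfl⟩)
  obtain ⟨α, hα⟩ := hs.2 (stalkLin (biprod.fst : L ⊞ L ⟶ L) x l)
  obtain ⟨β, hβ⟩ := hs.2 (stalkLin (biprod.snd : L ⊞ L ⟶ L) x l)
  dsimp only at hα hβ
  have hα1 : α - 1 ∈ maximalIdeal R := sub_one_mem_maximalIdeal hf₁ hfg₁ hg₁ hs hN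
    (e := (stalkLin m₁ x).comp q) (fun w => by
      rw [LinearMap.comp_apply, ← LinearMap.comp_apply, ← stalkLin_comp, hm₁g, ← LinearMap.comp_apply, hq])
    (by rw [LinearMap.comp_apply, ← hl, ← LinearMap.comp_apply, ← stalkLin_comp, hm₁f, stalkLin_comp,
      LinearMap.comp_apply, ← hα, map_smul])
  obtain ⟨c, hc⟩ := ShStabLib.residue_toGlobal_surjective k x hx (IsLocalRing.residue R β)
  let a : R := X.presheaf.germ ⊤ x trivial (Coh.toGlobal (X ↘ Spec (CommRingCat.of k)) c)
  have hβa : β - a * α ∈ maximalIdeal R := by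
    have h : β - a ∈ maximalIdeal R := (Ideal.Quotient.mk_eq_mk_iff_sub_mem _ _).1 hc.symm
    have : β - a * α = (β - a) - a * (α - 1) := by ring
    rw [this]
    exact sub_mem h (Ideal.mul_mem_left _ a hα1)
  obtain ⟨V₃, f₃, g₃, w₃, hV₃, c₃⟩ := ExtOneLib.exists_extension (e₂ - c • e₁)
  refine ⟨V₃, f₃, g₃, w₃, hV₃, by rw [c₃]; exact h₂ c, fun hfree₃ => ?_⟩
  obtain ⟨m₃, hm₃f, hm₃g⟩ := ExtOneLib.exists_hom hW hV₃
    (biprod.snd - biprod.fst ≫ (VBLib.cst k L c : L ⟶ L)) (𝟙 N) (by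
      rw [hcls, Preadditive.comp_sub, Preadditive.comp_sub, biprod.inl_snd, biprod.inr_snd, biprod.inl_fst_assoc,
        biprod.inr_fst_assoc, Limits.zero_comp, zero_sub, sub_zero, Ext.mk₀_neg, Ext.comp_neg, Ext.comp_mk₀_id, c₃,
        Ext.mk₀_id_comp, cst_eq_smul_id, ← Ext.smul_eq_comp_mk₀]
      abel)
  dsimp only at m₃ hm₃f hm₃g
  rw [Category.comp_id] at hm₃g
  obtain ⟨hfr₃, -⟩ := free_finite_stalk_of_flf hfree₃ x
  obtain ⟨-, hfg₃, -⟩ := hex f₃ g₃ w₃ hV₃
  refine not_mem_of_lifts hf₁ hfg₁ hg₁ hs hN (f' := stalkLin f₃ x) (g' := stalkLin g₃ x)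
    ((hfg₃ _).2 ⟨s, rfl⟩) ((stalkLin m₃ x).comp q) (fun w => ?_) (μ := β - a * α) ?_ hβa
  · rw [LinearMap.comp_apply, ← LinearMap.comp_apply, ← stalkLin_comp, hm₃g, ← LinearMap.comp_apply, hq]
  · rw [LinearMap.comp_apply, ← hl, ← LinearMap.comp_apply, ← stalkLin_comp, hm₃f, stalkLin_comp,
      LinearMap.comp_apply, LocNoethMod.stalkLin_sub, LinearMap.sub_apply, stalkLin_comp, LinearMap.comp_apply,
      VBLib.Dual.stalkLin_cst, ← hα, ← hβ, smul_smul, ← sub_smul, map_smul]

omit [IsAlgClosed k] in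
/-- Morphisms between invertible modules form an invertible module. -/
theorem isInvertible_homSh [IsLocallyNoetherian X] {L' L : X.Modules} (hL' : PicF.IsInvertible L') (hL : PicF.IsInvertible L) :
    PicF.IsInvertible (RefHull.homSh L' L) := by
  haveI := fun M : X.Modules => ModTensor.hasSheafHom (O := X.sheaf) M
  haveI := (CurveLib.isCoh_of_isInvertible hL').1
  haveI := DefExtLib.isIso_toHomSh L' L
  haveI := LocFreeHomLib.isIso_alpha L' (CurveLib.isFinLocFree_of_isInvertible hL') L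
  exact ParaFLib.isInvertible_of_iso (asIso (LocFreeHomLib.alpha L' L) ≪≫ asIso (DefExtLib.toHomSh L' L))
    (AmpleLib.isInvertible_tensor hL (VBLib.isInvertible_of_rank (rank_dd (CurveLib.isFinLocFreeOfRank_one hL'))))

/-- The extension theorem. -/
theorem exists_nonsplit_not_flf [IsIntegral X] [Smooth (X ↘ Spec (CommRingCat.of k))] [PicGrp.Law X]
    [HasExt.{u} X.Modules] (hdim : topologicalKrullDim X = 2) {G : X.Modules} (hG : CohB1.IsAmple G)
    (hK : ExtPow.IsExtPow 2 (Omega.sheaf (X ↘ Spec (CommRingCat.of k))) (Coh.structureModule X))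
    (hq : Module.finrank k (Coh.HH X (Coh.structureModule X) 1) = 0)
    (hgen : ∀ c : PicLoc.PicSet X, ∃ n : ℤ, c = PicGrp.cls G hG.1 ^ n)
    {L L' : X.Modules} (hL : PicF.IsInvertible L) (hL' : PicF.IsInvertible L') {N : X.Modules} (ι : N ⟶ L')
    [Mono ι] (hN : Coh.IsCoh N) (hZ : topologicalKrullDim (CohB1.support (cokernel ι)) ≤ 0)
    (h2 : 2 ≤ Module.finrank k (Ext N L 1)) :
    ∃ (V : X.Modules) (a : L ⟶ V) (b : V ⟶ N) (w : a ≫ b = 0),
      (ShortComplex.mk a b w).ShortExact ∧ (∀ r : V ⟶ L, a ≫ r ≠ 𝟙 L) ∧ ¬ FlatMod.IsFinLocFree V := by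
  haveI := EulerIneqLib.isNoetherian_proper (X := X) k
  haveI := hN.1
  have hL'c := CurveLib.isCoh_of_isInvertible hL'
  have hcl := DevLib.isClosed_support (QCohLib.isCoh_kernel_cokernel ι hN hL'c).2
  obtain ⟨x, hxN⟩ : ∃ x : X, ¬ Module.Projective (X.presheaf.stalk x) (N.presheaf.stalk x) := by
    by_contra hall
    push Not at hall
    have hflf : FlatMod.IsFinLocFree N := S1689.isFinLocFree_of_free hN fun x => by
      haveI := hall x
      haveI : Module.Finite (X.presheaf.stalk x) (N.presheaf.stalk x) := PullbackMod.finite_stalk_of_isFT hN.2 x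
      exact Module.free_of_flat_of_isLocalRing
    have hr : RefHull.IsReflexive N := (RefOne.isReflexive_iff hN).2 fun x => by
      obtain ⟨_, _⟩ := free_finite_stalk_of_flf hflf x
      exact inferInstanceAs (Module.IsReflexive (X.presheaf.stalk x) (N.presheaf.stalk x))
    obtain ⟨ψ, hψ⟩ := exists_extend_finite k hdim ι hN hL'c hZ hN hr (𝟙 N)
    obtain ⟨e⟩ := DefoCechLib.nonempty_ext_equiv_HH L' L (CurveLib.isFinLocFree_of_isInvertible hL') 1
    haveI := subsingleton_H1_invertible k hdim hG hK hq hgen (isInvertible_homSh hL' hL)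
    haveI : Subsingleton (Ext L' L 1) := e.subsingleton
    haveI : Subsingleton (Ext N L 1) := subsingleton_of_forall_eq 0 fun y => by
      rw [← Ext.mk₀_id_comp y, ← hψ, ← Ext.mk₀_comp_mk₀, Ext.comp_assoc_of_second_deg_zero,
        Subsingleton.elim ((Ext.mk₀ ψ).comp y (zero_add 1)) 0, Ext.comp_zero]
    rw [Module.finrank_zero_of_subsingleton] at h2
    omega
  have hxs : x ∈ CohB1.support (cokernel ι) := by
    by_contra h
    obtain ⟨_, _⟩ := free_finite_stalk_of_flf (CurveLib.isFinLocFree_of_isInvertible hL') x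
    exact hxN (Module.Projective.of_equiv (LinearEquiv.ofBijective (stalkLin ι x)
      ⟨(PullbackMod.mono_iff_stalk ι).1 inferInstance x, LazMuk.mem_support_coker_iff ι x h⟩).symm)
  have hx : IsClosed ({x} : Set X) := by
    rw [← CurveLib.closure_singleton_eq hcl hZ hxs]
    exact isClosed_closure
  obtain ⟨e₁, e₂, h₁, h₂'⟩ := exists_pair k h2
  obtain ⟨V, a, b, w, hS, hne, hfree⟩ := exists_not_flf_of_point k hL hx hxN e₁ e₂ h₁ h₂'
  exact ⟨V, a, b, w, hS, fun r => nonsplit_of_ne_zero hS hne r, hfree⟩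

end Groth.Agent.ExtStab
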