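import Groth.Agent.RefOne.Normal
import Groth.Agent.NormalRefLib.Basic
import Groth.Agent.LazMukLib.Basic
import Groth.Agent.ASBunKS.Abstract
import Groth.Agent.CurveP1Lib.H0One
import Groth.Agent.GeomIrred.Scheme
import Groth.Agent.VBLib.Cst
import Groth.Agent.ExtStabLib.NonFree
import Groth.Prelude.Def_KLin

/-!
# Endomorphisms of a nonzero ideal on a regular scheme
-/

set_option autoImplicit false
set_option backward.isDefEq.respectTransparency false
set_option linter.style.haveILetI false
set_option maxHeartbeats 1000000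
set_option synthInstance.maxHeartbeats 200000

universe u

open CategoryTheory CategoryTheory.Limits AlgebraicGeometry
open Groth.Agent.PullbackMod Groth.Agent.DCohLib

noncomputable section

namespace Groth.Agent.ExtStab

variable {X : Scheme.{u}} [IsIntegral X] [IsLocallyNoetherian X]

/-- An endomorphism of a submodule of the structure sheaf of a normal scheme extends to the structure sheaf. -/
theorem exists_extend_end (hX : Pi1.IsNormalScheme X) {I : X.Modules}
    (hI : Coh.IsQCoh I) (i : I ⟶ Coh.structureModule X) [Mono i] (hi : i ≠ 0) (φ : I ⟶ I) :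
    ∃ ψ : Coh.structureModule X ⟶ Coh.structureModule X, i ≫ ψ = φ ≫ i := by
  let η := genericPoint X
  letI : Field (X.presheaf.stalk η) := RefOne.isField_gen.toField
  have hOi : PicF.IsInvertible (Coh.structureModule X) := ParaFLib.isInvertible_structureModule
  have hO := DevLib.isCoh_structureModule X
  haveI := hO.1
  have hOr : RefHull.IsReflexive (Coh.structureModule X) := ASBunKS.isReflexive_invertible hOi
  have hOtf := TFCurvSSLib.isTorsionFree_flf (CurveLib.isFinLocFreeOfRank_one hOi)
  have hinj := fun x => (PullbackMod.mono_iff_stalk i).1 inferInstance x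
  obtain ⟨s, hs⟩ := ParaFLib.exists_stalk_gen hOi η
  have hspan : ∀ w, w ≠ 0 → ∀ v : (Coh.structureModule X).presheaf.stalk η, ∃ r : X.presheaf.stalk η, v = r • w := by
    intro w hw v
    obtain ⟨a, rfl⟩ := hs.2 w
    obtain ⟨b, rfl⟩ := hs.2 v
    refine ⟨b / a, ?_⟩
    show b • s = (b / a) • (a • s)
    rw [smul_smul, div_mul_cancel₀]
    rintro rfl
    exact hw (zero_smul _ s)
  obtain ⟨z₀, hz₀⟩ : ∃ z, stalkLin i η z ≠ 0 := by
    by_contra h
    push Not at h
    exact hi (LazMuk.hom_eq_zero_of_generic hOtf i (LinearMap.ext h))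
  have hbij : Function.Bijective (stalkLin i η) := ⟨hinj η, fun v => by
    obtain ⟨r, rfl⟩ := hspan _ hz₀ v
    exact ⟨r • z₀, map_smul _ _ _⟩⟩
  let e := LinearEquiv.ofBijective (stalkLin i η) hbij
  let T := (stalkLin i η ∘ₗ stalkLin φ η) ∘ₗ e.symm.toLinearMap
  have hTi : ∀ z, T (stalkLin i η z) = stalkLin i η (stalkLin φ η z) := fun z => by
    show stalkLin i η (stalkLin φ η (e.symm (e z))) = _
    rw [LinearEquiv.symm_apply_apply]
  obtain ⟨ψ, hψ⟩ := RefOne.exists_hom hX hO hOr T fun y hy m => by
    let R := X.presheaf.stalk y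
    haveI : IsDiscreteValuationRing R := RefOne.isDVR hX hy
    let f : I.presheaf.stalk y →ₗ[R] R := (RefOne.oEquiv y).symm.toLinearMap.comp (stalkLin i y)
    obtain ⟨j, hj⟩ := (IsPrincipalIdealRing.principal (LinearMap.range f : Ideal R)).principal
    obtain ⟨g, hg⟩ : j ∈ LinearMap.range f := hj ▸ Submodule.mem_span_singleton_self j
    obtain ⟨a, ha⟩ : ∃ a, a • j = f (stalkLin φ y g) := Submodule.mem_span_singleton.1 (hj.le ⟨stalkLin φ y g, rfl⟩)
    have hfi : Function.Injective f := (RefOne.oEquiv y).symm.injective.comp (hinj y)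
    have hag : stalkLin φ y g = a • g := hfi (by rw [map_smul, hg, ha])
    have hw : RefOne.toGen (Coh.structureModule X) y (stalkLin i y g) ≠ 0 := by
      intro h0
      have hg0 : g = 0 := hinj y (((RefOne.toGen_injective ((RefOne.isReflexive_iff hO).1 hOr y))
        (h0.trans (map_zero _).symm)).trans (map_zero _).symm)
      haveI : Coh.IsQCoh I := hI
      obtain ⟨c, n, hc, hcn⟩ := RefOne.exists_smul_mem_range (F := I) y z₀
      have hall : n = 0 := hfi (by
        obtain ⟨b, hb⟩ := Submodule.mem_span_singleton.1 (hj.le (show f n ∈ LinearMap.range f from ⟨n, rfl⟩))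
        rw [← hb, ← hg, hg0, map_zero, smul_zero])
      rw [hall] at hcn
      have hc' : RefOne.toK y c ≠ 0 := fun h => hc (RefOne.toK_injective y (h.trans (map_zero _).symm))
      exact hz₀ (by rw [(smul_eq_zero.1 (hcn.trans (map_zero _))).resolve_left hc', map_zero])
    refine ⟨a • m, ?_⟩
    obtain ⟨r, hr⟩ := hspan _ hw (RefOne.toGen (Coh.structureModule X) y m)
    rw [RefOne.toGen_smul, hr, map_smul, ← RefOne.stalkLin_toGen, hTi, RefOne.stalkLin_toGen, RefOne.stalkLin_toGen,
      hag, RefOne.toGen_smul, map_smul, RefOne.stalkLin_toGen, smul_comm]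
  refine ⟨ψ, sub_eq_zero.1 (LazMuk.hom_eq_zero_of_generic hOtf _ (LinearMap.ext fun z => ?_))⟩
  have h := hψ η (stalkLin i η z)
  have hid : ∀ (F : X.Modules) (v : F.presheaf.stalk η), RefOne.toGen F η v = v := fun F v => by
    obtain ⟨U, hU, sec, rfl⟩ := TopCat.Presheaf.exists_germ_eq F.presheaf v
    exact RefOne.toGen_germ F η hU sec
  rw [hid, hid, hTi] at h
  rw [LocNoethMod.stalkLin_sub, LinearMap.sub_apply, stalkLin_comp, stalkLin_comp, LinearMap.comp_apply,
    LinearMap.comp_apply, h, sub_self, LinearMap.zero_apply]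

variable (k : Type u) [Field k] [X.Over (Spec (CommRingCat.of k))] [IsProper (X ↘ Spec (CommRingCat.of k))]
  [Smooth (X ↘ Spec (CommRingCat.of k))] [GeometricallyIrreducible (X ↘ Spec (CommRingCat.of k))]

/-- A nonzero submodule of the structure sheaf has only scalar endomorphisms. -/
theorem end_eq_smul_id {I : X.Modules} (hI : Coh.IsQCoh I) (i : I ⟶ Coh.structureModule X) [Mono i] (hi : i ≠ 0)
    (φ : I ⟶ I) : ∃ c : k, φ = c • 𝟙 I := by
  obtain ⟨ψ, hψ⟩ := exists_extend_end (NormalRefLib.normal_of_regular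
    fun x => ASp.isRegularLocalRing_stalk_of_smooth_field (X ↘ Spec (CommRingCat.of k)) x) hI i hi φ
  obtain ⟨g, rfl⟩ := ASBunKS.exists_eq_mulEnd_structure ψ
  haveI := GeomIrred.geometricallyConnected_of_geometricallyIrreducible (X ↘ Spec (CommRingCat.of k))
  obtain ⟨c, rfl⟩ := (CurveP1Lib.bijective_toGlobal_of_smooth (k := k) (X := X)).2 g
  refine ⟨c, (cancel_mono i).1 ?_⟩
  rw [← cst_eq_smul_id, ← hψ]
  exact (VBLib.cst_natural k i c).symm

end Groth.Agent.ExtStab
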