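import Groth.Agent.ExtStabLib.IdealSheaf
import Groth.Agent.DevLib.Closed
import Groth.Agent.AmpleLib.Pullback

/-!
# Maps from ideals into the ideal of a finite subscheme
-/

set_option autoImplicit false
set_option backward.isDefEq.respectTransparency false
set_option linter.style.haveILetI false
set_option maxHeartbeats 1000000
set_option synthInstance.maxHeartbeats 200000

universe u

open CategoryTheory CategoryTheory.Limits AlgebraicGeometry Polynomial
open Groth.Agent.PullbackMod Groth.Agent.DCohLib StabCat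

noncomputable section

namespace Groth.Agent.ExtStab

/-- The degree of a finite scheme over a field is the dimension of its functions. -/
theorem finrank_eq_h0 {k : Type u} [Field k] {Z : Scheme.{u}} [Z.Over (Spec (CommRingCat.of k))]
    [IsFinite (Z ↘ Spec (CommRingCat.of k))] [Flat (Z ↘ Spec (CommRingCat.of k))] (y : Spec (CommRingCat.of k)) :
    (Z ↘ Spec (CommRingCat.of k)).finrank y = Module.finrank k (Coh.HH Z (Coh.structureModule Z) 0) := by
  let f := Z ↘ Spec (CommRingCat.of k)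
  haveI : IsAffine Z := isAffine_of_isAffineHom f
  let φ : k →+* Γ(Z, ⊤) := Coh.toGlobal f
  letI : Algebra k Γ(Z, ⊤) := φ.toAlgebra
  let e : Coh.HH Z (Coh.structureModule Z) 0 ≃ₗ[k] Γ(Z, ⊤) :=
    { (CurveLib.secOf (Coh.structureModule Z)) with map_smul' := fun r c => CurveLib.secOf_smul (k := k) _ r c }
  have hf : f = Z.isoSpec.hom ≫ Spec.map (CommRingCat.ofHom φ) :=
    (Groth.Agent.ProjUPLib.eq_toSpecΓ_toGlobal f).trans rfl
  have hi : Spec.map (CommRingCat.ofHom φ) = Z.isoSpec.inv ≫ f := (Iso.eq_inv_comp _).2 hf.symm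
  haveI hSfin : IsFinite (Spec.map (CommRingCat.ofHom φ)) := by rw [hi]; infer_instance
  haveI : Module.Finite k Γ(Z, ⊤) := (IsFinite.SpecMap_iff _).1 hSfin
  haveI : Flat (Spec.map (CommRingCat.ofHom φ)) := by rw [hi]; infer_instance
  rw [e.finrank_eq]
  show f.finrank y = _
  rw [hf, Scheme.Hom.finrank_comp_left_of_isIso]
  exact (Scheme.Hom.finrank_SpecMap_algebraMap k Γ(Z, ⊤) y).trans (congrFun (Module.rankAtStalk_eq_finrank_of_free) y)

variable (k : Type u) [Field k] {X : Scheme.{u}} [X.Over (Spec (CommRingCat.of k))]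
  [IsProper (X ↘ Spec (CommRingCat.of k))]

/-- A finite subscheme has constant Hilbert polynomial. -/
theorem hp_quotMod_of_deg {L : X.Modules} (hL : CohB1.IsAmple L) (J : X.IdealSheafData) {ℓ : ℕ}
    (hJ : Mor2.IsFinLocFreeOfDeg ℓ (J.subschemeι ≫ (X ↘ Spec (CommRingCat.of k)))) :
    ShStabLib.HP k L (ClSub.quotMod J) (C (ℓ : ℚ)) := by
  haveI := EulerIneqLib.isNoetherian_proper (X := X) k
  let Z := J.subscheme
  letI : Z.Over (Spec (CommRingCat.of k)) := ⟨J.subschemeι ≫ (X ↘ Spec (CommRingCat.of k))⟩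
  haveI : IsFinite (Z ↘ Spec (CommRingCat.of k)) := hJ.1.1
  haveI : Flat (Z ↘ Spec (CommRingCat.of k)) := hJ.1.2.1
  haveI : IsProper (Z ↘ Spec (CommRingCat.of k)) := inferInstance
  haveI := EulerIneqLib.isNoetherian_proper (X := Z) k
  have hQc := IntLib.isCoh_quotMod J
  have hZd : topologicalKrullDim Z ≤ 0 := @dim_le_zero_of_isFinite k _ Z (J.subschemeι ≫ (X ↘ Spec (CommRingCat.of k))) hJ.1.1
  have h0 : topologicalKrullDim (CohB1.support (ClSub.quotMod J)) ≤ 0 := by
    refine (Topology.IsEmbedding.inclusion (IntLib.support_quotMod_subset J)).isInducing.topologicalKrullDim_le.trans ?_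
    rw [← Scheme.IdealSheafData.range_subschemeι, ← J.subschemeι.isEmbedding.toHomeomorph.isHomeomorph.topologicalKrullDim_eq]
    exact hZd
  obtain ⟨P, hPd, hP⟩ := ShStabLib.exists_hp k hL hQc (d := 0)
    (lt_of_le_of_lt h0 (by exact_mod_cast Nat.zero_lt_one))
  obtain ⟨c, rfl⟩ : ∃ c, P = C c := ⟨P.coeff 0, eq_C_of_degree_le_zero (by
    rcases eq_or_ne P 0 with rfl | h
    · simp
    · rw [degree_eq_natDegree h] at hPd ⊢
      have : P.natDegree < 0 + 1 := by exact_mod_cast hPd
      exact_mod_cast (show P.natDegree ≤ 0 by omega))⟩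
  have hq := euler_of_hilb k hP
  rw [eval_C] at hq
  obtain ⟨w⟩ := TwistShriek.nonempty_quotMod_ker_iso J.subschemeι
  rw [Scheme.IdealSheafData.ker_subschemeι] at w
  haveI : Coh.IsQCoh (Coh.structureModule Z) := (DevLib.isCoh_structureModule Z).1
  rw [CurveLib.euler_iso (K := k) w, IntLib.euler_push k J.subschemeι rfl,
    CurveLib.euler_eq_sum (K := k) _ 1 fun p hp => CurveLib.subsingleton_HH_of_dim (d := 0) _ (by exact_mod_cast hZd) hp]
    at hq
  have hℓ : Module.finrank k (Coh.HH J.subscheme (Coh.structureModule J.subscheme) 0) = ℓ := by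
    rw [← finrank_eq_h0 (IsLocalRing.closedPoint k)]
    exact hJ.2 _
  simp only [Finset.sum_range_one, pow_zero, one_mul] at hq
  rw [hℓ] at hq
  rw [show (ℓ : ℚ) = c by exact_mod_cast hq]
  exact hP

/-- Hilbert polynomials along a closed immersion. -/
theorem hp_push_iff {L : X.Modules} (hL : PicF.IsInvertible L) {Y : Scheme.{u}} [Y.Over (Spec (CommRingCat.of k))]
    {i : Y ⟶ X} [IsClosedImmersion i]
    (hi : i ≫ (X ↘ Spec (CommRingCat.of k)) = Y ↘ Spec (CommRingCat.of k))
    {M : Y.Modules} (hM : Coh.IsCoh M) {P : ℚ[X]} :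
    ShStab.IsHilbPoly k X L ((Scheme.Modules.pushforward i).obj M) P ↔
      ShStab.IsHilbPoly k Y ((Scheme.Modules.pullback i).obj L) M P := by
  haveI := EulerIneqLib.isNoetherian_proper (X := X) k
  haveI : IsProper (Y ↘ Spec (CommRingCat.of k)) := hi ▸ inferInstance
  have e : ∀ m, Curv2.euler k X (ShStab.twist X L ((Scheme.Modules.pushforward i).obj M) m) =
      Curv2.euler k Y (ShStab.twist Y ((Scheme.Modules.pullback i).obj L) M m) := fun m =>
    (IntLib.euler_push_tensor k hi hM (AmpleLib.isInvertible_tensorPow hL m)).trans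
      (CurveLib.euler_iso (K := k) (AmpleLib.tIso (Iso.refl M) (AmpleLib.pullPow i L m)))
  exact ⟨fun h m => by rw [← e]; exact h m, fun h m => by rw [e]; exact h m⟩

variable [IsIntegral X] [Smooth (X ↘ Spec (CommRingCat.of k))]

include k in
/-- An ideal isomorphic to the image of a nonzero map. -/
theorem exists_ideal_image {W : X.IdealSheafData} (f : ClSub.idealMod W ⟶ Coh.structureModule X) (hf : f ≠ 0) :
    ∃ (W' : X.IdealSheafData) (e : ClSub.idealMod W' ≅ ClSub.idealMod W), e.hom ≫ f = ClSub.idealModι W' := by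
  haveI := EulerIneqLib.isNoetherian_proper (X := X) k
  let η := genericPoint X
  letI : Field (X.presheaf.stalk η) := RefOne.isField_gen.toField
  have hIc := RefOne.isCoh_idealMod W
  haveI := hIc.1
  haveI : Mono (ClSub.idealModι W) := inferInstanceAs (Mono (kernel.ι _))
  have hOtf := TFCurvSSLib.isTorsionFree_flf
    (CurveLib.isFinLocFreeOfRank_one (ParaFLib.isInvertible_structureModule (X := X)))
  have hItf := TFCurvSSLib.torsionFree_of_mono (ClSub.idealModι W) hOtf
  obtain ⟨z₀, hz₀⟩ : ∃ z, stalkLin f η z ≠ 0 := by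
    by_contra h
    push Not at h
    exact hf (LazMuk.hom_eq_zero_of_generic hOtf f (LinearMap.ext h))
  obtain ⟨s, hs⟩ := ParaFLib.exists_stalk_gen (ParaFLib.isInvertible_structureModule (X := X)) η
  haveI : Mono f := by
    refine LazMuk.mono_of_generic hItf f ((injective_iff_map_eq_zero _).2 fun z hz => ?_)
    obtain ⟨a, ha⟩ := hs.2 (stalkLin (ClSub.idealModι W) η z₀)
    obtain ⟨b, hb⟩ := hs.2 (stalkLin (ClSub.idealModι W) η z)
    dsimp only at ha hb
    have ha0 : a ≠ 0 := fun h0 => hz₀ (by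
      rw [h0, zero_smul] at ha
      rw [(PullbackMod.mono_iff_stalk (ClSub.idealModι W)).1 inferInstance η (ha.symm.trans (map_zero _).symm), map_zero])
    have hzz : z = (b / a) • z₀ := (PullbackMod.mono_iff_stalk (ClSub.idealModι W)).1 inferInstance η (by
      rw [map_smul, ← ha, ← hb, smul_smul, div_mul_cancel₀ b ha0])
    rw [hzz, map_smul] at hz
    rw [hzz, (smul_eq_zero.1 hz).resolve_right hz₀, zero_smul]
  have hs' : ∀ V : X.Opens, Function.Injective (f.app V) := CohCmpLib.injective_app_of_mono f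
  obtain ⟨w, h⟩ := HypSurfLib.exists_shortExact f hs' (HypSurfLib.imageIdeal f) fun _ => rfl
  haveI : Epi (ShortComplex.mk f (ClSub.toSubscheme (HypSurfLib.imageIdeal f)) w).g := h.epi_g
  refine ⟨HypSurfLib.imageIdeal f, (IsLimit.conePointUniqueUpToIso h.fIsKernel (limit.isLimit _)).symm, ?_⟩
  exact IsLimit.conePointUniqueUpToIso_inv_comp h.fIsKernel (limit.isLimit _) WalkingParallelPair.zero

/-- One of two ideals inside the ideal of a finite subscheme is contained in the other. -/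
theorem exists_factor_of_dag {L : X.Modules} (hL : CohB1.IsAmple L) {n : ℕ} (hn : topologicalKrullDim X ≤ n)
    {ℓ : ℕ} (Z : X.IdealSheafData) (hZ : ShStabLib.HP k L (ClSub.quotMod Z) (C (ℓ : ℚ)))
    (W₁ W₂ : X.IdealSheafData) [IsIntegral W₂.subscheme]
    (dag : ∀ (G : W₂.subscheme.Modules), Coh.IsCoh G → TorSh.IsTorsionFree G →
      Module.finrank (W₂.subscheme.presheaf.stalk (genericPoint W₂.subscheme))
        (G.presheaf.stalk (genericPoint W₂.subscheme)) = 1 →
      (letI : W₂.subscheme.Over (Spec (CommRingCat.of k)) := ⟨W₂.subschemeι ≫ (X ↘ Spec (CommRingCat.of k))⟩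
       ∃ P : Polynomial ℚ,
        ShStab.IsHilbPoly k W₂.subscheme ((Scheme.Modules.pullback W₂.subschemeι).obj L)
          (Coh.structureModule W₂.subscheme) P ∧
        ShStab.IsHilbPoly k W₂.subscheme ((Scheme.Modules.pullback W₂.subschemeι).obj L) G
          (P - Polynomial.C (ℓ : ℚ))) →
      ∀ φ : ClSub.idealMod W₁ ⟶ (Coh.push W₂.subschemeι).obj G, φ = 0)
    (l₁ : ClSub.idealMod W₁ ⟶ ClSub.idealMod Z) (l₂ : ClSub.idealMod W₂ ⟶ ClSub.idealMod Z)
    (h₂ : l₂ ≫ ClSub.idealModι Z = ClSub.idealModι W₂) :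
    ∃ e : ClSub.idealMod W₁ ⟶ ClSub.idealMod W₂, e ≫ l₂ = l₁ := by
  haveI := EulerIneqLib.isNoetherian_proper (X := X) k
  let Y := W₂.subscheme
  letI : Y.Over (Spec (CommRingCat.of k)) := ⟨W₂.subschemeι ≫ (X ↘ Spec (CommRingCat.of k))⟩
  haveI : IsProper (Y ↘ Spec (CommRingCat.of k)) :=
    inferInstanceAs (IsProper (W₂.subschemeι ≫ (X ↘ Spec (CommRingCat.of k))))
  haveI := EulerIneqLib.isNoetherian_proper (X := Y) k
  let O := Coh.structureModule X
  have hO := DevLib.isCoh_structureModule X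
  haveI : Mono (ClSub.idealModι W₂) := inferInstanceAs (Mono (kernel.ι _))
  haveI : Mono (ClSub.idealModι Z) := inferInstanceAs (Mono (kernel.ι _))
  haveI : Mono l₂ := mono_of_mono_fac h₂
  have hZc := RefOne.isCoh_idealMod Z
  have hWc := RefOne.isCoh_idealMod W₂
  have hHc := (QCohLib.isCoh_kernel_cokernel l₂ hWc hZc).2
  let S : ShortComplex X.Modules := ShortComplex.mk l₂ (cokernel.π l₂) (cokernel.condition _)
  have hS : S.Exact := ShortComplex.exact_of_g_is_cokernel _ (cokernelIsCokernel l₂)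
  suffices h0 : l₁ ≫ cokernel.π l₂ = 0 by
    haveI : Mono S.f := inferInstanceAs (Mono l₂)
    exact ⟨hS.lift l₁ h0, hS.lift_f l₁ h0⟩
  -- the quotient inside the functions on the subscheme
  let j : cokernel l₂ ⟶ ClSub.quotMod W₂ := cokernel.desc l₂ (ClSub.idealModι Z ≫ ClSub.toSubscheme W₂) (by
    rw [← Category.assoc, h₂]; exact kernel.condition _)
  haveI : Mono j := (PullbackMod.mono_iff_stalk j).2 fun x => (injective_iff_map_eq_zero _).2 fun t ht => by
    obtain ⟨z, rfl⟩ := (PullbackMod.epi_iff_stalk (cokernel.π l₂)).1 inferInstance x t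
    rw [← LinearMap.comp_apply, ← stalkLin_comp, cokernel.π_desc, stalkLin_comp, LinearMap.comp_apply] at ht
    obtain ⟨w, hw⟩ := (SyzLib.exact_stalkLin'
      (ShortComplex.mk (ClSub.idealModι W₂) (ClSub.toSubscheme W₂) (kernel.condition _))
      (ShortComplex.exact_of_f_is_kernel _ (kernelIsKernel _)) x _).1 ht
    have hwz : stalkLin l₂ x w = z := (PullbackMod.mono_iff_stalk (ClSub.idealModι Z)).1 inferInstance x (by
      rw [← LinearMap.comp_apply, ← stalkLin_comp, h₂]; exact hw)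
    rw [← hwz, ← LinearMap.comp_apply, ← stalkLin_comp, cokernel.condition, TFOneLib.stalkLin_zero,
      LinearMap.zero_apply]
  obtain ⟨G, ι, hι, hGq, ⟨eG⟩⟩ := DevLib.exists_ideal_of_mono W₂.subschemeι
    (j : cokernel l₂ ⟶ (Scheme.Modules.pushforward W₂.subschemeι).obj (Coh.structureModule Y)) hHc.1
  haveI := hι
  have hGc : Coh.IsCoh G := QCohLib.isCoh_of_mono ι (DevLib.isCoh_structureModule Y) hGq
  by_cases hι0 : ι = 0
  · have : IsZero G := (IsZero.iff_id_eq_zero _).2
      (zero_of_comp_mono ι (by rw [Category.id_comp, hι0]))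
    have hz : IsZero (cokernel l₂) := ((Coh.push W₂.subschemeι).map_isZero this).of_iso eG.symm
    exact hz.eq_of_tgt _ _
  let η := genericPoint Y
  letI : Field (Y.presheaf.stalk η) := RefOne.isField_gen.toField
  haveI := hGc.1
  have hYtf := TFCurvSSLib.isTorsionFree_flf
    (CurveLib.isFinLocFreeOfRank_one (ParaFLib.isInvertible_structureModule (X := Y)))
  have hGt := TFCurvSSLib.torsionFree_of_mono ι hYtf
  have hGr : Module.finrank (Y.presheaf.stalk η) (G.presheaf.stalk η) = 1 := by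
    obtain ⟨s, hs⟩ := ParaFLib.exists_stalk_gen (ParaFLib.isInvertible_structureModule (X := Y)) η
    obtain ⟨g, hg⟩ : ∃ g, stalkLin ι η g ≠ 0 := by
      by_contra h
      push Not at h
      exact hι0 (LazMuk.hom_eq_zero_of_generic hYtf ι (LinearMap.ext h))
    refine finrank_eq_one g (fun h => hg (by rw [h, map_zero])) fun v => ?_
    obtain ⟨a, ha⟩ := hs.2 (stalkLin ι η g)
    obtain ⟨b, hb⟩ := hs.2 (stalkLin ι η v)
    dsimp only at ha hb
    have ha0 : a ≠ 0 := fun h0 => hg (by rw [← ha, h0, zero_smul])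
    exact ⟨b / a, (PullbackMod.mono_iff_stalk ι).1 inferInstance η (by
      rw [map_smul, ← ha, ← hb, smul_smul, div_mul_cancel₀ b ha0])⟩
  have hd : ∀ M : X.Modules, ShStabLib.DimLE n M := fun M =>
    lt_of_le_of_lt (Topology.IsInducing.subtypeVal.topologicalKrullDim_le.trans hn)
      (by exact_mod_cast Nat.lt_succ_self n)
  obtain ⟨PO, -, hPO⟩ := ShStabLib.exists_hp k hL hO (hd O)
  obtain ⟨PZ, -, hPZ⟩ := ShStabLib.exists_hp k hL hZc (hd _)
  obtain ⟨PW, -, hPW⟩ := ShStabLib.exists_hp k hL hWc (hd _)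
  obtain ⟨PH, hPH, hsH, -, -⟩ := ShStabLib.exists_hp_coker k hL l₂ hWc hZc (hd _) hPW hPZ
  have seq : ∀ J : X.IdealSheafData, ∀ {P Q : ℚ[X]}, ShStabLib.HP k L (ClSub.idealMod J) P →
      ShStabLib.HP k L (ClSub.quotMod J) Q → PO = P + Q := fun J P Q hP hQ => by
    haveI := Groth.Agent.SerreAff.epi_unitToPush J.subschemeι
    haveI : Mono (ClSub.idealModι J) := inferInstanceAs (Mono (kernel.ι _))
    exact ShStabLib.hp_add k hL (ShortComplex.ShortExact.mk'
      (ShortComplex.exact_of_f_is_kernel (ShortComplex.mk (ClSub.idealModι J) (ClSub.toSubscheme J) (kernel.condition _))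
        (kernelIsKernel _)) inferInstance (inferInstanceAs (Epi (ClSub.toSubscheme J))))
      (RefOne.isCoh_idealMod J) hO (IntLib.isCoh_quotMod J) hP hPO hQ
  obtain ⟨PY, -, hPY⟩ := ShStabLib.exists_hp k hL (IntLib.isCoh_quotMod W₂) (hd _)
  have hPH' : PH = PY - C (ℓ : ℚ) := by
    linear_combination seq W₂ hPW hPY - seq Z hPZ hZ - hsH
  obtain ⟨w⟩ := TwistShriek.nonempty_quotMod_ker_iso W₂.subschemeι
  rw [Scheme.IdealSheafData.ker_subschemeι] at w
  have key := dag G hGc hGt hGr ⟨PY, (hp_push_iff k hL.1 rfl (DevLib.isCoh_structureModule Y)).1 (ShStabLib.hp_iso k w hPY),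
    (hp_push_iff k hL.1 rfl hGc).1 (ShStabLib.hp_iso k eG.symm (hPH' ▸ hPH))⟩ (l₁ ≫ cokernel.π l₂ ≫ eG.inv)
  rw [← cancel_mono eG.inv, Category.assoc, key, Limits.zero_comp]

/-- Two maps from an ideal of the family into the ideal of points are proportional. -/
theorem finrank_hom_le_one [GeometricallyIrreducible (X ↘ Spec (CommRingCat.of k))] {L : X.Modules}
    (hL : CohB1.IsAmple L) {n : ℕ} (hn : topologicalKrullDim X ≤ n) {ℓ : ℕ} (Z : X.IdealSheafData)
    (hZ : ShStabLib.HP k L (ClSub.quotMod Z) (C (ℓ : ℚ))) (A : Set X.IdealSheafData)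
    (hA : ∀ W ∈ A, IsIntegral W.subscheme)
    (hAiso : ∀ W ∈ A, ∀ W' : X.IdealSheafData, Nonempty (ClSub.idealMod W' ≅ ClSub.idealMod W) → W' ∈ A)
    (dag : ∀ W ∈ A, ∀ Y ∈ A, ∀ (hY : IsIntegral Y.subscheme) (G : Y.subscheme.Modules),
      Coh.IsCoh G → TorSh.IsTorsionFree G →
      (haveI := hY
       Module.finrank (Y.subscheme.presheaf.stalk (genericPoint Y.subscheme))
        (G.presheaf.stalk (genericPoint Y.subscheme)) = 1) →
      (letI : Y.subscheme.Over (Spec (CommRingCat.of k)) := ⟨Y.subschemeι ≫ (X ↘ Spec (CommRingCat.of k))⟩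
       ∃ P : Polynomial ℚ,
        ShStab.IsHilbPoly k Y.subscheme ((Scheme.Modules.pullback Y.subschemeι).obj L)
          (Coh.structureModule Y.subscheme) P ∧
        ShStab.IsHilbPoly k Y.subscheme ((Scheme.Modules.pullback Y.subschemeι).obj L) G
          (P - Polynomial.C (ℓ : ℚ))) →
      ∀ φ : ClSub.idealMod W ⟶ (Coh.push Y.subschemeι).obj G, φ = 0)
    {W : X.IdealSheafData} (hW : W ∈ A) :
    Module.Finite k (ClSub.idealMod W ⟶ ClSub.idealMod Z) ∧
      Module.finrank k (ClSub.idealMod W ⟶ ClSub.idealMod Z) ≤ 1 := by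
  haveI := EulerIneqLib.isNoetherian_proper (X := X) k
  haveI : Mono (ClSub.idealModι Z) := inferInstanceAs (Mono (kernel.ι _))
  haveI : Mono (ClSub.idealModι W) := inferInstanceAs (Mono (kernel.ι _))
  by_cases hall : ∀ φ : ClSub.idealMod W ⟶ ClSub.idealMod Z, φ = 0
  · haveI : Subsingleton (ClSub.idealMod W ⟶ ClSub.idealMod Z) := ⟨fun a b => (hall a).trans (hall b).symm⟩
    exact ⟨Module.Finite.of_finite, by rw [Module.finrank_zero_of_subsingleton]; omega⟩
  push Not at hall
  obtain ⟨φ, hφ⟩ := hall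
  have hφι : ∀ χ : ClSub.idealMod W ⟶ ClSub.idealMod Z, χ ≠ 0 → χ ≫ ClSub.idealModι Z ≠ 0 := fun χ hχ h =>
    hχ ((cancel_mono (ClSub.idealModι Z)).1 (by rw [h, Limits.zero_comp]))
  have hI0 : ClSub.idealModι W ≠ 0 := fun h => hφ (by
    have : IsZero (ClSub.idealMod W) := (IsZero.iff_id_eq_zero _).2
      (zero_of_comp_mono (ClSub.idealModι W) (by rw [Category.id_comp, h]))
    exact this.eq_of_src _ _)
  have key : ∀ ψ : ClSub.idealMod W ⟶ ClSub.idealMod Z, ∃ c : k, c • φ = ψ := by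
    intro ψ
    rcases eq_or_ne ψ 0 with rfl | hψ
    · exact ⟨0, zero_smul _ _⟩
    obtain ⟨W₂, e₂, he₂⟩ := exists_ideal_image k _ (hφι φ hφ)
    obtain ⟨W₁, e₁, he₁⟩ := exists_ideal_image k _ (hφι ψ hψ)
    have m₂ := hAiso W hW W₂ ⟨e₂⟩
    have m₁ := hAiso W hW W₁ ⟨e₁⟩
    haveI := hA W₂ m₂
    obtain ⟨g, hg⟩ := exists_factor_of_dag k hL hn Z hZ W₁ W₂ (dag W₁ m₁ W₂ m₂ inferInstance)
      (e₁.hom ≫ ψ) (e₂.hom ≫ φ) (by rw [Category.assoc, he₂])
    obtain ⟨c, hc⟩ := end_eq_smul_id k (RefOne.isCoh_idealMod W).1 (ClSub.idealModι W) hI0 (e₁.inv ≫ g ≫ e₂.hom)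
    refine ⟨c, ?_⟩
    have hψg : ψ = (e₁.inv ≫ g ≫ e₂.hom) ≫ φ := by
      rw [Category.assoc, Category.assoc, hg, Iso.inv_hom_id_assoc]
    rw [hψg, hc, Linear.smul_comp, Category.id_comp]
  exact ⟨Module.Finite.of_surjective (LinearMap.toSpanSingleton k _ φ) key, finrank_le_one φ key⟩

end Groth.Agent.ExtStab

namespace Groth.Agent.ExtStab

/-- The dimension of an integral proper scheme over a field is finite. -/
theorem exists_nat_dim_le {k : Type u} [Field k] {Y : Scheme.{u}} [IsIntegral Y] (p : Y ⟶ Spec (CommRingCat.of k))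
    [IsProper p] : ∃ n : ℕ, topologicalKrullDim Y ≤ (n : WithBot ℕ∞) := by
  haveI : IsLocallyNoetherian Y := LocallyOfFiniteType.isLocallyNoetherian p
  haveI : CompactSpace Y := QuasiCompact.compactSpace_of_compactSpace p
  obtain ⟨x, -, hxc⟩ := isClosed_univ.exists_closed_singleton (S := (Set.univ : Set Y)) Set.univ_nonempty
  have h := BoundaryConn.ringKrullDim_stalk_closed p x hxc
  rw [← h]
  generalize hd : ringKrullDim (Y.presheaf.stalk x) = d
  induction d using WithBot.recBotCoe with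
  | bot => exact ⟨0, bot_le⟩
  | coe b =>
    induction b using ENat.recTopCoe with
    | top => exact absurd hd ringKrullDim_ne_top
    | coe n => exact ⟨n, le_rfl⟩

end Groth.Agent.ExtStab
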