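import Groth.Agent.ExtStabLib.IdealEnd
import Groth.Agent.ExtStabLib.CurveHom
import Groth.Agent.HypSurfLib.Ideal
import Groth.Agent.NormalRefLib.Basic
import Groth.Agent.TwistShriek.ZGood
import Groth.Agent.FibreDualLib.RefPowIso
import Groth.Agent.InfLiftLib.Torsor
import Groth.Agent.EtaleSplit.DegStrat
import Groth.Agent.AVLib.Isog
import Groth.Agent.CurveLib.SmulPow
import Groth.Agent.S10829
import Groth.Prelude.Def_Mor2

/-!
# Submodules of the structure sheaf with finite quotient
-/

set_option autoImplicit false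
set_option backward.isDefEq.respectTransparency false
set_option linter.style.haveILetI false
set_option maxHeartbeats 1000000
set_option synthInstance.maxHeartbeats 200000

universe u

open CategoryTheory CategoryTheory.Limits AlgebraicGeometry Polynomial
open Groth.Agent.PullbackMod Groth.Agent.DCohLib StabCat

noncomputable section

namespace Groth.Agent.ExtStab

/-- Quasi-coherent submodules of the structure sheaf are ideals. -/
theorem exists_idealMod_of_mono {X : Scheme.{u}} {F : X.Modules} [Coh.IsQCoh F]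
    (s : F ⟶ Coh.structureModule X) [Mono s] :
    ∃ J : X.IdealSheafData, Nonempty (F ≅ ClSub.idealMod J) ∧ Nonempty (cokernel s ≅ ClSub.quotMod J) := by
  have hs : ∀ V : X.Opens, Function.Injective (s.app V) := CohCmpLib.injective_app_of_mono s
  obtain ⟨w, h⟩ := HypSurfLib.exists_shortExact s hs (HypSurfLib.imageIdeal s) fun _ => rfl
  haveI : Epi (ShortComplex.mk s (ClSub.toSubscheme (HypSurfLib.imageIdeal s)) w).g := h.epi_g
  exact ⟨HypSurfLib.imageIdeal s, ⟨IsLimit.conePointUniqueUpToIso h.fIsKernel (limit.isLimit _)⟩,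
    ⟨IsColimit.coconePointUniqueUpToIso (cokernelIsCokernel s) h.gIsCokernel⟩⟩

/-- The ideals are determined by their images. -/
theorem idealSheaf_eq_of_iso {X : Scheme.{u}} {J J' : X.IdealSheafData}
    (e : ClSub.idealMod J ⟶ ClSub.idealMod J') (e' : ClSub.idealMod J' ⟶ ClSub.idealMod J)
    (he : e ≫ ClSub.idealModι J' = ClSub.idealModι J) (he' : e' ≫ ClSub.idealModι J = ClSub.idealModι J') :
    J = J' := by
  have key : ∀ {A B : X.IdealSheafData} (f : ClSub.idealMod A ⟶ ClSub.idealMod B),
      f ≫ ClSub.idealModι B = ClSub.idealModι A → A ≤ B := fun {A B} f hf U x hx => by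
    obtain ⟨m, hm⟩ := (OmegaAffLib.mem_range_idealSect A U x).1 hx
    refine (OmegaAffLib.mem_range_idealSect B U x).2 ⟨f.app U.1 m, ?_⟩
    rw [← hm]
    show (f ≫ ClSub.idealModι B).app U.1 m = (ClSub.idealModι A).app U.1 m
    rw [hf]
  exact le_antisymm (key e he) (key e' he')

variable (k : Type u) [Field k] {X : Scheme.{u}} [X.Over (Spec (CommRingCat.of k))]
  [IsProper (X ↘ Spec (CommRingCat.of k))]

/-- A module with constant Hilbert polynomial has finite support. -/
theorem dim_le_zero_of_hp_C {L M : X.Modules} (hL : CohB1.IsAmple L) (hM : Coh.IsCoh M) {n : ℕ}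
    (hn : topologicalKrullDim X ≤ n) {c : ℚ} (hP : ShStabLib.HP k L M (C c)) :
    topologicalKrullDim (CohB1.support M) ≤ 0 := by
  have hd : ∀ d, ShStabLib.DimLE d M → ShStabLib.DimLE 0 M := fun d => by
    induction d with
    | zero => exact id
    | succ d ih =>
      intro h
      refine ih (by_contra fun hlt => ?_)
      have hpos := ShStabLib.alpha_pos k hL hM h hlt hP
      rw [alpha, coeff_C, if_neg (Nat.succ_ne_zero d), mul_zero] at hpos
      exact lt_irrefl _ hpos
  have h0 := hd n (lt_of_le_of_lt (Topology.IsInducing.subtypeVal.topologicalKrullDim_le.trans hn)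
    (by exact_mod_cast Nat.lt_succ_self n))
  have := ShStabLib.le_of_lt_natCast_add_one _ 0 h0
  exact_mod_cast this

omit [X.Over (Spec (CommRingCat.of k))] [IsProper (X ↘ Spec (CommRingCat.of k))] in
/-- The dimension of a projective scheme is finite. -/
theorem exists_dim_le_of_proj {N : ℕ} (ι : X ⟶ CohB1.ProjSpace N k) [IsClosedImmersion ι] :
    topologicalKrullDim X ≤ N :=
  (ι.isEmbedding.isInducing.topologicalKrullDim_le).trans (S10829.result k N).le

/-- A closed subscheme whose structure module has constant Hilbert polynomial is finite of that degree. -/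
theorem isFinLocFreeOfDeg_of_hp {L : X.Modules} (hL : CohB1.IsAmple L) {n : ℕ} (hn : topologicalKrullDim X ≤ n)
    (J : X.IdealSheafData) (ℓ : ℕ) (hP : ShStabLib.HP k L (ClSub.quotMod J) (C (ℓ : ℚ))) :
    Mor2.IsFinLocFreeOfDeg ℓ (J.subschemeι ≫ (X ↘ Spec (CommRingCat.of k))) := by
  haveI := EulerIneqLib.isNoetherian_proper (X := X) k
  let Z := J.subscheme
  let f := J.subschemeι ≫ (X ↘ Spec (CommRingCat.of k))
  letI : Z.Over (Spec (CommRingCat.of k)) := ⟨f⟩
  haveI : IsProper f := inferInstanceAs (IsProper (J.subschemeι ≫ (X ↘ Spec (CommRingCat.of k))))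
  haveI : IsProper (Z ↘ Spec (CommRingCat.of k)) := ‹IsProper f›
  haveI := EulerIneqLib.isNoetherian_proper (X := Z) k
  have hQc := IntLib.isCoh_quotMod J
  have h0 := dim_le_zero_of_hp_C k hL hQc hn hP
  have hs : topologicalKrullDim (J.support : Set X) ≤ 0 := by
    refine (Topology.IsEmbedding.inclusion ?_).isInducing.topologicalKrullDim_le.trans h0
    intro x hx
    rw [← Scheme.IdealSheafData.range_subschemeι] at hx
    obtain ⟨z, rfl⟩ := hx
    intro hsub
    haveI : Subsingleton ((ClSub.quotMod J).presheaf.stalk (J.subschemeι z)) := hsub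
    haveI : Nontrivial ((Coh.structureModule Z).presheaf.stalk z) := (ParaFLib.bijective_oneG z).1.nontrivial
    exact not_subsingleton ((Coh.structureModule Z).presheaf.stalk z)
      (Function.Surjective.subsingleton (f := DCohLib.pushStalk J.subschemeι (Coh.structureModule Z) z)
        (DCohLib.bijective_pushStalk _ _ z).2)
  have hZd : topologicalKrullDim Z ≤ 0 := by
    rw [J.subschemeι.isEmbedding.toHomeomorph.isHomeomorph.topologicalKrullDim_eq,
      Scheme.IdealSheafData.range_subschemeι]
    exact hs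
  haveI : Finite Z := AVLib.finite_of_dim_zero Z hZd
  haveI : LocallyQuasiFinite f := LocallyQuasiFinite.of_finite_preimage_singleton _ fun _ => Set.toFinite _
  haveI hfin : IsFinite f := IsFinite.of_isProper_of_locallyQuasiFinite f
  haveI : IsReduced (Spec (CommRingCat.of k)) := inferInstance
  haveI hflat : Flat f := inferInstance
  refine ⟨⟨hfin, hflat, inferInstance⟩, fun y => ?_⟩
  have hΓ : f.finrank y = Module.finrank k (Coh.HH Z (Coh.structureModule Z) 0) := by
    haveI : IsAffine Z := isAffine_of_isAffineHom f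
    let φ : k →+* Γ(Z, ⊤) := Coh.toGlobal (Z ↘ Spec (CommRingCat.of k))
    letI : Algebra k Γ(Z, ⊤) := φ.toAlgebra
    let e : Coh.HH Z (Coh.structureModule Z) 0 ≃ₗ[k] Γ(Z, ⊤) :=
      { (CurveLib.secOf (Coh.structureModule Z)) with map_smul' := fun r c => CurveLib.secOf_smul (k := k) _ r c }
    have hf : f = Z.isoSpec.hom ≫ Spec.map (CommRingCat.ofHom φ) :=
      (Groth.Agent.ProjUPLib.eq_toSpecΓ_toGlobal f).trans rfl
    haveI hSfin : IsFinite (Spec.map (CommRingCat.ofHom φ)) := by
      have : Spec.map (CommRingCat.ofHom φ) = Z.isoSpec.inv ≫ f := by rw [hf, Iso.inv_hom_id_assoc]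
      rw [this]; infer_instance
    haveI : Module.Finite k Γ(Z, ⊤) := (IsFinite.SpecMap_iff _).1 hSfin
    haveI : Flat (Spec.map (CommRingCat.ofHom φ)) := by
      have : Spec.map (CommRingCat.ofHom φ) = Z.isoSpec.inv ≫ f := by rw [hf, Iso.inv_hom_id_assoc]
      rw [this]; infer_instance
    rw [e.finrank_eq, hf, Scheme.Hom.finrank_comp_left_of_isIso]
    exact (Scheme.Hom.finrank_SpecMap_algebraMap k Γ(Z, ⊤) y).trans (congrFun (Module.rankAtStalk_eq_finrank_of_free) y)
  rw [hΓ]
  have hq := euler_of_hilb k hP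
  rw [eval_C] at hq
  obtain ⟨w⟩ := TwistShriek.nonempty_quotMod_ker_iso J.subschemeι
  rw [Scheme.IdealSheafData.ker_subschemeι] at w
  haveI : Coh.IsQCoh (Coh.structureModule Z) := (DevLib.isCoh_structureModule Z).1
  rw [← IntLib.finrank_push k J.subschemeι rfl _ 0, ← ShBCLib.finrank_HH_iso (K := k) w 0]
  have he : Curv2.euler k X (ClSub.quotMod J) = (Module.finrank k (Coh.HH X (ClSub.quotMod J) 0) : ℤ) := by
    rw [CurveLib.euler_eq_sum (K := k) _ 1 fun p hp =>
      CurveLib.subsingleton_HH_of_support _ (DevLib.isClosed_support hQc) subset_rfl (d := 0) (by exact_mod_cast h0) hp]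
    simp
  rw [he] at hq
  exact_mod_cast hq

variable [IsIntegral X] [Smooth (X ↘ Spec (CommRingCat.of k))]

include k in
/-- A torsion-free module of rank one whose reflexive hull is trivial embeds into the structure sheaf. -/
theorem exists_mono_of_ddual {F : X.Modules} (hF : Coh.IsCoh F) (hFt : TorSh.IsTorsionFree F)
    (e : RefHull.ddual F ≅ Coh.structureModule X) : ∃ s : F ⟶ Coh.structureModule X, Mono s := by
  haveI := EulerIneqLib.isNoetherian_proper (X := X) k
  haveI := hF.1
  haveI : Coh.IsQCoh (RefHull.ddual F) := (RefOne.isCoh_dual (RefOne.isCoh_dual hF)).1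
  haveI : Mono (RefHull.bidualMap F) :=
    LazMuk.mono_of_generic hFt _ (bijective_bidual_generic hF).1
  exact ⟨RefHull.bidualMap F ≫ e.hom, mono_comp _ _⟩

/-- Ideals with finite quotient are determined by their isomorphism class. -/
theorem idealSheaf_eq_of_nonempty_iso [GeometricallyIrreducible (X ↘ Spec (CommRingCat.of k))]
    (hdim : 2 ≤ topologicalKrullDim X) {n : ℕ} (hn : topologicalKrullDim X = n) (J J' : X.IdealSheafData)
    (hJ : topologicalKrullDim (CohB1.support (cokernel (ClSub.idealModι J))) ≤ 0)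
    (e : ClSub.idealMod J ≅ ClSub.idealMod J') : J = J' := by
  haveI := EulerIneqLib.isNoetherian_proper (X := X) k
  let O := Coh.structureModule X
  have hO := DevLib.isCoh_structureModule X
  have hIc := RefOne.isCoh_idealMod J
  haveI : Mono (ClSub.idealModι J) := inferInstanceAs (Mono (kernel.ι _))
  haveI : Mono (ClSub.idealModι J') := inferInstanceAs (Mono (kernel.ι _))
  have hcl := DevLib.isClosed_support (QCohLib.isCoh_kernel_cokernel (ClSub.idealModι J) hIc hO).2
  have hreg := fun x => ASp.isRegularLocalRing_stalk_of_smooth_field (X ↘ Spec (CommRingCat.of k)) x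
  have hr : RefHull.IsReflexive O := ASBunKS.isReflexive_invertible ParaFLib.isInvertible_structureModule
  let U : X.Opens := ⟨(CohB1.support (cokernel (ClSub.idealModι J)))ᶜ, hcl.isOpen_compl⟩
  obtain ⟨ψ, hψ⟩ := exists_extend_hom (ClSub.idealModι J) U
    (fun x hx => ⟨(PullbackMod.mono_iff_stalk _).1 inferInstance x, LazMuk.mem_support_coker_iff _ x hx⟩)
    (fun W => NormalRefLib.bijective_res (NormalRefLib.normal_of_regular (X := X) hreg) hO hr W (W ⊓ U) inf_le_left
      fun y hy hyU => by
        have hy' : y ∈ CohB1.support (cokernel (ClSub.idealModι J)) := not_not.1 fun h => hyU ⟨hy, h⟩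
        rw [TwistShriek.dim_closed_point_integral (X ↘ Spec (CommRingCat.of k)) (n := n) hn y
          (by rw [← CurveLib.closure_singleton_eq hcl hJ hy']; exact isClosed_closure), ← hn]
        exact hdim)
    (e.hom ≫ ClSub.idealModι J')
  obtain ⟨g, rfl⟩ := ASBunKS.exists_eq_mulEnd_structure ψ
  haveI := GeomIrred.geometricallyConnected_of_geometricallyIrreducible (X ↘ Spec (CommRingCat.of k))
  obtain ⟨c, rfl⟩ := (CurveP1Lib.bijective_toGlobal_of_smooth (k := k) (X := X)).2 g
  change ClSub.idealModι J ≫ (VBLib.cst k O c : O ⟶ O) = e.hom ≫ ClSub.idealModι J' at hψ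
  rcases eq_or_ne c 0 with rfl | hc
  · rw [VBLib.cst_zero, Limits.comp_zero] at hψ
    have h1 : ClSub.idealModι J' = 0 := by rw [← cancel_epi e.hom, ← hψ, Limits.comp_zero]
    have h2 : ClSub.idealModι J = 0 := by
      have hzI : IsZero (ClSub.idealMod J') := (IsZero.iff_id_eq_zero _).2
        (zero_of_comp_mono (ClSub.idealModι J') (by rw [Category.id_comp, h1]))
      exact (hzI.of_iso e).eq_of_src _ _
    exact idealSheaf_eq_of_iso e.hom e.inv (by rw [h1, h2, Limits.comp_zero]) (by rw [h1, h2, Limits.comp_zero])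
  · haveI := VBLib.isIso_cst k (ClSub.idealMod J) hc
    haveI := VBLib.isIso_cst k (ClSub.idealMod J') hc
    rw [← VBLib.cst_natural] at hψ
    refine idealSheaf_eq_of_iso (inv (VBLib.cst k (ClSub.idealMod J) c : ClSub.idealMod J ⟶ ClSub.idealMod J) ≫ e.hom)
      (e.inv ≫ (VBLib.cst k (ClSub.idealMod J) c : ClSub.idealMod J ⟶ ClSub.idealMod J)) ?_ ?_
    · rw [Category.assoc, ← hψ, IsIso.inv_hom_id_assoc]
    · rw [Category.assoc, hψ, Iso.inv_hom_id_assoc]

end Groth.Agent.ExtStab

namespace Groth.Agent.ExtStab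

/-- A scheme finite over a field has dimension zero. -/
theorem dim_le_zero_of_isFinite {k : Type u} [Field k] {Z : Scheme.{u}} (f : Z ⟶ Spec (CommRingCat.of k)) [IsFinite f] :
    topologicalKrullDim Z ≤ 0 := by
  haveI : IsAffine Z := isAffine_of_isAffineHom f
  let φ : k →+* Γ(Z, ⊤) := Coh.toGlobal f
  letI : Algebra k Γ(Z, ⊤) := φ.toAlgebra
  have hf : f = Z.isoSpec.hom ≫ Spec.map (CommRingCat.ofHom φ) :=
    (Groth.Agent.ProjUPLib.eq_toSpecΓ_toGlobal f).trans rfl
  haveI : IsFinite (Spec.map (CommRingCat.ofHom φ)) := by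
    have : Spec.map (CommRingCat.ofHom φ) = Z.isoSpec.inv ≫ f :=
      (Iso.eq_inv_comp _).2 hf.symm
    rw [this]; infer_instance
  haveI : Module.Finite k Γ(Z, ⊤) := (IsFinite.SpecMap_iff _).1 this
  haveI : IsArtinianRing Γ(Z, ⊤) := IsArtinianRing.of_finite k _
  rw [Z.isoSpec.hom.homeomorph.isHomeomorph.topologicalKrullDim_eq]
  exact (PrimeSpectrum.topologicalKrullDim_eq_ringKrullDim _).trans_le (Ring.krullDimLE_iff.1 inferInstance)

/-- An element below a natural number. -/
theorem exists_nat_of_le {a : WithBot ℕ∞} {N : ℕ} (h : a ≤ N) (h' : 0 ≤ a) : ∃ n : ℕ, a = n := by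
  induction a using WithBot.recBotCoe with
  | bot => exact absurd h' (by simp)
  | coe b =>
    induction b using ENat.recTopCoe with
    | top => exact absurd h (not_le.2 (by exact_mod_cast ENat.natCast_lt_top N))
    | coe n => exact ⟨n, rfl⟩

end Groth.Agent.ExtStab
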