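import Groth.Agent.ExtStabLib.CurveBidual
import Groth.Agent.ExtStabLib.RankTwo
import Groth.Agent.LazMukLib.EndBound
import Groth.Agent.ExtShLib.Vanish
import Groth.Agent.RegDual

/-!
# Torsion modules with two-term locally free resolutions and their duals
-/

set_option autoImplicit false
set_option backward.isDefEq.respectTransparency false
set_option linter.style.haveILetI false
set_option maxHeartbeats 1000000
set_option synthInstance.maxHeartbeats 200000

universe u

open CategoryTheory CategoryTheory.Limits AlgebraicGeometry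
open Groth.Agent.PullbackMod Groth.Agent.DCohLib Groth.Agent.StalkHomLib

noncomputable section

namespace Groth.Agent.ExtStab

variable {X : Scheme.{u}}

local instance hasHFp (M : X.Modules) : ModSite.HasSheafHom (O := X.sheaf) M :=
  ModTensor.hasSheafHom (O := X.sheaf) M

local instance additive_hFp (M : X.Modules) : (hF M).Additive :=
  (ModSite.sheafHomAdj (O := X.sheaf) M).right_adjoint_additive

/-- A module with a two-term resolution by finite locally free modules. -/
def TwoTerm (Q : X.Modules) : Prop :=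
  ∃ (P₁ P₀ : X.Modules) (f : P₁ ⟶ P₀) (g : P₀ ⟶ Q) (w : f ≫ g = 0), FlatMod.IsFinLocFree P₁ ∧
    FlatMod.IsFinLocFree P₀ ∧ (ShortComplex.mk f g w).ShortExact

theorem TwoTerm.of_iso {Q Q' : X.Modules} (h : TwoTerm Q) (e : Q ≅ Q') : TwoTerm Q' := by
  obtain ⟨P₁, P₀, f, g, w, h₁, h₀, hS⟩ := h
  exact ⟨P₁, P₀, f, g ≫ e.hom, by rw [← Category.assoc, w, zero_comp], h₁, h₀,
    ShortComplex.shortExact_of_iso (S₁ := ShortComplex.mk f g w)
      (ShortComplex.isoMk (Iso.refl _) (Iso.refl _) e (by simp) (by simp)) hS⟩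

theorem TwoTerm.isCoh [IsLocallyNoetherian X] {Q : X.Modules} (h : TwoTerm Q) : Coh.IsCoh Q := by
  obtain ⟨P₁, P₀, f, g, w, h₁, h₀, hS⟩ := h
  exact ShStabLib.isCoh_of_iso (IsColimit.coconePointUniqueUpToIso (cokernelIsCokernel f)
    (haveI : Epi (ShortComplex.mk f g w).g := hS.epi_g; hS.exact.gIsCokernel))
    (QCohLib.isCoh_kernel_cokernel f (CurveLib.isCoh_of_isFinLocFree h₁) (CurveLib.isCoh_of_isFinLocFree h₀)).2

/-- In dimension two, the kernel of a map from a locally free module into a module with a two-term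
resolution is locally free. -/
theorem flf_kernel_of_twoTerm [IsIntegral X] [IsLocallyNoetherian X]
    (hreg : ∀ x : X, IsRegularLocalRing (X.presheaf.stalk x)) (hdim : topologicalKrullDim X = 2)
    {Q : X.Modules} (hQ : TwoTerm Q) {F : X.Modules} (hF : FlatMod.IsFinLocFree F) (h : F ⟶ Q) :
    FlatMod.IsFinLocFree (kernel h) := by
  have hQc := hQ.isCoh
  have hFc := CurveLib.isCoh_of_isFinLocFree hF
  have hKc := (QCohLib.isCoh_kernel_cokernel h hFc hQc).1
  obtain ⟨P₁, P₀, f, g, w, h₁, h₀, hS⟩ := hQ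
  refine S1689.isFinLocFree_of_free hKc fun x => ?_
  let R := X.presheaf.stalk x
  haveI : IsRegularLocalRing R := hreg x
  haveI := RegLocLib.isRegularRing_of_isRegularLocalRing R
  obtain ⟨hFf, hFfin⟩ := free_finite_stalk_of_flf hF x
  obtain ⟨h₁f, h₁fin⟩ := free_finite_stalk_of_flf h₁ x
  obtain ⟨h₀f, h₀fin⟩ := free_finite_stalk_of_flf h₀ x
  haveI := hKc.1
  haveI : Module.Finite R ((kernel h).presheaf.stalk x) := PullbackMod.finite_stalk_of_isFT hKc.2 x
  have hexact : Function.Exact (stalkLin (kernel.ι h) x) (stalkLin h x) :=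
    SyzLib.exact_stalkLin' (ShortComplex.mk (kernel.ι h) h (kernel.condition h))
      (ShortComplex.exact_of_f_is_kernel _ (kernelIsKernel h)) x
  have hinj : Function.Injective (stalkLin (kernel.ι h) x) :=
    (PullbackMod.mono_iff_stalk (kernel.ι h)).1 inferInstance x
  suffices hproj : Module.Projective R (LinearMap.ker (stalkLin h x)) by
    haveI : Module.Projective R ((kernel h).presheaf.stalk x) :=
      Module.Projective.of_equiv ((LinearEquiv.ofInjective (stalkLin (kernel.ι h) x) hinj).trans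
        (LinearEquiv.ofEq _ _ (LinearMap.exact_iff.1 hexact).symm)).symm
    exact Module.free_of_flat_of_isLocalRing
  have hfinj : Function.Injective (stalkLin f x) := (PullbackMod.mono_iff_stalk f).1 hS.mono_f x
  have hgsur : Function.Surjective (stalkLin g x) := (PullbackMod.epi_iff_stalk g).1 hS.epi_g x
  have hfg : Function.Exact (stalkLin f x) (stalkLin g x) := SyzLib.exact_stalkLin' _ hS.exact x
  obtain ⟨G, hG⟩ := Module.projective_lifting_property (stalkLin g x) (stalkLin h x) hgsur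
  let H : F.presheaf.stalk x × P₁.presheaf.stalk x →ₗ[R] P₀.presheaf.stalk x := G.coprod (-(stalkLin f x))
  haveI := RegDual.projective_ker (R := R) ((S1689.dim_le x).trans hdim.le) H
  have hmem : ∀ v : LinearMap.ker H, v.1.1 ∈ LinearMap.ker (stalkLin h x) := fun v => by
    have e : G v.1.1 + -(stalkLin f x v.1.2) = 0 := v.2
    rw [add_neg_eq_zero] at e
    rw [LinearMap.mem_ker, ← hG, LinearMap.comp_apply, e, hfg.apply_apply_eq_zero]
  let π : LinearMap.ker H →ₗ[R] LinearMap.ker (stalkLin h x) :=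
    ((LinearMap.fst R _ _).comp (LinearMap.ker H).subtype).codRestrict _ hmem
  refine Module.Projective.of_equiv (LinearEquiv.ofBijective π ⟨?_, fun a => ?_⟩)
  · rw [injective_iff_map_eq_zero]
    intro v hv
    have e1 : v.1.1 = 0 := congrArg Subtype.val hv
    have e : G v.1.1 + -(stalkLin f x v.1.2) = 0 := v.2
    rw [e1, map_zero, zero_add, neg_eq_zero] at e
    exact Subtype.ext (Prod.ext e1 (hfinj (e.trans (map_zero _).symm)))
  · have e : stalkLin g x (G a.1) = 0 := by
      rw [← LinearMap.comp_apply, hG]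
      exact a.2
    obtain ⟨b, hb⟩ := (hfg _).1 e
    refine ⟨⟨(a.1, b), ?_⟩, rfl⟩
    show G a.1 + -(stalkLin f x b) = 0
    rw [hb, add_neg_cancel]

/-- Coherent submodules inherit two-term resolutions. -/
theorem twoTerm_sub [IsIntegral X] [IsLocallyNoetherian X]
    (hreg : ∀ x : X, IsRegularLocalRing (X.presheaf.stalk x)) (hdim : topologicalKrullDim X = 2)
    {H : X.Modules} (hH : CohB1.IsAmple H)
    {Q Q' : X.Modules} (hQ : TwoTerm Q) (ι : Q' ⟶ Q) [Mono ι] (hQ' : Coh.IsCoh Q') : TwoTerm Q' := by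
  obtain ⟨F, p, hF, hp⟩ := S1108.result X H hH Q' hQ'.1 hQ'.2
  haveI := hp
  have hK := flf_kernel_of_twoTerm hreg hdim hQ hF (p ≫ ι)
  exact ⟨kernel p, F, kernel.ι p, p, kernel.condition p, S2427.isFinLocFree_of_iso (kernelCompMono p ι) hK, hF,
    ShortComplex.ShortExact.mk' (ShortComplex.exact_of_f_is_kernel _ (kernelIsKernel p)) inferInstance hp⟩

/-- At a point where the module is a simple module killed by a uniformiser `t`, so is the dual. -/
theorem simple_quotient_dual {R : Type u} [CommRing R] [IsDomain R] [IsLocalRing R] {t : R}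
    (hm : IsLocalRing.maximalIdeal R = Ideal.span {t}) {P₁ P₀ Q : Type u} [AddCommGroup P₁] [AddCommGroup P₀]
    [AddCommGroup Q] [Module R P₁] [Module R P₀] [Module R Q] (f : P₁ →ₗ[R] P₀) (g : P₀ →ₗ[R] Q)
    (hf : Function.Injective f) (hg : Function.Surjective g) (hfg : Function.Exact f g)
    (hkill : ∀ q : Q, t • q = 0) (hsimple : ∀ z : Q, z ≠ 0 → Function.Surjective fun r : R => r • z)
    (l l' : P₁ →ₗ[R] R) (hl : ∀ m : P₀ →ₗ[R] R, m ∘ₗ f ≠ l) :
    ∃ (r : R) (m : P₀ →ₗ[R] R), m ∘ₗ f = l' - r • l := by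
  by_cases hQ : ∀ q : Q, q = 0
  · have hfs : Function.Surjective f := fun p => (hfg p).1 (hQ _)
    exact absurd (LinearMap.ext fun a => by simp)
      (hl (l ∘ₗ (LinearEquiv.ofBijective f ⟨hf, hfs⟩).symm.toLinearMap))
  · push Not at hQ
    obtain ⟨q₀, hq₀⟩ := hQ
    obtain ⟨p₀, hp₀⟩ := hg q₀
    obtain ⟨p₁, hp₁⟩ := (hfg (t • p₀)).1 (by rw [map_smul, hkill])
    have key : ∀ k : P₁ →ₗ[R] R, k p₁ ∈ IsLocalRing.maximalIdeal R → ∃ m : P₀ →ₗ[R] R, m ∘ₗ f = k := fun k hk => by
      rw [hm] at hk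
      obtain ⟨c, hc⟩ := Ideal.mem_span_singleton'.1 hk
      let Φ : P₁ × R →ₗ[R] P₀ := f.coprod (LinearMap.toSpanSingleton R P₀ p₀)
      let Ψ : P₁ × R →ₗ[R] R := k.coprod (LinearMap.toSpanSingleton R R c)
      have hΦ : Function.Surjective Φ := fun p => by
        obtain ⟨r, hr⟩ := hsimple q₀ hq₀ (g p)
        dsimp only at hr
        obtain ⟨a, ha⟩ := (hfg (p - r • p₀)).1 (by rw [map_sub, map_smul, hp₀, hr, sub_self])
        exact ⟨(a, r), by simp [Φ, ha]⟩
      have hle : LinearMap.ker Φ ≤ LinearMap.ker Ψ := fun v hv => by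
        have e : f v.1 + v.2 • p₀ = 0 := hv
        have hq : v.2 • q₀ = 0 := by
          have := congrArg g e
          rwa [map_add, map_smul, hfg.apply_apply_eq_zero, hp₀, zero_add, map_zero] at this
        have hv2 : v.2 ∈ IsLocalRing.maximalIdeal R := fun hu => hq₀ (hu.smul_eq_zero.1 hq)
        rw [hm] at hv2
        obtain ⟨s, hs⟩ := Ideal.mem_span_singleton'.1 hv2
        have e2 : v.1 + s • p₁ = 0 := hf (by rw [map_add, map_smul, hp₁, smul_smul, hs, e, map_zero])
        show k v.1 + v.2 • c = 0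
        rw [eq_neg_of_add_eq_zero_left e2, map_neg, map_smul, ← hc, ← hs, smul_eq_mul, smul_eq_mul]
        ring
      refine ⟨(Submodule.liftQ _ Ψ hle).comp (Φ.quotKerEquivOfSurjective hΦ).symm.toLinearMap,
        LinearMap.ext fun a => ?_⟩
      show Submodule.liftQ _ Ψ hle ((Φ.quotKerEquivOfSurjective hΦ).symm (f a)) = k a
      have : f a = Φ (a, 0) := by simp [Φ]
      rw [this, ← LinearMap.quotKerEquivOfSurjective_apply_mk Φ hΦ (a, 0), LinearEquiv.symm_apply_apply,
        Submodule.liftQ_apply]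
      simp [Ψ]
    have hu : IsUnit (l p₁) := by
      by_contra h
      obtain ⟨m, hm'⟩ := key l h
      exact hl m hm'
    obtain ⟨v, hv⟩ := hu
    refine ⟨l' p₁ * ↑v⁻¹, key _ ?_⟩
    have : (l' - (l' p₁ * (↑v⁻¹ : R)) • l) p₁ = 0 := by
      rw [LinearMap.sub_apply, LinearMap.smul_apply, smul_eq_mul, ← hv, mul_assoc, Units.inv_mul, mul_one, sub_self]
    rw [this]
    exact Ideal.zero_mem _

section Star

variable [HasInjectiveResolutions X.Modules]

variable (ω : X.Modules)

/-- The dual of a torsion module. -/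
abbrev star (Q : X.Modules) : X.Modules := ((hF Q).rightDerived 1).obj ω

variable {ω}

/-- The dual: resolution, torsion, and biduality. -/
theorem star_data [IsIntegral X] [IsLocallyNoetherian X] (hω : PicF.IsInvertible ω) {Q : X.Modules}
    (hQ : TwoTerm Q) (ht : Subsingleton (Q.presheaf.stalk (genericPoint X))) :
    TwoTerm (star ω Q) ∧ Subsingleton ((star ω Q).presheaf.stalk (genericPoint X)) ∧
      Nonempty (star ω (star ω Q) ≅ Q) := by
  have hQc := hQ.isCoh
  obtain ⟨P₁, P₀, f, g, w, h₁, h₀, hS⟩ := hQ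
  haveI := (CurveLib.isCoh_of_isInvertible hω).1
  have hflf : ∀ P : X.Modules, FlatMod.IsFinLocFree P → FlatMod.IsFinLocFree ((hF P).obj ω) := fun P hP => by
    haveI := LocFreeHomLib.isIso_alpha P hP ω
    exact S2427.isFinLocFree_of_iso (asIso (LocFreeHomLib.alpha P ω))
      (DCohLib.isFinLocFree_tensor (CurveLib.isFinLocFree_of_isInvertible hω) (DCohMore.isFinLocFree_dual P hP))
  obtain ⟨⟨c⟩, hm⟩ := nonempty_extSh_one_coker hS (CurveLib.isCoh_of_isFinLocFree h₁) h₀ hQc ω
  let d := (ExtShLib.hFMap f).app ω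
  haveI : Mono d := hm (isZero_hF_of_torsion Q ω ht
    (TFCurvSSLib.isTorsionFree_flf (CurveLib.isFinLocFreeOfRank_one hω)))
  refine ⟨TwoTerm.of_iso (Q := cokernel d) ⟨_, _, d, cokernel.π d, cokernel.condition d, hflf _ h₀, hflf _ h₁,
    DevLib.cokerSeq_shortExact d⟩ c.symm, ?_, nonempty_extSh_bidual hS h₁ h₀ hQc ht hω⟩
  refine (Equiv.ofBijective _ (HilbLib.stalkLin_bijective_of_iso c (genericPoint X))).subsingleton_congr.2 ?_
  refine LazMuk.subsingleton_stalk_cokernel d _ ?_
  let η := genericPoint X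
  have hfb : Function.Bijective (stalkLin f η) :=
    ⟨(PullbackMod.mono_iff_stalk f).1 hS.mono_f η, fun z =>
      (SyzLib.exact_stalkLin' _ hS.exact η z).1 (ht.elim _ _)⟩
  intro z
  let e := LinearEquiv.ofBijective _ hfb
  obtain ⟨y, hy⟩ := (StalkHomLib.theta_bijective P₀ η (CurveLib.isCoh_of_isFinLocFree h₀) ω).2
    (theta P₁ ω η z ∘ₗ e.symm.toLinearMap)
  refine ⟨y, (StalkHomLib.theta_bijective P₁ η (CurveLib.isCoh_of_isFinLocFree h₁) ω).1 (LinearMap.ext fun a => ?_)⟩
  rw [ExtShLib.theta_hFMap, hy]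
  exact congrArg (theta P₁ ω η z) (e.symm_apply_apply a)

/-- At a point where the module is simple, so is the dual, or zero. -/
theorem star_simple [IsIntegral X] [IsLocallyNoetherian X] (hω : PicF.IsInvertible ω) {Q : X.Modules}
    (hQ : TwoTerm Q) (x : X) [IsLocalRing (X.presheaf.stalk x)] {t : X.presheaf.stalk x}
    (hm : IsLocalRing.maximalIdeal (X.presheaf.stalk x) = Ideal.span {t})
    (hkill : ∀ q : Q.presheaf.stalk x, t • q = 0)
    (hsimple : ∀ z : Q.presheaf.stalk x, z ≠ 0 → Function.Surjective fun r : X.presheaf.stalk x => r • z)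
    (z : (star ω Q).presheaf.stalk x) (hz : z ≠ 0) :
    Function.Surjective fun r : X.presheaf.stalk x => r • z := by
  have hQc := hQ.isCoh
  obtain ⟨P₁, P₀, f, g, w, h₁, h₀, hS⟩ := hQ
  obtain ⟨⟨c⟩, -⟩ := nonempty_extSh_one_coker hS (CurveLib.isCoh_of_isFinLocFree h₁) h₀ hQc ω
  let d := (ExtShLib.hFMap f).app ω
  let R := X.presheaf.stalk x
  obtain ⟨gen, hgen⟩ := ParaFLib.exists_stalk_gen hω x
  let one : R ≃ₗ[R] ω.presheaf.stalk x := LinearEquiv.ofBijective (LinearMap.toSpanSingleton R _ gen) hgen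
  let e : (star ω Q).presheaf.stalk x ≃ₗ[R] (cokernel d).presheaf.stalk x :=
    LinearEquiv.ofBijective _ (HilbLib.stalkLin_bijective_of_iso c x)
  let θ₁ : ((hF P₁).obj ω).presheaf.stalk x ≃ₗ[R] (P₁.presheaf.stalk x →ₗ[R] R) :=
    (LinearEquiv.ofBijective _ (StalkHomLib.theta_bijective P₁ x (CurveLib.isCoh_of_isFinLocFree h₁) ω)).trans
      (LinearEquiv.congrRight one.symm)
  let θ₀ : ((hF P₀).obj ω).presheaf.stalk x ≃ₗ[R] (P₀.presheaf.stalk x →ₗ[R] R) :=
    (LinearEquiv.ofBijective _ (StalkHomLib.theta_bijective P₀ x (CurveLib.isCoh_of_isFinLocFree h₀) ω)).trans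
      (LinearEquiv.congrRight one.symm)
  have hd : ∀ y, θ₁ (stalkLin d x y) = θ₀ y ∘ₗ stalkLin f x := fun y => LinearMap.ext fun a =>
    congrArg one.symm (ExtShLib.theta_hFMap f ω x y a)
  have hex : Function.Exact (stalkLin d x) (stalkLin (cokernel.π d) x) :=
    SyzLib.exact_stalkLin' (ShortComplex.mk d (cokernel.π d) (cokernel.condition d))
      (ShortComplex.exact_of_g_is_cokernel _ (cokernelIsCokernel d)) x
  have hπ : Function.Surjective (stalkLin (cokernel.π d) x) := (PullbackMod.epi_iff_stalk _).1 inferInstance x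
  intro z'
  obtain ⟨u, hu⟩ := hπ (e z)
  obtain ⟨u', hu'⟩ := hπ (e z')
  obtain ⟨r, m, hrm⟩ := simple_quotient_dual hm (stalkLin f x) (stalkLin g x)
    ((PullbackMod.mono_iff_stalk f).1 hS.mono_f x) ((PullbackMod.epi_iff_stalk g).1 hS.epi_g x)
    (SyzLib.exact_stalkLin' _ hS.exact x) hkill hsimple (θ₁ u) (θ₁ u') fun m hm' => hz (e.injective (by
      rw [map_zero, ← hu, show u = stalkLin d x (θ₀.symm m) from θ₁.injective (by
        rw [hd, LinearEquiv.apply_symm_apply, hm']), hex.apply_apply_eq_zero]))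
  refine ⟨r, e.injective ?_⟩
  have : u' = r • u + stalkLin d x (θ₀.symm m) := θ₁.injective (by
    rw [map_add, map_smul, hd, LinearEquiv.apply_symm_apply, hrm, add_sub_cancel])
  rw [map_smul, ← hu, ← hu', this, map_add, map_smul, hex.apply_apply_eq_zero, add_zero]

/-- Contravariance of the dual, with control of kernel and cokernel. -/
theorem exists_star_map [IsLocallyNoetherian X] (hreg : ∀ x : X, IsRegularLocalRing (X.presheaf.stalk x))
    (ω : X.Modules) {S : ShortComplex X.Modules} (hS : S.ShortExact) (h₁ : Coh.IsCoh S.X₁) (h₂ : Coh.IsCoh S.X₂)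
    (h₃ : Coh.IsCoh S.X₃) :
    ∃ u : star ω S.X₂ ⟶ star ω S.X₁,
      ∀ x : X, Subsingleton (S.X₃.presheaf.stalk x) → Function.Bijective (stalkLin u x) := by
  haveI : HasInjectiveResolutions (ModSite.Mod X.sheaf) := ‹HasInjectiveResolutions X.Modules›
  let I := injectiveResolution ω
  let K : X.Modules → CochainComplex X.Modules ℕ := fun P => ((hF P).mapHomologicalComplex _).obj I.cocomplex
  let g : K S.X₃ ⟶ K S.X₂ := (NatTrans.mapHomologicalComplex (ExtShLib.hFMap S.g) _).app I.cocomplex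
  let f : K S.X₂ ⟶ K S.X₁ := (NatTrans.mapHomologicalComplex (ExtShLib.hFMap S.f) _).app I.cocomplex
  have hdeg := fun n => ExtShLib.shortExact_hom hS h₁ h₂ h₃ (I.cocomplex.X n) (I.injective n)
  let T : ShortComplex (CochainComplex X.Modules ℕ) :=
    ShortComplex.mk g f (HomologicalComplex.hom_ext _ _ fun n => (hdeg n).1)
  have hT : T.ShortExact := HomologicalComplex.shortExact_of_degreewise_shortExact T fun n => (hdeg n).2
  let a := I.isoRightDerivedObj (hF S.X₂) 1
  let b := I.isoRightDerivedObj (hF S.X₁) 1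
  refine ⟨a.hom ≫ HomologicalComplex.homologyMap f 1 ≫ b.inv, fun x hx => ?_⟩
  have hz : ∀ q, Subsingleton ((T.X₁.homology q).presheaf.stalk x) := fun q =>
    (Equiv.ofBijective _ (HilbLib.stalkLin_bijective_of_iso (I.isoRightDerivedObj (hF S.X₃) q) x)).subsingleton_congr.1
      (ExtShLib.subsingleton_stalk_extS S.X₃ ω h₃ x q (hreg x) (Or.inr hx))
  have hbij : Function.Bijective (stalkLin (HomologicalComplex.homologyMap f 1) x) := by
    refine ⟨(injective_iff_map_eq_zero _).2 fun z hz' => ?_, fun z => ?_⟩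
    · obtain ⟨w, hw⟩ := (SyzLib.exact_stalkLin' _ (hT.homology_exact₂ 1) x z).1 hz'
      rw [← hw]
      exact (congrArg _ ((hz 1).elim w 0)).trans (map_zero _)
    · exact (SyzLib.exact_stalkLin' _ (hT.homology_exact₃ 1 2 rfl) x z).1 ((hz 2).elim _ _)
  rw [stalkLin_comp, stalkLin_comp, LinearMap.coe_comp, LinearMap.coe_comp]
  exact ((HilbLib.stalkLin_bijective_of_iso b.symm x).comp hbij).comp (HilbLib.stalkLin_bijective_of_iso a x)

end Star

variable (k : Type u) [Field k] [X.Over (Spec (CommRingCat.of k))] [IsProper (X ↘ Spec (CommRingCat.of k))]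
  [IsIntegral X] [Smooth (X ↘ Spec (CommRingCat.of k))]

include k in
/-- Modules with two-term resolutions have no finite submodules. -/
theorem eq_zero_of_finite_sub (hdim : topologicalKrullDim X = 2) {Q T : X.Modules} (hQ : TwoTerm Q) (ι : T ⟶ Q)
    [Mono ι] (hT : Coh.IsCoh T) (h0 : topologicalKrullDim (CohB1.support T) ≤ 0) : ι = 0 := by
  haveI := EulerIneqLib.isNoetherian_proper (X := X) k
  have hQc := hQ.isCoh
  obtain ⟨P₁, P₀, f, g, w, h₁, h₀, hS⟩ := hQ
  have hP₁c := CurveLib.isCoh_of_isFinLocFree h₁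
  have hP₀c := CurveLib.isCoh_of_isFinLocFree h₀
  haveI := hP₁c.1
  haveI := hP₀c.1
  haveI : Mono f := hS.mono_f
  let q : P₀ ⟶ cokernel ι := g ≫ cokernel.π ι
  have hEc := (QCohLib.isCoh_kernel_cokernel q hP₀c (QCohLib.isCoh_kernel_cokernel ι hT hQc).2).1
  haveI := hEc.1
  let a : P₁ ⟶ kernel q := kernel.lift q f (by rw [← Category.assoc, w, zero_comp])
  have ha : a ≫ kernel.ι q = f := kernel.lift_ι _ _ _
  haveI : Mono a := mono_of_mono_fac ha
  have hqE : ∀ x, Function.Exact (stalkLin (kernel.ι q) x) (stalkLin q x) := fun x =>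
    SyzLib.exact_stalkLin' (ShortComplex.mk (kernel.ι q) q (kernel.condition q))
      (ShortComplex.exact_of_f_is_kernel _ (kernelIsKernel q)) x
  have hιc : ∀ x, Function.Exact (stalkLin ι x) (stalkLin (cokernel.π ι) x) := fun x =>
    SyzLib.exact_stalkLin' (ShortComplex.mk ι (cokernel.π ι) (cokernel.condition ι))
      (ShortComplex.exact_of_g_is_cokernel _ (cokernelIsCokernel ι)) x
  have hsurj : ∀ x, x ∉ CohB1.support T → Function.Surjective (stalkLin a x) := fun x hx e => by
    haveI : Subsingleton (T.presheaf.stalk x) := not_not.1 hx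
    have e1 : stalkLin (cokernel.π ι) x (stalkLin g x (stalkLin (kernel.ι q) x e)) = 0 := by
      rw [← LinearMap.comp_apply (f := stalkLin (cokernel.π ι) x), ← stalkLin_comp]
      exact (hqE x).apply_apply_eq_zero e
    obtain ⟨s, hs⟩ := (hιc x _).1 e1
    rw [Subsingleton.elim s 0, map_zero] at hs
    obtain ⟨p, hp⟩ := (SyzLib.exact_stalkLin' _ hS.exact x _).1 hs.symm
    refine ⟨p, (PullbackMod.mono_iff_stalk (kernel.ι q)).1 inferInstance x ?_⟩
    rw [← LinearMap.comp_apply, ← stalkLin_comp, ha]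
    exact hp
  have hfin : topologicalKrullDim (CohB1.support (cokernel a)) ≤ 0 := by
    refine le_trans (Topology.IsEmbedding.inclusion (t := CohB1.support T) fun x hx => ?_).isInducing.topologicalKrullDim_le h0
    by_contra hxT
    exact hx (LazMuk.subsingleton_stalk_cokernel a x (hsurj x hxT))
  obtain ⟨n, hn⟩ := KRRAmple.exists_isFinLocFreeOfRank (X := X) h₁
  obtain ⟨m, hm⟩ := KRRAmple.exists_isFinLocFreeOfRank (X := X) h₀
  obtain ⟨ψ, hψ⟩ := exists_extend_finite k hdim a hP₁c hEc hfin hP₁c (LazMuk.isReflexive_flf' hn) (𝟙 P₁)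
  have hgen : Function.Surjective (stalkLin a (genericPoint X)) := by
    refine LazMuk.mem_support_coker_iff a _ fun h => ?_
    have hcl := DevLib.isClosed_support (QCohLib.isCoh_kernel_cokernel a hP₁c hEc).2
    have := (Topology.IsEmbedding.inclusion (show (Set.univ : Set X) ⊆ CohB1.support (cokernel a) from
      fun y _ => (genericPoint_specializes y).mem_closed hcl h)).isInducing.topologicalKrullDim_le.trans hfin
    rw [(Homeomorph.Set.univ X).isHomeomorph.topologicalKrullDim_eq, hdim] at this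
    exact absurd this (by norm_num)
  have hψf : ψ ≫ f = kernel.ι q := sub_eq_zero.1 (LazMuk.hom_eq_zero_of_generic (TFCurvSSLib.isTorsionFree_flf hm) _
    (LinearMap.ext fun z => by
      obtain ⟨p, rfl⟩ := hgen z
      rw [← LinearMap.comp_apply, ← stalkLin_comp, Preadditive.comp_sub, ← Category.assoc, hψ, Category.id_comp, ha,
        sub_self, TFOneLib.stalkLin_zero]
      rfl))
  have hEg : kernel.ι q ≫ g = 0 := by rw [← hψf, Category.assoc, w, comp_zero]
  refine (PullbackMod.eq_zero_iff_stalk ι).2 fun x => LinearMap.ext fun s => ?_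
  obtain ⟨p, hp⟩ := (PullbackMod.epi_iff_stalk g).1 hS.epi_g x (stalkLin ι x s)
  have hq : stalkLin q x p = 0 := by
    rw [stalkLin_comp, LinearMap.comp_apply, hp, (hιc x).apply_apply_eq_zero]
  obtain ⟨e, rfl⟩ := (hqE x p).1 hq
  rw [← hp, ← LinearMap.comp_apply, ← stalkLin_comp, hEg, TFOneLib.stalkLin_zero]
  rfl

end Groth.Agent.ExtStab
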