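import Groth.Agent.ExtStabLib.Section
import Groth.Agent.ExtStabLib.PureOne
import Groth.Agent.TwistShriek.NumBase
import Groth.Agent.CurveLib.GlobalFun
import Groth.Agent.CurveLib.Deg
import Groth.Agent.CurveLib.Components
import Groth.Agent.RatSingLib.Lift
import Groth.Agent.H1ZeroLib.Coh

/-!
# Vanishing of `H¹` for the invertible modules of a K3 surface with Picard group `ℤ`
-/

set_option autoImplicit false
set_option backward.isDefEq.respectTransparency false
set_option linter.style.haveILetI false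
set_option maxHeartbeats 1000000
set_option synthInstance.maxHeartbeats 200000

universe u

open CategoryTheory CategoryTheory.Limits AlgebraicGeometry TopologicalSpace Polynomial
open Groth.Agent.PullbackMod Groth.Agent.DCohLib Groth.Agent.Nakai StabCat
open Groth.Agent.IntLib (PicRing pairing dif inv')

noncomputable section

namespace Groth.Agent.ExtStab

/-- Nonzero maps out of invertible modules into torsion-free ones are injective. -/
theorem mono_of_invertible {X : Scheme.{u}} [IsIntegral X] [IsLocallyNoetherian X] {T V : X.Modules}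
    (hT : PicF.IsInvertible T) [Coh.IsQCoh V] (hV : TorSh.IsTorsionFree V) (j : T ⟶ V) (hj : j ≠ 0) : Mono j := by
  let η := genericPoint X
  letI : Field (X.presheaf.stalk η) := RefOne.isField_gen.toField
  haveI := (CurveLib.isCoh_of_isInvertible hT).1
  obtain ⟨s, hs⟩ := ParaFLib.exists_stalk_gen hT η
  have hjs : stalkLin j η s ≠ 0 := fun h0 => hj (LazMuk.hom_eq_zero_of_generic hV j (LinearMap.ext fun z => by
    obtain ⟨r, rfl⟩ := hs.2 z
    rw [map_smul, h0, smul_zero, LinearMap.zero_apply]))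
  refine LazMuk.mono_of_generic (TFCurvSSLib.isTorsionFree_flf (CurveLib.isFinLocFreeOfRank_one hT)) j ?_
  rw [injective_iff_map_eq_zero]
  intro z hz
  obtain ⟨r, rfl⟩ := hs.2 z
  rw [map_smul] at hz
  show r • s = 0
  rw [(smul_eq_zero.1 hz).resolve_right hjs, zero_smul]

/-- A closed subset of an irreducible curve missing its generic point is finite. -/
theorem dim_le_zero_of_finite {X : Scheme.{u}} {ξ : X}
    (hd : topologicalKrullDim (closure ({ξ} : Set X)) = ((1 : ℕ) : WithBot ℕ∞)) {Z : Set X} (hZ : IsClosed Z)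
    (hsub : Z ⊆ closure ({ξ} : Set X)) (hξ : ξ ∉ Z) : topologicalKrullDim Z ≤ 0 := by
  have h := HilbLib.dim_lt_of_notMem hZ (ξ := ξ) (n := 1) (fun y hy => hsub hy) hξ (by
    rw [hd]
    exact_mod_cast Nat.lt_succ_self 1)
  have := ShStabLib.le_of_lt_natCast_add_one _ 0 (by exact_mod_cast h)
  exact_mod_cast this

/-- A section of a module gives a map from its inverse. -/
theorem exists_dual_map {X : Scheme.{u}} {G I : X.Modules} (θ : CohB1.tensorMod G I ≅ Coh.structureModule X)
    (s : Coh.structureModule X ⟶ G) (hs : s ≠ 0) : ∃ i : I ⟶ Coh.structureModule X, i ≠ 0 := by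
  haveI := VBLib.isEquivalence_tensR (AmpleLib.comm I G ≪≫ θ)
  let a : (CurveLib.tensR I).obj (Coh.structureModule X) ≅ I := AmpleLib.unitL I
  let b : (CurveLib.tensR I).obj G ≅ Coh.structureModule X := θ
  refine ⟨a.inv ≫ (CurveLib.tensR I).map s ≫ b.hom, fun h => hs ((CurveLib.tensR I).map_injective ?_)⟩
  rw [Functor.map_zero, ← cancel_mono b.hom, ← cancel_epi a.inv, h, Limits.zero_comp, Limits.comp_zero]

variable (k : Type u) [Field k] {X : Scheme.{u}} [X.Over (Spec (CommRingCat.of k))] [IsIntegral X]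
  [Smooth (X ↘ Spec (CommRingCat.of k))] [IsProper (X ↘ Spec (CommRingCat.of k))] [PicGrp.Law X]

/-- An integral curve in the class of the polarisation. -/
theorem exists_curve [IsAlgClosed k] (hdim : topologicalKrullDim X = 2) {G : X.Modules} (hG : CohB1.IsAmple G)
    (hK : ExtPow.IsExtPow 2 (Omega.sheaf (X ↘ Spec (CommRingCat.of k))) (Coh.structureModule X))
    (hq : Module.finrank k (Coh.HH X (Coh.structureModule X) 1) = 0)
    (hgen : ∀ c : PicLoc.PicSet X, ∃ n : ℤ, c = PicGrp.cls G hG.1 ^ n)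
    {I : X.Modules} (hI : PicF.IsInvertible I) (θ : CohB1.tensorMod G I ≅ Coh.structureModule X) :
    ∃ (J : X.IdealSheafData) (_ : IsIntegral J.subscheme) (_ : topologicalKrullDim (J.support : Set X) = 1),
      Nonempty (ClSub.idealMod J ≅ I) := by
  haveI := EulerIneqLib.isNoetherian_proper (X := X) k
  let O := Coh.structureModule X
  have hO : Coh.IsCoh O := DevLib.isCoh_structureModule X
  have hOi : PicF.IsInvertible O := ParaFLib.isInvertible_structureModule
  haveI := hO.1
  have hOtf := TFCurvSSLib.isTorsionFree_flf (CurveLib.isFinLocFreeOfRank_one hOi)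
  have hGc := CurveLib.isCoh_of_isInvertible hG.1
  have hIc := CurveLib.isCoh_of_isInvertible hI
  haveI := hGc.1
  have hd : ∀ M : X.Modules, ShStabLib.DimLE 2 M := fun M =>
    lt_of_le_of_lt (Topology.IsInducing.subtypeVal.topologicalKrullDim_le.trans hdim.le)
      (by exact_mod_cast Nat.lt_succ_self 2)
  obtain ⟨pO, -, hpO⟩ := ShStabLib.exists_hp k hG hO (hd O)
  have ha1 := alpha_one_structure k hdim hG hK hpO
  set δ := form k (cl hG.1) (cl hG.1) with hδdef
  have hδ : 0 < δ := form_ample_pos k (by exact_mod_cast hdim) hG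
  have hδ' : (0 : ℚ) < (δ : ℚ) := by exact_mod_cast hδ
  have hIL : form k (cl hI) (cl hG.1) = -δ := by
    rw [hδdef, TwistShriek.form_inverse k hdim hG.1 hI θ (cl_mem hG.1), neg_neg]
  have hclsI : PicGrp.cls I hI = PicGrp.cls G hG.1 ^ (-1 : ℤ) := by
    rw [zpow_neg_one, PicGrp.cls_inv_eq_cls hG.1 hI ⟨θ⟩]
  -- a section of the polarisation
  have hhom : ∀ φ : G ⟶ O, φ = 0 := fun φ => by
    by_contra hφ
    haveI := mono_of_invertible hG.1 hOtf φ hφ
    obtain ⟨pG, -, hpG⟩ := ShStabLib.exists_hp k hG hGc (hd G)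
    obtain ⟨-, hG1⟩ := alpha_invertible k hdim hG hG.1 hpG hpO
    obtain ⟨q, hq0, -, hq1, -, -⟩ := rank_one_sub k hdim hG hgen φ hGc hOi hφ hpG hpO
    rw [hG1, ← hδdef] at hq1
    have : (0 : ℚ) ≤ (q : ℚ) := by exact_mod_cast hq0
    linarith
  have hχ : 1 ≤ Curv2.euler k X G := by
    obtain ⟨hWi, hdd, -⟩ := TwistShriek.canonical_data_proper k hdim hK
    have h1 := TwistShriek.two_mul_euler_of_duality k hdim.le hWi hdd hG.1
    have hO0 : cl hWi = 0 := by
      rw [cl, show IntLib.inv' hWi = 1 from Subtype.ext IntLib.mk_structureModule, map_one, sub_self]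
    rw [TwistShriek.intNum_eq_form k hdim.le hG.1 hG.1, TwistShriek.intNum_eq_form k hdim.le hG.1 hWi, hO0,
      show form k (cl hG.1) (0 : PicRing X) = 0 by rw [form, mul_zero, map_zero], ← hδdef] at h1
    have h2 : 1 ≤ Curv2.euler k X O := by
      rw [CurveLib.euler_eq_sum (K := k) O 3 fun p hp => CurveLib.subsingleton_HH_of_dim O (d := 2) hdim.le (by omega)]
      simp only [Finset.sum_range_succ, Finset.sum_range_zero]
      rw [hq, CurveLib.finrank_H0_structure]
      norm_num
    linarith
  obtain ⟨s, hs⟩ := exists_section_of_euler k hdim hG hK hGc hhom hχ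
  -- its zero scheme
  obtain ⟨i, hi⟩ := exists_dual_map θ s hs
  haveI := mono_of_invertible hI hOtf i hi
  have hQc := (QCohLib.isCoh_kernel_cokernel i hIc hO).2
  have hne : ¬ topologicalKrullDim (CohB1.support (cokernel i)) ≤ 0 := fun h0 => by
    obtain ⟨pI, -, hpI⟩ := ShStabLib.exists_hp k hG hIc (hd I)
    obtain ⟨-, hI1⟩ := alpha_invertible k hdim hG hI hpI hpO
    obtain ⟨q, -, -, hq1, -, hqf⟩ := rank_one_sub k hdim hG hgen i hIc hOi hi hpI hpO
    rw [hI1, hqf h0, hIL] at hq1
    push_cast at hq1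
    linarith
  have hηQ : genericPoint X ∉ CohB1.support (cokernel i) := fun h =>
    h (LazMuk.subsingleton_stalk_cokernel i _ (surjective_generic_of_invertible hOi i hi))
  have hQcl := DevLib.isClosed_support hQc
  have hQd := dimLE_one_of_notMem hdim hQcl hηQ
  obtain ⟨p, hp, hp'⟩ := (HilbLib.not_dim_lt_iff hQcl 1).1 fun hlt => hne (by
    have := ShStabLib.le_of_lt_natCast_add_one _ 0 (by exact_mod_cast hlt)
    exact_mod_cast this)
  let ξ := p 1
  have hsub : closure ({ξ} : Set X) ⊆ CohB1.support (cokernel i) :=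
    hQcl.closure_subset_iff.2 (Set.singleton_subset_iff.2 (hp 1))
  have hdξ : topologicalKrullDim (closure ({ξ} : Set X)) = ((1 : ℕ) : WithBot ℕ∞) :=
    le_antisymm ((Topology.IsEmbedding.inclusion hsub).isInducing.topologicalKrullDim_le.trans
        (ShStabLib.le_of_lt_natCast_add_one _ 1 hQd))
      (not_lt.1 ((HilbLib.not_dim_lt_iff isClosed_closure 1).2 ⟨p, fun c => by
        fin_cases c
        · exact (hp' 0 1 (by decide)).1.mem_closure
        · exact subset_closure rfl, hp'⟩))
  let J := Scheme.IdealSheafData.vanishingIdeal (⟨closure {ξ}, isClosed_closure⟩ : Closeds X)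
  haveI hJi : IsIntegral J.subscheme := CurveLib.isIntegral_vanishingIdeal isClosed_closure isIrreducible_singleton.closure
  have hJd : topologicalKrullDim (J.support : Set X) = 1 := by
    rw [Scheme.IdealSheafData.coe_support_vanishingIdeal]
    exact hdξ.trans Nat.cast_one
  have hIJ := TwistShriek.invertible_curve k hdim J hJi hJd
  refine ⟨J, hJi, hJd, ?_⟩
  -- the curve lies in the zero scheme
  haveI := Groth.Agent.SerreAff.epi_unitToPush J.subschemeι
  haveI : Mono (ClSub.idealModι J) := inferInstanceAs (Mono (kernel.ι _))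
  haveI : Epi (ClSub.toSubscheme J) := HilbObsLib.epi_toSubscheme _
  have hQJc : Coh.IsCoh (ClSub.quotMod J) := IntLib.isCoh_quotMod J
  have hTT : TwoTerm (ClSub.quotMod J) := ⟨_, _, ClSub.idealModι J, ClSub.toSubscheme J, kernel.condition _,
    CurveLib.isFinLocFree_of_isInvertible hIJ, CurveLib.isFinLocFree_of_isInvertible hOi,
    ShortComplex.ShortExact.mk' (ShortComplex.exact_of_f_is_kernel _ (kernelIsKernel _)) inferInstance inferInstance⟩
  let φ : I ⟶ ClSub.quotMod J := i ≫ ClSub.toSubscheme J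
  have hφξ : ∀ z, stalkLin φ ξ z = 0 := by
    obtain ⟨zC, hzC⟩ : ξ ∈ Set.range J.subschemeι := by
      rw [Scheme.IdealSheafData.range_subschemeι, Scheme.IdealSheafData.coe_support_vanishingIdeal]
      exact subset_closure rfl
    intro z
    obtain ⟨gen, hgen1⟩ := ParaFLib.exists_stalk_gen hOi ξ
    obtain ⟨r, hr⟩ := hgen1.2 (stalkLin i ξ z)
    dsimp only at hr
    have hmem : ¬ IsUnit r := fun hu => by
      obtain ⟨v, rfl⟩ := hu
      refine hp 1 (LazMuk.subsingleton_stalk_cokernel i ξ fun y => ?_)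
      obtain ⟨c, hc⟩ := hgen1.2 y
      dsimp only at hc
      refine ⟨(c * (↑v⁻¹ : X.presheaf.stalk ξ)) • z, ?_⟩
      rw [map_smul, ← hr, smul_smul, mul_assoc, Units.inv_mul, mul_one, hc]
    rw [stalkLin_comp, LinearMap.comp_apply, ← hr, map_smul]
    revert r gen z
    rw [show ξ = J.subschemeι zC from hzC.symm]
    intro z gen _ r _ hmem
    refine (DCohLib.bijective_pushStalk J.subschemeι (Coh.structureModule J.subscheme) zC).1 ?_
    have hgp : zC = genericPoint J.subscheme := by
      refine (Specializes.antisymm (J.subschemeι.isEmbedding.isInducing.specializes_iff.1 ?_)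
        (genericPoint_specializes zC)).eq
      rw [hzC]
      have : J.subschemeι (genericPoint J.subscheme) ∈ closure ({ξ} : Set X) := by
        have h : J.subschemeι (genericPoint J.subscheme) ∈ Set.range J.subschemeι := Set.mem_range_self _
        rwa [Scheme.IdealSheafData.range_subschemeι, Scheme.IdealSheafData.coe_support_vanishingIdeal] at h
      exact specializes_iff_mem_closure.2 this
    have hF : IsField (J.subscheme.presheaf.stalk zC) := hgp ▸ RefOne.isField_gen
    have h0 : J.subschemeι.stalkMap zC r = 0 := by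
      by_contra hne0
      letI := hF.toField
      exact hmem ((isUnit_map_iff (J.subschemeι.stalkMap zC).hom r).1 (isUnit_iff_ne_zero.2 hne0))
    show DCohLib.pushStalk J.subschemeι (Coh.structureModule J.subscheme) zC (r • stalkLin (ClSub.toSubscheme J) _ gen) =
      DCohLib.pushStalk J.subschemeι (Coh.structureModule J.subscheme) zC 0
    rw [DCohLib.pushStalk_smul, h0, zero_smul, map_zero]
  have hφ0 : φ = 0 := by
    have hT := (QCohLib.isCoh_kernel_cokernel φ hIc hQJc).1
    let T := cokernel (kernel.ι φ)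
    have hTc : Coh.IsCoh T := (QCohLib.isCoh_kernel_cokernel (kernel.ι φ) hT hIc).2
    have e : Abelian.factorThruCoimage φ = 0 := by
      refine eq_zero_of_finite_sub k hdim hTT (Abelian.factorThruCoimage φ : T ⟶ ClSub.quotMod J) hTc ?_
      refine dim_le_zero_of_finite hdξ (DevLib.isClosed_support hTc) (fun x hx => ?_) (fun hξ => hξ ?_)
      · have hx' : x ∈ CohB1.support (ClSub.quotMod J) := fun hsub' =>
          hx (haveI := hsub'; ((PullbackMod.mono_iff_stalk (Abelian.factorThruCoimage φ)).1 inferInstance x).subsingleton)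
        have := IntLib.support_quotMod_subset _ hx'
        rwa [Scheme.IdealSheafData.coe_support_vanishingIdeal] at this
      · refine subsingleton_of_forall_eq 0 fun t => ?_
        obtain ⟨z, rfl⟩ := (PullbackMod.epi_iff_stalk (cokernel.π (kernel.ι φ))).1 inferInstance ξ t
        refine (PullbackMod.mono_iff_stalk (Abelian.factorThruCoimage φ)).1 inferInstance ξ ?_
        rw [map_zero, ← LinearMap.comp_apply, ← stalkLin_comp]
        exact (congrArg (fun f => stalkLin f ξ z) (Abelian.coimage.fac φ)).trans (hφξ z)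
    rw [← Abelian.coimage.fac φ, e, Limits.comp_zero]
  let u : I ⟶ ClSub.idealMod J := kernel.lift _ i hφ0
  have hui : u ≫ ClSub.idealModι J = i := kernel.lift_ι _ _ _
  haveI : Mono u := mono_of_mono_fac hui
  have hu : u ≠ 0 := fun h => hi (by rw [← hui, h, Limits.zero_comp])
  obtain ⟨t, ht⟩ := hgen (PicGrp.cls _ hIJ)
  obtain ⟨pI, -, hpI⟩ := ShStabLib.exists_hp k hG hIc (hd I)
  obtain ⟨pJ, -, hpJ⟩ := ShStabLib.exists_hp k hG (CurveLib.isCoh_of_isInvertible hIJ) (hd _)
  obtain ⟨-, hI1⟩ := alpha_invertible k hdim hG hI hpI hpO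
  obtain ⟨-, hJ1⟩ := alpha_invertible k hdim hG hIJ hpJ hpO
  obtain ⟨q, hq0, -, hq1, -, -⟩ := rank_one_sub k hdim hG hgen u hIc hIJ hu hpI hpJ
  rw [hI1, hJ1, hIL, form_of_cls k hdim hG hIJ t ht, ← hδdef] at hq1
  have hge : -1 ≤ t := by
    have h : (-1 : ℚ) * δ ≤ (t : ℚ) * δ := by
      have : (0 : ℚ) ≤ (q : ℚ) := by exact_mod_cast hq0
      push_cast at hq1
      linarith
    exact_mod_cast le_of_mul_le_mul_right h hδ'
  have hgenI : ∀ z : PicLoc.PicSet X, ∃ n : ℤ, z = PicGrp.cls I hI ^ n := fun z => by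
    obtain ⟨n, hn⟩ := hgen z
    exact ⟨-n, by rw [← PicGrp.cls_inv_eq_cls hG.1 hI ⟨θ⟩, inv_zpow', neg_neg, hn]⟩
  have hle : t ≤ -1 := by
    have h := LazMuk.le_pairing_curve k hdim hI hG θ hgenI J hJi hJd
    rw [TwistShriek.pairing_quotMod_cl k hIJ, form_of_cls k hdim hG hIJ t ht, ← hδdef] at h
    have h' : t * δ ≤ (-1) * δ := by linarith
    exact le_of_mul_le_mul_right h' hδ
  obtain rfl : t = -1 := le_antisymm hle hge
  exact (PicGrp.cls_eq_cls_iff hIJ hI).1 (ht.trans hclsI.symm)

variable [IsAlgClosed k]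

omit [PicGrp.Law X] [IsIntegral X] [Smooth (X ↘ Spec (CommRingCat.of k))] in
/-- The degree of the restriction to an integral curve. -/
theorem deg_pullback_curve (J : X.IdealSheafData) [IsIntegral J.subscheme]
    [J.subscheme.Over (Spec (CommRingCat.of k))] [IsProper (J.subscheme ↘ Spec (CommRingCat.of k))]
    (hover : J.subschemeι ≫ (X ↘ Spec (CommRingCat.of k)) = J.subscheme ↘ Spec (CommRingCat.of k))
    (hC : topologicalKrullDim J.subscheme = 1) {N : X.Modules} (hN : PicF.IsInvertible N) :
    pairing k (ClSub.quotMod J) (cl hN) =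
      Curv2.deg k J.subscheme ((Scheme.Modules.pullback J.subschemeι).obj N) 1 := by
  haveI := EulerIneqLib.isNoetherian_proper (X := X) k
  haveI := EulerIneqLib.isNoetherian_proper (X := J.subscheme) k
  obtain ⟨w⟩ := TwistShriek.nonempty_quotMod_ker_iso J.subschemeι
  rw [Scheme.IdealSheafData.ker_subschemeι] at w
  have hOc : Coh.IsCoh (Coh.structureModule J.subscheme) := DevLib.isCoh_structureModule _
  haveI := hOc.1
  have hiN := AmpleLib.isInvertible_pullback J.subschemeι hN
  have e1 := IntLib.euler_push_tensor k (i := J.subschemeι) hover hOc hN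
  have e2 : Curv2.euler k J.subscheme
      (tmod (Coh.structureModule J.subscheme) ((Scheme.Modules.pullback J.subschemeι).obj N)) = _ :=
    CurveLib.euler_tensor_invertible (k := k) hC.le
      (CurveLib.isFinLocFreeOfRank_one ParaFLib.isInvertible_structureModule) hiN
  rw [IntLib.pairing_iso k w, cl_eq_neg_dif, map_neg, IntLib.pairing_dif k _ hN, IntLib.euler_push k J.subschemeι hover,
    e1]
  refine (congrArg (fun z => -(Curv2.euler k J.subscheme (Coh.structureModule J.subscheme) - z)) e2).trans ?_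
  push_cast
  ring

omit [PicGrp.Law X] in
/-- No sections on an integral curve in negative degree. -/
theorem subsingleton_H0_curve (hdim : topologicalKrullDim X = 2) (J : X.IdealSheafData) [IsIntegral J.subscheme]
    (hJd : topologicalKrullDim (J.support : Set X) = 1) (hIJ : PicF.IsInvertible (ClSub.idealMod J))
    {N : X.Modules} (hN : PicF.IsInvertible N) (hpos : 0 < form k (cl hIJ) (cl hN)) {T : X.Modules}
    (e : T ≅ (Scheme.Modules.pushforward J.subschemeι).obj ((Scheme.Modules.pullback J.subschemeι).obj N)) :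
    Subsingleton (Coh.HH X T 0) := by
  haveI := EulerIneqLib.isNoetherian_proper (X := X) k
  letI : J.subscheme.Over (Spec (CommRingCat.of k)) := ⟨J.subschemeι ≫ (X ↘ Spec (CommRingCat.of k))⟩
  haveI : IsProper (J.subscheme ↘ Spec (CommRingCat.of k)) :=
    inferInstanceAs (IsProper (J.subschemeι ≫ (X ↘ Spec (CommRingCat.of k))))
  haveI := EulerIneqLib.isNoetherian_proper (X := J.subscheme) k
  have hC : topologicalKrullDim J.subscheme = 1 := by
    rw [(J.subschemeι.isEmbedding.toHomeomorph.isHomeomorph).topologicalKrullDim_eq,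
      Scheme.IdealSheafData.range_subschemeι]
    exact hJd
  have hiN := AmpleLib.isInvertible_pullback J.subschemeι hN
  have hNc := CurveLib.isCoh_of_isInvertible hiN
  haveI := hNc.1
  have hdeg : Curv2.deg k J.subscheme ((Scheme.Modules.pullback J.subschemeι).obj N) 1 < 0 := by
    rw [← deg_pullback_curve k J rfl hC hN, TwistShriek.pairing_quotMod_cl k hIJ]
    linarith
  haveI : Subsingleton (Coh.HH J.subscheme ((Scheme.Modules.pullback J.subschemeι).obj N) 0) := by
    refine not_nontrivial_iff_subsingleton.1 fun hn => ?_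
    obtain ⟨s, hs⟩ := CurveLib.exists_hom_ne_zero ((Scheme.Modules.pullback J.subschemeι).obj N)
    have := (CurveLib.deg_le_of_ne_zero (k := k) hC.le ParaFLib.isInvertible_structureModule hiN hs).1
    rw [CurveLib.deg_structureModule] at this
    omega
  haveI : Module.Finite k (Coh.HH X T 0) := EulerIneqLib.finite_HH (k := k)
    (ShStabLib.isCoh_of_iso e.symm (DevLib.isCoh_pushforward_closed _ hNc)) 0
  rw [← Module.finrank_eq_zero_iff_of_free k, ShBCLib.finrank_HH_iso (K := k) e 0,
    IntLib.finrank_push k J.subschemeι rfl _ 0, Module.finrank_zero_of_subsingleton]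

/-- `H¹` of the negative powers of the polarisation. -/
theorem subsingleton_H1_negPow (hdim : topologicalKrullDim X = 2) {G : X.Modules} (hG : CohB1.IsAmple G)
    (hK : ExtPow.IsExtPow 2 (Omega.sheaf (X ↘ Spec (CommRingCat.of k))) (Coh.structureModule X))
    (hq : Module.finrank k (Coh.HH X (Coh.structureModule X) 1) = 0)
    (hgen : ∀ c : PicLoc.PicSet X, ∃ n : ℤ, c = PicGrp.cls G hG.1 ^ n) (m : ℕ) :
    ∀ {M : X.Modules} (hM : PicF.IsInvertible M), PicGrp.cls M hM = PicGrp.cls G hG.1 ^ (-(m : ℤ)) →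
      Subsingleton (Coh.HH X M 1) := by
  haveI := EulerIneqLib.isNoetherian_proper (X := X) k
  haveI hO1 : Subsingleton (Coh.HH X (Coh.structureModule X) 1) := by
    haveI := EulerIneqLib.finite_HH (k := k) (DevLib.isCoh_structureModule X) 1
    exact (Module.finrank_eq_zero_iff_of_free k _).1 hq
  obtain ⟨I, hI, ⟨θ⟩⟩ := AmpleEmb.exists_isInverseOf hG.1
  obtain ⟨J, hJi, hJd, ⟨eJ⟩⟩ := exists_curve k hdim hG hK hq hgen hI θ
  haveI := hJi
  let C := J.subscheme
  letI : C.Over (Spec (CommRingCat.of k)) := ⟨J.subschemeι ≫ (X ↘ Spec (CommRingCat.of k))⟩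
  haveI : IsProper (C ↘ Spec (CommRingCat.of k)) :=
    inferInstanceAs (IsProper (J.subschemeι ≫ (X ↘ Spec (CommRingCat.of k))))
  haveI := EulerIneqLib.isNoetherian_proper (X := C) k
  have hC : topologicalKrullDim C = 1 := by
    rw [(J.subschemeι.isEmbedding.toHomeomorph.isHomeomorph).topologicalKrullDim_eq,
      Scheme.IdealSheafData.range_subschemeι]
    exact hJd
  have hIJ := TwistShriek.invertible_curve k hdim J hJi hJd
  haveI hI0 : Subsingleton (Coh.HH X (ClSub.idealMod J) 0) :=
    TwistShriek.subsingleton_H0_ideal k (by exact_mod_cast hdim) hG hIJ hJd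
  induction m with
  | zero =>
    intro M hM h
    obtain ⟨e⟩ := (PicGrp.cls_eq_one_iff hM).1 (by rw [h]; simp)
    haveI := hO1
    exact ProjCoh.subsingleton_of_iso (M := Coh.structureModule X) e.symm 1
  | succ m ih =>
    intro M hM h
    obtain ⟨N, hN, hNc⟩ : ∃ (N : X.Modules) (hN : PicF.IsInvertible N),
        PicGrp.cls N hN = PicGrp.cls G hG.1 ^ (-(m : ℤ)) := by
      refine ⟨CohB1.tensorPow I m, AmpleLib.isInvertible_tensorPow hI m, ?_⟩
      rw [show PicGrp.cls (CohB1.tensorPow I m) (AmpleLib.isInvertible_tensorPow hI m) = PicGrp.cls I hI ^ m from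
        Subtype.ext (PicGrp.cls_pow_val hI m).symm, ← PicGrp.cls_inv_eq_cls hG.1 hI ⟨θ⟩, zpow_neg, zpow_natCast,
        inv_pow]
    obtain ⟨T, hT, t1, ⟨t2⟩, ⟨t3⟩, -⟩ := RatSingLib.exists_seq J.subschemeι hN
    rw [Scheme.IdealSheafData.ker_subschemeι] at t1
    obtain ⟨eM⟩ : Nonempty (M ≅ CohB1.tensorMod (ClSub.idealMod J) N) := by
      have hIN : PicF.IsInvertible (CohB1.tensorMod I N) := AmpleLib.isInvertible_tensor hI hN
      obtain ⟨e⟩ := (PicGrp.cls_eq_cls_iff hM hIN).1 (by
        rw [h, show PicGrp.cls _ hIN = PicGrp.cls I hI * PicGrp.cls N hN from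
          Subtype.ext (PicGrp.cls_mul_cls_val hI hN).symm, hNc, ← PicGrp.cls_inv_eq_cls hG.1 hI ⟨θ⟩,
          ← zpow_neg_one, ← zpow_add, Nat.cast_succ, neg_add_rev])
      exact ⟨e ≪≫ AmpleLib.tIso eJ.symm (Iso.refl N)⟩
    haveI hT2 : Subsingleton (Coh.HH X T.X₂ 1) :=
      haveI := ih hN hNc
      ProjCoh.subsingleton_of_iso (M := N) t2.symm 1
    have hiN := AmpleLib.isInvertible_pullback J.subschemeι hN
    haveI := (CurveLib.isCoh_of_isInvertible hiN).1
    haveI := EulerIneqLib.finite_HH (k := k) (CurveLib.isCoh_of_isInvertible hiN) 0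
    have hsurj : Function.Surjective (CurveLib.hMap (k := k) T.g 0) := by
      haveI hfin3 : Module.Finite k (Coh.HH X T.X₃ 0) := EulerIneqLib.finite_HH (k := k)
        (ShStabLib.isCoh_of_iso t3.symm (DevLib.isCoh_pushforward_closed _ (CurveLib.isCoh_of_isInvertible hiN))) 0
      rcases Nat.eq_zero_or_pos m with rfl | hm
      · obtain ⟨eN⟩ := (PicGrp.cls_eq_one_iff hN).1 (by rw [hNc]; simp)
        haveI : Subsingleton (Coh.HH X T.X₁ 0) := by
          rw [t1]
          exact ProjCoh.subsingleton_of_iso (M := ClSub.idealMod J)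
            (AmpleLib.comm _ _ ≪≫ AmpleLib.tIso eN (Iso.refl _) ≪≫ AmpleLib.unitL _).symm 0
        haveI : Module.Finite k (Coh.HH X T.X₂ 0) :=
          EulerIneqLib.finite_HH (k := k) (ShStabLib.isCoh_of_iso t2.symm (CurveLib.isCoh_of_isInvertible hN)) 0
        refine (LinearMap.injective_iff_surjective_of_finrank_eq_finrank ?_).1 ?_
        · rw [ShBCLib.finrank_HH_iso (K := k) (t2 ≪≫ eN) 0, ShBCLib.finrank_HH_iso (K := k) t3 0,
            CurveLib.finrank_H0_structure, IntLib.finrank_push k J.subschemeι rfl _ 0,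
            ShBCLib.finrank_HH_iso (K := k) ((Scheme.Modules.pullback J.subschemeι).mapIso eN ≪≫
              ProjCoh.pullUnit J.subschemeι) 0, CurveLib.finrank_H0_structure]
        · rw [← LinearMap.ker_eq_bot, ← CurveLib.range_hMap_f hT]
          exact LinearMap.range_eq_bot.2 (LinearMap.ext fun x => by
            rw [Subsingleton.elim (α := Coh.HH X T.X₁ 0) x 0, map_zero, LinearMap.zero_apply])
      · haveI : Subsingleton (Coh.HH X T.X₃ 0) := by
          refine subsingleton_H0_curve k hdim J hJd hIJ hN ?_ t3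
          rw [cl_congr hIJ hI eJ, TwistShriek.form_inverse k hdim hI hG.1 (AmpleLib.comm I G ≪≫ θ) (cl_mem hN),
            form_comm, form_of_cls k hdim hG hN _ hNc]
          have := form_ample_pos k (by exact_mod_cast hdim) hG
          have hm' : (1 : ℤ) ≤ m := by exact_mod_cast hm
          nlinarith
        exact fun y => ⟨0, Subsingleton.elim _ _⟩
    have h1 : Subsingleton (Coh.HH X T.X₁ 1) := subsingleton_of_forall_eq 0 fun y => by
      obtain ⟨z, rfl⟩ := (CurveLib.range_hδ (k := k) hT 0).ge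
        (LinearMap.mem_ker.2 (hT2.elim (CurveLib.hMap (k := k) T.f (0 + 1) y) 0))
      obtain ⟨w, rfl⟩ := hsurj z
      exact LinearMap.mem_ker.1 ((CurveLib.range_hMap_g (k := k) hT 0).le ⟨w, rfl⟩)
    rw [t1] at h1
    haveI := h1
    exact ProjCoh.subsingleton_of_iso (M := CohB1.tensorMod (ClSub.idealMod J) N) eM.symm 1

/-- `H¹` of every invertible module vanishes. -/
theorem subsingleton_H1_invertible (hdim : topologicalKrullDim X = 2) {G : X.Modules} (hG : CohB1.IsAmple G)
    (hK : ExtPow.IsExtPow 2 (Omega.sheaf (X ↘ Spec (CommRingCat.of k))) (Coh.structureModule X))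
    (hq : Module.finrank k (Coh.HH X (Coh.structureModule X) 1) = 0)
    (hgen : ∀ c : PicLoc.PicSet X, ∃ n : ℤ, c = PicGrp.cls G hG.1 ^ n) {M : X.Modules} (hM : PicF.IsInvertible M) :
    Subsingleton (Coh.HH X M 1) := by
  haveI := EulerIneqLib.isNoetherian_proper (X := X) k
  obtain ⟨n, hn⟩ := hgen (PicGrp.cls M hM)
  obtain ⟨m, rfl | rfl⟩ := Int.eq_nat_or_neg n
  · obtain ⟨M', hM', ⟨θ⟩⟩ := AmpleEmb.exists_isInverseOf hM
    have h := subsingleton_H1_negPow k hdim hG hK hq hgen m hM' (by
      rw [← PicGrp.cls_inv_eq_cls hM hM' ⟨θ⟩, hn, zpow_neg])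
    obtain ⟨-, -, hd⟩ := TwistShriek.canonical_data_proper k hdim hK
    have e := hd M M' hM ⟨θ⟩ 1 (by omega)
    haveI := h
    rw [ShBCLib.finrank_HH_iso (K := k) (AmpleLib.unitL M') 1, Module.finrank_zero_of_subsingleton] at e
    haveI := EulerIneqLib.finite_HH (k := k) (CurveLib.isCoh_of_isInvertible hM) 1
    exact (Module.finrank_eq_zero_iff_of_free k _).1 e.symm
  · exact subsingleton_H1_negPow k hdim hG hK hq hgen m hM hn

end Groth.Agent.ExtStab
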