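import Groth.Agent.ExtStabLib.Stable
import Groth.Agent.S16491
import Groth.Agent.DimFormulaLib.Misc

/-!
# Rank-one modules on a surface whose Picard group is generated by an ample module
-/

set_option autoImplicit false
set_option backward.isDefEq.respectTransparency false
set_option linter.style.haveILetI false
set_option maxHeartbeats 1000000
set_option synthInstance.maxHeartbeats 200000

universe u

open CategoryTheory CategoryTheory.Limits AlgebraicGeometry TopologicalSpace Polynomial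
open Groth.Agent.PullbackMod Groth.Agent.DCohLib Groth.Agent.Nakai StabCat
open Groth.Agent.IntLib (PicRing pairing dif inv')

noncomputable section

namespace Groth.Agent.ExtStab

variable {X : Scheme.{u}}

theorem alpha_eval {P : ℚ[X]} (hP : P.degree < ((3 : ℕ) : WithBot ℕ)) :
    P.eval 1 - P.eval 0 = alpha 1 P + alpha 2 P / 2 := by
  have h3 : ∀ n, 3 ≤ n → P.coeff n = 0 := fun n hn => (degree_lt_iff_coeff_zero P 3).1 hP n hn
  have e : P = C (P.coeff 2) * Polynomial.X ^ 2 + C (P.coeff 1) * Polynomial.X + C (P.coeff 0) := by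
    refine Polynomial.ext fun n => ?_
    match n with
    | 0 => simp
    | 1 => simp
    | 2 => simp
    | n + 3 => simp [h3 (n + 3) (by omega), coeff_X]
  conv_lhs => rw [e]
  simp [alpha, Nat.factorial]
  ring

variable (k : Type u) [Field k] [X.Over (Spec (CommRingCat.of k))] [IsProper (X ↘ Spec (CommRingCat.of k))]

/-- Hilbert polynomials of invertible modules in degrees two and one. -/
theorem alpha_invertible (hdim : topologicalKrullDim X = 2) {L : X.Modules} (hL : CohB1.IsAmple L)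
    {T : X.Modules} (hT : PicF.IsInvertible T) {pT pO : ℚ[X]} (hpT : ShStabLib.HP k L T pT)
    (hpO : ShStabLib.HP k L (Coh.structureModule X) pO) :
    alpha 2 pT = (form k (cl hL.1) (cl hL.1) : ℚ) ∧
      alpha 1 pT = alpha 1 pO + (form k (cl hT) (cl hL.1) : ℚ) := by
  haveI := EulerIneqLib.isNoetherian_proper (X := X) k
  have hd2 : ∀ M : X.Modules, topologicalKrullDim (CohB1.support M) < ((3 : ℕ) : WithBot ℕ∞) := fun M =>
    lt_of_le_of_lt (Topology.IsInducing.subtypeVal.topologicalKrullDim_le.trans hdim.le)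
      (by exact_mod_cast Nat.lt_succ_self 2)
  have h2 : ∀ {M : X.Modules} {p : ℚ[X]}, Coh.IsCoh M → ShStabLib.HP k L M p →
      alpha 2 p = (pairing k M (cl hL.1 ^ 2) : ℚ) ∧
        alpha 1 p + alpha 2 p / 2 = (pairing k M (cl hL.1) : ℚ) := fun {M p} hM hp => by
    have hdeg := ShStabLib.degree_lt k hL hM (d := 2) (hd2 M) hp
    refine ⟨(pairing_cl_pow_eq_coeff k hM hL.1 (ShStabLib.le_of_lt_natCast_add_one _ 2 (hd2 M)) p hdeg hp).symm, ?_⟩
    have e1 : ShStab.twist X L M 1 ≅ CohB1.tensorMod M L :=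
      AmpleLib.tIso (Iso.refl M) (AmpleLib.unitL L)
    have e0 : ShStab.twist X L M 0 ≅ M := AmpleLib.comm M (Coh.structureModule X) ≪≫ AmpleLib.unitL M
    rw [← alpha_eval hdeg, show (1 : ℚ) = ((1 : ℕ) : ℚ) by norm_num, show (0 : ℚ) = ((0 : ℕ) : ℚ) by norm_num, ← hp 1,
      ← hp 0, CurveLib.euler_iso (K := k) e1, CurveLib.euler_iso (K := k) e0, cl_eq_neg_dif, map_neg,
      IntLib.pairing_dif k M hL.1]
    push_cast
    ring
  have hmul : ∀ z : PicRing X, pairing k T z = pairing k (Coh.structureModule X) z +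
      pairing k (Coh.structureModule X) (cl hT * z) := fun z => by
    rw [← map_add, cl, sub_mul, one_mul, add_sub_cancel, IntLib.pairing_of_mul,
      IntLib.pairing_iso k (AmpleLib.unitL T)]
  obtain ⟨hT2, hT1⟩ := h2 (CurveLib.isCoh_of_isInvertible hT) hpT
  obtain ⟨hO2, hO1⟩ := h2 (DevLib.isCoh_structureModule X) hpO
  have hkill : pairing k (Coh.structureModule X) (cl hT * cl hL.1 ^ 2) = 0 :=
    pairing_mem_eq_zero k (n := 3) (by
      rw [pow_succ' (Aug X) 2]
      exact Ideal.mul_mem_mul (cl_mem hT) (Ideal.pow_mem_pow (cl_mem hL.1) 2))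
      (DevLib.isCoh_structureModule X) (hd2 _)
  have hδ : pairing k (Coh.structureModule X) (cl hL.1 ^ 2) = form k (cl hL.1) (cl hL.1) := by rw [form, pow_two]
  rw [hmul, hkill, add_zero, hδ] at hT2
  rw [hδ] at hO2
  rw [hmul] at hT1
  refine ⟨hT2, ?_⟩
  rw [form]
  push_cast at hT1 ⊢
  linarith [hT1, hO1, hT2, hO2]

variable [PicGrp.Law X]

/-- The degree of an invertible module of class a power of the polarisation. -/
theorem form_of_cls (hdim : topologicalKrullDim X = 2) {L T : X.Modules} (hL : CohB1.IsAmple L)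
    (hT : PicF.IsInvertible T) (t : ℤ) (h : PicGrp.cls T hT = PicGrp.cls L hL.1 ^ t) :
    form k (cl hT) (cl hL.1) = t * form k (cl hL.1) (cl hL.1) := by
  haveI := EulerIneqLib.isNoetherian_proper (X := X) k
  obtain ⟨I, hI, ⟨θ⟩⟩ := AmpleEmb.exists_isInverseOf hL.1
  have hIL : form k (cl hI) (cl hL.1) = -form k (cl hL.1) (cl hL.1) := by
    rw [TwistShriek.form_inverse k hdim hI hL.1 (AmpleLib.comm I L ≪≫ θ) (cl_mem hL.1)]
  have hpow : ∀ {M : X.Modules} (hM : PicF.IsInvertible M) (n : ℕ),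
      form k (cl (AmpleLib.isInvertible_tensorPow hM n)) (cl hL.1) = n * form k (cl hM) (cl hL.1) := fun hM n => by
    have h := form_congr k hdim (u := cl (AmpleLib.isInvertible_tensorPow hM n)) (w := ((n : ℤ) • cl hM))
      (by rw [zsmul_eq_mul, Int.cast_natCast]; exact cl_tensorPow_sub_mem hM n) (cl_mem hL.1)
    rw [h, form_smul_left]
  obtain ⟨m, rfl | rfl⟩ := Int.eq_nat_or_neg t
  · have e : PicGrp.cls T hT = PicGrp.cls _ (AmpleLib.isInvertible_tensorPow hL.1 m) := by
      rw [h, zpow_natCast]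
      exact Subtype.ext (PicGrp.cls_pow_val hL.1 m)
    obtain ⟨a⟩ := (PicGrp.cls_eq_cls_iff _ _).1 e
    rw [cl_congr hT (AmpleLib.isInvertible_tensorPow hL.1 m) a, hpow hL.1 m]
  · have e : PicGrp.cls T hT = PicGrp.cls _ (AmpleLib.isInvertible_tensorPow hI m) := by
      rw [h, zpow_neg, zpow_natCast, ← inv_pow, PicGrp.cls_inv_eq_cls hL.1 hI ⟨θ⟩]
      exact Subtype.ext (PicGrp.cls_pow_val hI m)
    obtain ⟨a⟩ := (PicGrp.cls_eq_cls_iff _ _).1 e
    rw [cl_congr hT (AmpleLib.isInvertible_tensorPow hI m) a, hpow hI m, hIL]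
    ring

variable [IsIntegral X] [Smooth (X ↘ Spec (CommRingCat.of k))]

/-- Nonzero submodules of invertible modules: the multiplicity, and the degree of the quotient. -/
theorem rank_one_sub (hdim : topologicalKrullDim X = 2) {L : X.Modules} (hL : CohB1.IsAmple L)
    (hgen : ∀ c : PicLoc.PicSet X, ∃ n : ℤ, c = PicGrp.cls L hL.1 ^ n)
    {M T : X.Modules} (f : M ⟶ T) [Mono f] (hM : Coh.IsCoh M) (hT : PicF.IsInvertible T) (hf : f ≠ 0)
    {pM pT : ℚ[X]} (hpM : ShStabLib.HP k L M pM) (hpT : ShStabLib.HP k L T pT) :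
    ∃ q : ℤ, 0 ≤ q ∧ alpha 2 pM = alpha 2 pT ∧ alpha 1 pM = alpha 1 pT - (q : ℚ) ∧
      (q < form k (cl hL.1) (cl hL.1) → topologicalKrullDim (CohB1.support (cokernel f)) ≤ 0) ∧
      (topologicalKrullDim (CohB1.support (cokernel f)) ≤ 0 → q = 0) := by
  haveI := EulerIneqLib.isNoetherian_proper (X := X) k
  obtain ⟨pR, hpR, hs, hRc, -⟩ := ShStabLib.exists_hp_coker k hL f hM (CurveLib.isCoh_of_isInvertible hT)
    (lt_of_le_of_lt (Topology.IsInducing.subtypeVal.topologicalKrullDim_le.trans hdim.le)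
      (by exact_mod_cast Nat.lt_succ_self 2) : ShStabLib.DimLE 2 T) hpM hpT
  have hd : ShStabLib.DimLE 1 (cokernel f) := dimLE_one_of_notMem hdim (DevLib.isClosed_support hRc)
    fun h => h (LazMuk.subsingleton_stalk_cokernel f _ (surjective_generic_of_invertible hT f hf))
  obtain ⟨h2, h1⟩ := LazMuk.alpha_of_dimLE_one k hL hRc hd hpR
  obtain ⟨I, hI, ⟨θ⟩⟩ := AmpleEmb.exists_isInverseOf hL.1
  have hgenI : ∀ z : PicLoc.PicSet X, ∃ n : ℤ, z = PicGrp.cls I hI ^ n := fun z => by
    obtain ⟨n, hn⟩ := hgen z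
    exact ⟨-n, by rw [← PicGrp.cls_inv_eq_cls hL.1 hI ⟨θ⟩, inv_zpow', neg_neg, hn]⟩
  refine ⟨pairing k (cokernel f) (cl hL.1), ?_, ?_, ?_, fun hq => ?_, fun h0 => ?_⟩
  · have := ShStabLib.alpha_nonneg k hL hRc hd hpR
    rw [h1] at this
    exact_mod_cast this
  · rw [hs, ShStabLib.alpha_add, h2, add_zero]
  · rw [hs, ShStabLib.alpha_add, h1, add_sub_cancel_right]
  · by_contra hne
    have hnlt : ¬ topologicalKrullDim (CohB1.support (cokernel f)) < ((1 : ℕ) : WithBot ℕ∞) := fun hlt => hne (by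
      have := ShStabLib.le_of_lt_natCast_add_one _ 0 (by exact_mod_cast hlt)
      exact_mod_cast this)
    exact not_le.2 hq (LazMuk.le_pairing_of_curves k hL _
      (fun J hJi hJd => LazMuk.le_pairing_curve k hdim hI hL θ hgenI J hJi hJd) hRc
      (ShStabLib.le_of_lt_natCast_add_one _ 1 hd) hnlt)
  · have h10 := ShStabLib.alpha_eq_zero k hL hRc (d := 1) (lt_of_le_of_lt h0 (by exact_mod_cast Nat.one_pos)) hpR
    rw [h1] at h10
    exact_mod_cast h10

omit [PicGrp.Law X] in
include k in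
/-- The double dual of a torsion-free module of rank one: an invertible module, equal to it off finitely
many closed points. -/
theorem exists_ddual_invertible (hdim : topologicalKrullDim X = 2) {N : X.Modules} (hN : Coh.IsCoh N)
    (hNtf : TorSh.IsTorsionFree N) {t : N.presheaf.stalk (genericPoint X)}
    (ht : Function.Bijective fun r : X.presheaf.stalk (genericPoint X) => r • t) :
    ∃ (T : X.Modules) (ι : N ⟶ T), PicF.IsInvertible T ∧ Mono ι ∧
      topologicalKrullDim (CohB1.support (cokernel ι)) ≤ 0 := by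
  haveI := EulerIneqLib.isNoetherian_proper (X := X) k
  have hreg := fun x => ASp.isRegularLocalRing_stalk_of_smooth_field (X ↘ Spec (CommRingCat.of k)) x
  have hX := NormalRefLib.normal_of_regular (X := X) hreg
  have hdc : Coh.IsCoh (RefHull.ddual N) := RefOne.isCoh_dual (RefOne.isCoh_dual hN)
  let η := genericPoint X
  haveI := hN.1
  have hlow : ∀ y : X, ¬ (2 : WithBot ℕ∞) ≤ ringKrullDim (X.presheaf.stalk y) →
      Function.Bijective (stalkLin (RefHull.bidualMap N) y) := fun y hy =>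
    (RefOne.bijective_bidual_stalk_iff hN y).2 (NormalRefLib.isReflexiveAt_of_low hX hN hNtf hy)
  have hηlow : ¬ (2 : WithBot ℕ∞) ≤ ringKrullDim (X.presheaf.stalk η) := by
    rw [ringKrullDim_eq_zero_of_isField RefOne.isField_gen]
    decide
  have hT : PicF.IsInvertible (RefHull.ddual N) := by
    refine S16491.result X hreg _ hdc (RefOne.isReflexive_dual (RefOne.isCoh_dual hN))
      (RefOne.genInvertible_of_gen hdc (e := stalkLin (RefHull.bidualMap N) η t) ?_)
    have : (fun r : X.presheaf.stalk η => r • stalkLin (RefHull.bidualMap N) η t) =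
        stalkLin (RefHull.bidualMap N) η ∘ fun r => r • t := funext fun r => (map_smul _ r t).symm
    rw [this]
    exact (hlow η hηlow).comp ht
  refine ⟨_, RefHull.bidualMap N, hT, (PullbackMod.mono_iff_stalk _).2 fun x =>
    NormalRefLib.stalk_bidual_injective hN hNtf x, ?_⟩
  have hQc := (QCohLib.isCoh_kernel_cokernel (RefHull.bidualMap N) hN hdc).2
  have hcl := DevLib.isClosed_support hQc
  have hpts : ∀ y ∈ CohB1.support (cokernel (RefHull.bidualMap N)), IsClosed ({y} : Set X) := fun y hy => by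
    by_contra hnc
    obtain ⟨x', hx', hx'c⟩ := (isClosed_closure (s := ({y} : Set X))).exists_closed_singleton ⟨y, subset_closure rfl⟩
    have hs : y ⤳ x' := specializes_iff_mem_closure.2 hx'
    have hne : y ≠ x' := fun h => hnc (h ▸ hx'c)
    have hlt := DimFormulaLib.stalk_dim_lt (X ↘ Spec (CommRingCat.of k)) hs hne
    rw [TwistShriek.dim_closed_point_integral (n := 2) (X ↘ Spec (CommRingCat.of k)) (by exact_mod_cast hdim) x' hx'c] at hlt
    exact hy (LazMuk.subsingleton_stalk_cokernel _ y (hlow y fun h => not_le.2 hlt (le_trans (le_of_eq Nat.cast_ofNat) h)).2)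
  refine not_lt.1 fun hlt => ?_
  have h1 : ¬ topologicalKrullDim (CohB1.support (cokernel (RefHull.bidualMap N))) < ((1 : ℕ) : WithBot ℕ∞) := fun h => by
    have := ShStabLib.le_of_lt_natCast_add_one _ 0 (by exact_mod_cast h)
    exact not_lt.2 this (by exact_mod_cast hlt)
  obtain ⟨p, hp, hp'⟩ := (HilbLib.not_dim_lt_iff hcl 1).1 h1
  obtain ⟨hs, hne⟩ := hp' 0 1 (by decide)
  exact hne.symm ((hpts _ (hp 1)).closure_eq ▸ specializes_iff_mem_closure.1 hs : p 0 ∈ ({p 1} : Set X)).symm

end Groth.Agent.ExtStab
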