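import Groth.Agent.ExtStabLib.IdealPair
import Groth.Agent.ExtStabLib.RankOne
import Groth.Agent.DimFormulaLib.Misc
import Groth.Agent.VBLib.RatPointSub
import Groth.Agent.Boot.Helpers
import Groth.Agent.DegPolyLib.Top

/-!
# Invertible modules on varieties of Picard group the integers
-/

set_option autoImplicit false
set_option backward.isDefEq.respectTransparency false
set_option linter.style.haveILetI false
set_option maxHeartbeats 1000000
set_option synthInstance.maxHeartbeats 200000

universe u

open CategoryTheory CategoryTheory.Limits AlgebraicGeometry TopologicalSpace Polynomial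
open Groth.Agent.PullbackMod Groth.Agent.DCohLib StabCat

noncomputable section

namespace Groth.Agent.ExtStab

section Poly

/-- A translate of a polynomial agreeing with it in the top two degrees: the difference. -/
theorem coeff_taylor_sub {R : ℚ[X]} {n : ℕ} (hn : R.natDegree ≤ n + 1) (a : ℚ) :
    (taylor a R - R).coeff n = (n + 1) * a * R.coeff (n + 1) := by
  have hd : (hasseDeriv n R).natDegree < 2 := by
    have := natDegree_hasseDeriv_le R n
    omega
  rw [coeff_sub, taylor_coeff, eval_eq_sum_range' hd, Finset.sum_range_succ, Finset.sum_range_one,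
    hasseDeriv_coeff, hasseDeriv_coeff]
  simp [add_comm 1 n, Nat.choose_succ_self_right]
  ring

theorem natDegree_taylor_sub_eq {R : ℚ[X]} (a : ℚ) (b : ℕ) (hb : 0 < b) :
    (R.comp (C a + C (b : ℚ) * X) - R.comp (C (b : ℚ) * X)).natDegree = (taylor a R - R).natDegree := by
  have h : R.comp (C a + C (b : ℚ) * X) - R.comp (C (b : ℚ) * X) = (taylor a R - R).comp (C (b : ℚ) * X) := by
    rw [sub_comp, taylor_apply, comp_assoc, add_comp, X_comp, C_comp, add_comm (C a)]
  rw [h, natDegree_comp, natDegree_C_mul_X _ (Nat.cast_ne_zero.2 hb.ne'), mul_one]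

end Poly

section Hull

variable (k : Type u) [Field k] {X : Scheme.{u}} [X.Over (Spec (CommRingCat.of k))] [IsIntegral X]
  [IsProper (X ↘ Spec (CommRingCat.of k))] [Smooth (X ↘ Spec (CommRingCat.of k))]

include k in
/-- The reflexive hull of a torsion-free module of rank one. -/
theorem exists_hull_invertible {N : X.Modules} (hN : Coh.IsCoh N) (hNtf : TorSh.IsTorsionFree N)
    (hr : Module.finrank (X.presheaf.stalk (genericPoint X)) (N.presheaf.stalk (genericPoint X)) = 1) :
    ∃ (T : X.Modules) (ι : N ⟶ T), PicF.IsInvertible T ∧ Mono ι ∧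
      ∀ y : X, ¬ (2 : WithBot ℕ∞) ≤ ringKrullDim (X.presheaf.stalk y) → Function.Bijective (stalkLin ι y) := by
  haveI := EulerIneqLib.isNoetherian_proper (X := X) k
  have hreg := fun x => ASp.isRegularLocalRing_stalk_of_smooth_field (X ↘ Spec (CommRingCat.of k)) x
  have hX := NormalRefLib.normal_of_regular (X := X) hreg
  have hdc : Coh.IsCoh (RefHull.ddual N) := RefOne.isCoh_dual (RefOne.isCoh_dual hN)
  let η := genericPoint X
  haveI := hN.1
  obtain ⟨t, ht0, ht⟩ := finrank_eq_one_iff'.1 hr
  have htb : Function.Bijective fun r : X.presheaf.stalk η => r • t := by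
    letI : Field (X.presheaf.stalk η) := RefOne.isField_gen.toField
    refine ⟨fun r r' h => sub_eq_zero.1 ((smul_eq_zero.1 (?_ : (r - r') • t = 0)).resolve_right ht0),
      fun w => ht w⟩
    rw [sub_smul, sub_eq_zero]
    exact h
  have hlow : ∀ y : X, ¬ (2 : WithBot ℕ∞) ≤ ringKrullDim (X.presheaf.stalk y) →
      Function.Bijective (stalkLin (RefHull.bidualMap N) y) := fun y hy =>
    (RefOne.bijective_bidual_stalk_iff hN y).2 (NormalRefLib.isReflexiveAt_of_low hX hN hNtf hy)
  have hηlow : ¬ (2 : WithBot ℕ∞) ≤ ringKrullDim (X.presheaf.stalk η) := by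
    rw [ringKrullDim_eq_zero_of_isField RefOne.isField_gen]
    decide
  have hT : PicF.IsInvertible (RefHull.ddual N) := by
    refine S16491.result X hreg _ hdc (RefOne.isReflexive_dual (RefOne.isCoh_dual hN))
      (RefOne.genInvertible_of_gen hdc (e := stalkLin (RefHull.bidualMap N) η t) ?_)
    have : (fun r : X.presheaf.stalk η => r • stalkLin (RefHull.bidualMap N) η t) =
        stalkLin (RefHull.bidualMap N) η ∘ fun r => r • t := funext fun r => (map_smul _ r t).symm
    rw [this]
    exact (hlow η hηlow).comp htb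
  exact ⟨_, RefHull.bidualMap N, hT, (PullbackMod.mono_iff_stalk _).2 fun x =>
    NormalRefLib.stalk_bidual_injective hN hNtf x, hlow⟩

include k in
/-- A closed set of points of codimension at least two. -/
theorem dim_lt_of_codim_two {A : Set X} (hA : IsClosed A) {n : ℕ} (hn : topologicalKrullDim X ≤ (n + 1 : ℕ))
    (h : ∀ y ∈ A, (2 : WithBot ℕ∞) ≤ ringKrullDim (X.presheaf.stalk y)) :
    topologicalKrullDim A < (n : WithBot ℕ∞) := by
  by_contra hlt
  obtain ⟨p, hp, hp'⟩ := (HilbLib.not_dim_lt_iff hA n).1 hlt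
  have key : ∀ i : ℕ, ∀ hi : i ≤ n,
      ((2 + i : ℕ) : WithBot ℕ∞) ≤ ringKrullDim (X.presheaf.stalk (p ⟨n - i, by omega⟩)) := by
    intro i
    induction i with
    | zero => exact fun _ => h _ (hp _)
    | succ i ih =>
      intro hi
      obtain ⟨hs, hne⟩ := hp' ⟨n - (i + 1), by omega⟩ ⟨n - i, by omega⟩
        (by simp only [Fin.mk_lt_mk]; omega)
      have hl := lt_of_le_of_lt (ih (by omega))
        (DimFormulaLib.stalk_dim_lt (X ↘ Spec (CommRingCat.of k)) hs hne.symm)
      rw [← not_lt]
      intro hc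
      have h1 := ShStabLib.le_of_lt_natCast_add_one _ (2 + i) (by
        rw [show 2 + i + 1 = 2 + (i + 1) by omega]; exact_mod_cast hc)
      exact not_lt.2 (le_trans h1 (by exact_mod_cast le_rfl)) hl
  have h2 := (key n le_rfl).trans
    ((FibreComp.ringKrullDim_stalk_le_topologicalKrullDim _).trans hn)
  have : 2 + n ≤ n + 1 := by exact_mod_cast h2
  omega

end Hull

section Model

variable (k : Type u) [Field k] {X : Scheme.{u}} [X.Over (Spec (CommRingCat.of k))]
  [IsProper (X ↘ Spec (CommRingCat.of k))] [IsIntegral X] [PicGrp.Law X]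

/-- The integer attached to an invertible module. -/
def picInt (e : PicLoc.PicSet X ≃* Multiplicative ℤ) {T : X.Modules} (hT : PicF.IsInvertible T) : ℤ :=
  Multiplicative.toAdd (e (PicGrp.cls T hT))

omit [IsIntegral X] in
theorem picInt_tensor (e : PicLoc.PicSet X ≃* Multiplicative ℤ) {T S : X.Modules} (hT : PicF.IsInvertible T)
    (hS : PicF.IsInvertible S) :
    picInt e (AmpleLib.isInvertible_tensor hT hS) = picInt e hT + picInt e hS := by
  have h : PicGrp.cls (CohB1.tensorMod T S) (AmpleLib.isInvertible_tensor hT hS) =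
      PicGrp.cls T hT * PicGrp.cls S hS := Subtype.ext (PicGrp.cls_mul_cls_val hT hS).symm
  rw [picInt, h, map_mul]
  rfl

omit [IsIntegral X] in
theorem picInt_pow (e : PicLoc.PicSet X ≃* Multiplicative ℤ) {T : X.Modules} (hT : PicF.IsInvertible T) (m : ℕ) :
    picInt e (AmpleLib.isInvertible_tensorPow hT m) = m * picInt e hT := by
  have h : PicGrp.cls (CohB1.tensorPow T m) (AmpleLib.isInvertible_tensorPow hT m) =
      PicGrp.cls T hT ^ m := Subtype.ext (PicGrp.cls_pow_val hT m).symm
  rw [picInt, h, map_pow, toAdd_pow, nsmul_eq_mul]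
  rfl

omit [IsIntegral X] in
theorem picInt_structure (e : PicLoc.PicSet X ≃* Multiplicative ℤ) :
    picInt e (PicLoc.isInvertible_structureModule X) = 0 := by
  rw [picInt, PicGrp.cls_structureModule_eq_one, map_one]
  rfl

omit [IsIntegral X] in
theorem picInt_inj (e : PicLoc.PicSet X ≃* Multiplicative ℤ) {T S : X.Modules} (hT : PicF.IsInvertible T)
    (hS : PicF.IsInvertible S) (h : picInt e hT = picInt e hS) : Nonempty (T ≅ S) :=
  (PicGrp.cls_eq_cls_iff hT hS).1 (e.injective (Multiplicative.toAdd.injective h))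

/-- The Hilbert polynomials of all invertible modules, when the Picard group is the integers. -/
theorem exists_picModel {n : ℕ} (hn : topologicalKrullDim X = ((n + 1 : ℕ) : WithBot ℕ∞)) {L : X.Modules}
    (hL : CohB1.IsAmple L) (e₀ : PicLoc.PicSet X ≃* Multiplicative ℤ) :
    ∃ (e : PicLoc.PicSet X ≃* Multiplicative ℤ) (b : ℕ) (R : ℚ[X]), 0 < b ∧ R.natDegree ≤ n + 1 ∧
      0 < R.coeff (n + 1) ∧ ∀ (T : X.Modules) (hT : PicF.IsInvertible T) (P : ℚ[X]), ShStabLib.HP k L T P →
        P = R.comp (C ((picInt e hT : ℤ) : ℚ) + C (b : ℚ) * Polynomial.X) := by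
  haveI := EulerIneqLib.isNoetherian_proper (X := X) k
  have hOc : Coh.IsCoh (Coh.structureModule X) := DevLib.isCoh_structureModule X
  have hsupp : topologicalKrullDim (CohB1.support (Coh.structureModule X)) = ((n + 1 : ℕ) : WithBot ℕ∞) := by
    rw [DegPolyLib.support_structureModule]
    exact ((Homeomorph.Set.univ (X := X)).isHomeomorph.topologicalKrullDim_eq _).trans hn
  have hd : ShStabLib.DimLE (n + 1) (Coh.structureModule X) :=
    lt_of_le_of_lt hsupp.le (by exact_mod_cast Nat.lt_succ_self (n + 1))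
  obtain ⟨g, hg⟩ := e₀.surjective (Multiplicative.ofAdd (1 : ℤ))
  -- the polarisation is not the trivial class
  have hb0 : picInt e₀ hL.1 ≠ 0 := by
    intro h
    obtain ⟨P, hPd, hP⟩ := ShStabLib.exists_hp k hL hOc hd
    obtain ⟨w⟩ := picInt_inj e₀ hL.1 (PicLoc.isInvertible_structureModule X) (h.trans (picInt_structure e₀).symm)
    have hconst : ∀ m : ℕ, P.eval (m : ℚ) = P.eval 0 := fun m => by
      rw [← hP m, ← Nat.cast_zero, ← hP 0]
      obtain ⟨v⟩ := picInt_inj e₀ (AmpleLib.isInvertible_tensorPow hL.1 m) (AmpleLib.isInvertible_tensorPow hL.1 0)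
        (by rw [picInt_pow e₀ hL.1, picInt_pow e₀ hL.1, h, mul_zero, mul_zero])
      exact congrArg (fun z : ℤ => (z : ℚ))
        (CurveLib.euler_iso (K := k) (AmpleLib.tIso (Iso.refl _) v))
    have hPC : P = C (P.eval 0) := HilbLib.poly_eq_of_nat fun m => by rw [eval_C]; exact hconst m
    have hpos := ShStabLib.alpha_pos k hL hOc hd (by rw [hsupp]; exact lt_irrefl _) hP
    rw [hPC, alpha, coeff_C, if_neg (Nat.succ_ne_zero n), mul_zero] at hpos
    exact lt_irrefl _ hpos
  let e : PicLoc.PicSet X ≃* Multiplicative ℤ :=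
    if 0 < picInt e₀ hL.1 then e₀ else e₀.trans (MulEquiv.inv (Multiplicative ℤ))
  have heL : 0 < picInt e hL.1 := by
    by_cases h : 0 < picInt e₀ hL.1
    · simp only [e, if_pos h]
      exact h
    · simp only [e, if_neg h]
      show 0 < -picInt e₀ hL.1
      omega
  obtain ⟨c, hc⟩ := e.surjective (Multiplicative.ofAdd (1 : ℤ))
  obtain ⟨M, hM, rfl⟩ := PicGrp.exists_eq_cls c
  have haM : picInt e hM = 1 := by rw [picInt, hc]; rfl
  let b := (picInt e hL.1).toNat
  have hb : (b : ℤ) = picInt e hL.1 := Int.toNat_of_nonneg heL.le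
  have hb' : 0 < b := by omega
  obtain ⟨v⟩ := picInt_inj e hL.1 (AmpleLib.isInvertible_tensorPow hM b) (by rw [picInt_pow e hM, haM, mul_one, hb])
  have hMa : CohB1.IsAmple M := (AmpleLib.isAmple_pow_iff hM hb').1 (AmpleLib.isAmple_of_iso v hL)
  obtain ⟨R, hRd, hR⟩ := ShStabLib.exists_hp k hMa hOc hd
  have hRdeg : R.natDegree ≤ n + 1 := by
    rcases eq_or_ne R 0 with rfl | h0
    · simp
    · rw [degree_eq_natDegree h0] at hRd
      have : R.natDegree < n + 1 + 1 := by exact_mod_cast hRd
      omega
  refine ⟨e, b, R, hb', hRdeg, ?_, fun T hT P hP => ?_⟩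
  · have hpos := ShStabLib.alpha_pos k hMa hOc hd (by rw [hsupp]; exact lt_irrefl _) hR
    exact pos_of_mul_pos_right (show 0 < _ * R.coeff (n + 1) from hpos) (by positivity)
  · refine Polynomial.eq_of_infinite_eval_eq _ _ ?_
    refine Set.Infinite.mono ?_ (Set.infinite_range_of_injective
      (f := fun m : ℕ => ((m + (picInt e hT).natAbs : ℕ) : ℚ)) fun a a' h => by
        have := Nat.cast_injective h
        omega)
    rintro _ ⟨m, rfl⟩
    show P.eval _ = _
    obtain ⟨j, hj⟩ : ∃ j : ℕ, (j : ℤ) = picInt e hT + b * (m + (picInt e hT).natAbs : ℕ) := by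
      refine Int.eq_ofNat_of_zero_le ?_ |>.imp fun _ h => h.symm
      have h1 : ((m + (picInt e hT).natAbs : ℕ) : ℤ) ≤ b * (m + (picInt e hT).natAbs : ℕ) :=
        le_mul_of_one_le_left (by positivity) (by exact_mod_cast hb')
      omega
    obtain ⟨w⟩ := picInt_inj e
      (AmpleLib.isInvertible_tensor hT (AmpleLib.isInvertible_tensorPow hL.1 (m + (picInt e hT).natAbs)))
      (AmpleLib.isInvertible_tensor (PicLoc.isInvertible_structureModule X) (AmpleLib.isInvertible_tensorPow hM j))
      (by
        rw [picInt_tensor e hT (AmpleLib.isInvertible_tensorPow hL.1 _), picInt_tensor e (PicLoc.isInvertible_structureModule X) (AmpleLib.isInvertible_tensorPow hM j), picInt_pow e hL.1, picInt_pow e hM, picInt_structure, haM, ← hb, mul_one, hj]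
        ring)
    have hcast : (C ((picInt e hT : ℤ) : ℚ) + C (b : ℚ) * Polynomial.X).eval ((m + (picInt e hT).natAbs : ℕ) : ℚ) = (j : ℚ) := by
      rw [eval_add, eval_mul, eval_C, eval_C, eval_X]
      generalize m + (picInt e hT).natAbs = q at hj ⊢
      have hj' := congrArg (Int.cast : ℤ → ℚ) hj
      push_cast at hj' ⊢
      linarith
    rw [eval_comp, hcast, ← hP, ← hR]
    exact congrArg (fun z : ℤ => (z : ℚ)) (CurveLib.euler_iso (K := k) w)

end Model

section Embed

variable (k : Type u) [Field k] [IsAlgClosed k] {X : Scheme.{u}} [X.Over (Spec (CommRingCat.of k))]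
  [IsProper (X ↘ Spec (CommRingCat.of k))] [IsIntegral X] [Smooth (X ↘ Spec (CommRingCat.of k))] [PicGrp.Law X]

omit [PicGrp.Law X] in
include k in
/-- On a curve: an invertible sub of the structure sheaf of degree `-1`. -/
theorem exists_point_sub (hdim : topologicalKrullDim X = 1) :
    ∃ (P : X.Modules) (i : P ⟶ Coh.structureModule X), Mono i ∧ PicF.IsInvertible P ∧
      Curv2.deg k X P 1 = -1 := by
  haveI := EulerIneqLib.isNoetherian_proper (X := X) k
  haveI : VBLib.IsRegCurve X := VBLib.isRegCurve_of_smooth (X := X) k hdim.le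
  obtain ⟨s, hs⟩ := Boot.exists_section_of_nonempty (X ↘ Spec (CommRingCat.of k))
  exact VBLib.exists_rat_point_sub k hdim s hs

/-- A torsion-free module of rank one with Hilbert polynomial of an ideal of points embeds in the
structure sheaf. -/
theorem exists_mono_of_pic_int {n : ℕ} (hn : topologicalKrullDim X = (n : WithBot ℕ∞)) {L : X.Modules}
    (hL : CohB1.IsAmple L) (e₀ : PicLoc.PicSet X ≃* Multiplicative ℤ) {G : X.Modules} (hG : Coh.IsCoh G)
    (hGt : TorSh.IsTorsionFree G)
    (hr : Module.finrank (X.presheaf.stalk (genericPoint X)) (G.presheaf.stalk (genericPoint X)) = 1)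
    {ℓ : ℕ} (hℓ : 0 < ℓ) {P : ℚ[X]} (hPO : ShStabLib.HP k L (Coh.structureModule X) P)
    (hPG : ShStabLib.HP k L G (P - C (ℓ : ℚ))) : ∃ s : G ⟶ Coh.structureModule X, Mono s := by
  haveI := EulerIneqLib.isNoetherian_proper (X := X) k
  haveI := hG.1
  obtain ⟨T, ι, hT, hι, hlow⟩ := exists_hull_invertible k hG hGt hr
  haveI := hι
  haveI := (CurveLib.isCoh_of_isInvertible hT).1
  have hTc := CurveLib.isCoh_of_isInvertible hT
  have hOc : Coh.IsCoh (Coh.structureModule X) := DevLib.isCoh_structureModule X
  have hdX : ∀ M : X.Modules, ShStabLib.DimLE n M := fun M => lt_of_le_of_lt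
    (Topology.IsInducing.subtypeVal.topologicalKrullDim_le.trans hn.le) (by exact_mod_cast Nat.lt_succ_self n)
  obtain ⟨PT, -, hPT⟩ := ShStabLib.exists_hp k hL hTc (hdX T)
  obtain ⟨Q, hQ, hQadd, hQc, -⟩ := ShStabLib.exists_hp_coker k hL ι hG hTc (hdX T) hPG hPT
  -- the cokernel lives in codimension two
  have hQsupp : ∀ y ∈ CohB1.support (cokernel ι), (2 : WithBot ℕ∞) ≤ ringKrullDim (X.presheaf.stalk y) :=
    fun y hy => by_contra fun h => hy (LazMuk.subsingleton_stalk_cokernel _ y (hlow y h).2)
  match n, hn with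
  | 0, hn =>
    exfalso
    have hiso : IsIso ι := (isIso_iff_stalk ι).2 fun y => hlow y fun h2 => by
      have h3 := h2.trans ((FibreComp.ringKrullDim_stalk_le_topologicalKrullDim y).trans hn.le)
      have : 2 ≤ 0 := by exact_mod_cast h3
      omega
    have hd0 : ShStabLib.DimLE 0 G := hdX G
    have hGsupp : ¬ topologicalKrullDim (CohB1.support G) < ((0 : ℕ) : WithBot ℕ∞) := fun h => by
      have hmem : genericPoint X ∈ CohB1.support G := fun hsub => by
        haveI : Subsingleton (G.presheaf.stalk (genericPoint X)) := hsub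
        rw [Module.finrank_zero_of_subsingleton] at hr
        omega
      haveI : Nonempty (IrreducibleCloseds ↥(CohB1.support G)) :=
        ⟨⟨closure {(⟨genericPoint X, hmem⟩ : ↥(CohB1.support G))}, isIrreducible_singleton.closure,
          isClosed_closure⟩⟩
      rw [topologicalKrullDim] at h
      exact not_lt.2 (Order.krullDim_nonneg (α := IrreducibleCloseds ↥(CohB1.support G))) (by exact_mod_cast h)
    have hpos := ShStabLib.alpha_pos k hL hG hd0 hGsupp hPG
    have hq := euler_of_hilb k hPO
    have hP0 : P = C (P.coeff 0) := eq_C_of_degree_le_zero (by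
      have h0 := ShStabLib.degree_lt k hL hOc (hdX _) hPO
      rcases eq_or_ne P 0 with rfl | hne
      · simp
      · rw [degree_eq_natDegree hne] at h0 ⊢
        have : P.natDegree < 0 + 1 := by exact_mod_cast h0
        exact_mod_cast (show P.natDegree ≤ 0 by omega))
    rw [hP0, eval_C] at hq
    rw [CurveLib.euler_eq_sum (K := k) _ 1 fun p hp => CurveLib.subsingleton_HH_of_dim (d := 0) _ hn.le hp,
      Finset.sum_range_one, pow_zero, one_mul, CurveLib.finrank_H0_structure] at hq
    rw [alpha, coeff_sub, coeff_C_zero, Nat.factorial_zero, Nat.cast_one, one_mul, ← hq] at hpos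
    have h1 : (1 : ℚ) ≤ ℓ := by exact_mod_cast hℓ
    push_cast at hpos
    linarith
  | m + 1, hn =>
    obtain ⟨e, b, R, hb, hRd, hRpos, hmod⟩ := exists_picModel k hn hL e₀
    have hT' := hmod T hT PT hPT
    have hO' := hmod _ (PicLoc.isInvertible_structureModule X) P hPO
    rw [picInt_structure, Int.cast_zero, C_0, zero_add] at hO'
    have hdiff : R.comp (C ((picInt e hT : ℤ) : ℚ) + C (b : ℚ) * Polynomial.X) - R.comp (C (b : ℚ) * Polynomial.X) = Q - C (ℓ : ℚ) := by
      rw [← hT', ← hO', hQadd]
      ring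
    have hQdim : topologicalKrullDim (CohB1.support (cokernel ι)) < (m : WithBot ℕ∞) :=
      dim_lt_of_codim_two k (DevLib.isClosed_support hQc) hn.le hQsupp
    have hcoef := coeff_taylor_sub hRd ((picInt e hT : ℤ) : ℚ)
    match m, hn, hRd, hRpos, hQdim, hcoef with
    | 0, hn, hRd, hRpos, hQdim, hcoef =>
      haveI : IsIso ι := (isIso_iff_stalk ι).2 fun y => hlow y fun h2 => by
        have h3 := h2.trans ((FibreComp.ringKrullDim_stalk_le_topologicalKrullDim y).trans hn.le)
        have : 2 ≤ 0 + 1 := by exact_mod_cast h3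
        omega
      have hQ0 : Q = 0 := by
        have h := ShStabLib.hp_unique k hPT (ShStabLib.hp_iso k (asIso ι) hPG)
        rw [h] at hQadd
        linear_combination hQadd.symm
      obtain ⟨I, i, hi, hI, hdeg⟩ := exists_point_sub k (X := X) (by exact_mod_cast hn)
      obtain ⟨PI, -, hPI⟩ := ShStabLib.exists_hp k hL (CurveLib.isCoh_of_isInvertible hI) (hdX I)
      have hI' := hmod I hI PI hPI
      have hlin : ∀ a : ℤ, R.eval (a : ℚ) - R.eval 0 = a * R.coeff 1 := fun a => by
        rw [eval_eq_sum_range' (show R.natDegree < 2 by omega), eval_eq_sum_range' (show R.natDegree < 2 by omega),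
          Finset.sum_range_succ, Finset.sum_range_one, Finset.sum_range_succ, Finset.sum_range_one]
        ring
      have haI : ((picInt e hI : ℤ) : ℚ) * R.coeff 1 = -1 := by
        have h1 := euler_of_hilb k hPI
        have h2 := euler_of_hilb k hPO
        rw [hI', eval_comp, eval_add, eval_C, eval_mul, eval_C, eval_X, mul_zero, add_zero] at h1
        rw [hO', eval_comp, eval_mul, eval_C, eval_X, mul_zero] at h2
        rw [← hlin, ← h1, ← h2]
        have h3 : ((Curv2.deg k X I 1 : ℤ) : ℚ) = -1 := by exact_mod_cast hdeg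
        rw [Curv2.deg] at h3
        push_cast at h3 ⊢
        linarith
      have haT : ((picInt e hT : ℤ) : ℚ) * R.coeff 1 = -(ℓ : ℚ) := by
        rw [← hlin]
        have h := congrArg (Polynomial.eval (0 : ℚ)) hdiff
        rw [eval_sub, eval_comp, eval_comp, eval_add, eval_C, eval_mul, eval_C, eval_X, mul_zero, add_zero, hQ0,
          eval_sub, eval_zero, eval_C, zero_sub] at h
        exact h
      have hTI : picInt e hT = ℓ * picInt e hI := by
        have h : ((picInt e hT : ℤ) : ℚ) = (ℓ : ℚ) * (picInt e hI : ℤ) := mul_right_cancel₀ hRpos.ne' (by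
          rw [haT, mul_assoc, haI, mul_neg_one])
        exact_mod_cast h
      -- powers of the point ideal embed into the structure sheaf
      have hpow : ∀ j : ℕ, ∃ (J : X.Modules) (hJ : PicF.IsInvertible J) (f : J ⟶ Coh.structureModule X),
          Mono f ∧ picInt e hJ = j * picInt e hI := by
        intro j
        induction j with
        | zero => exact ⟨_, PicLoc.isInvertible_structureModule X, 𝟙 _, inferInstance, by
            rw [picInt_structure, Nat.cast_zero, zero_mul]⟩
        | succ j ih =>
          obtain ⟨J, hJ, f, hf, hfa⟩ := ih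
          obtain ⟨I', hI', ⟨θ⟩⟩ := AmpleEmb.exists_isInverseOf hI
          haveI := VBLib.isEquivalence_tensR θ
          haveI := hf
          haveI := hi
          let u : (CurveLib.tensR I).obj (Coh.structureModule X) ≅ I := AmpleLib.unitL I
          refine ⟨_, AmpleLib.isInvertible_tensor hJ hI, (CurveLib.tensR I).map f ≫ u.hom ≫ i, ?_, ?_⟩
          · exact mono_comp _ _
          · rw [picInt_tensor e hJ hI, hfa]
            push_cast
            ring
      obtain ⟨J, hJ, f, hf, hfa⟩ := hpow ℓ
      haveI := hf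
      obtain ⟨w⟩ := picInt_inj e hT hJ (hTI.trans hfa.symm)
      exact ⟨ι ≫ w.hom ≫ f, mono_comp _ _⟩
    | m + 1, hn, hRd, hRpos, hQdim, hcoef =>
      have hQdeg : Q.natDegree < m + 1 := by
        rcases eq_or_ne Q 0 with rfl | hne
        · simp
        · have h := ShStabLib.degree_lt k hL hQc (d := m) hQdim hQ
          rw [degree_eq_natDegree hne] at h
          exact_mod_cast h
      have hdeg : (taylor ((picInt e hT : ℤ) : ℚ) R - R).natDegree < m + 1 := by
        rw [← natDegree_taylor_sub_eq _ b hb, hdiff]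
        exact lt_of_le_of_lt (natDegree_sub_le _ _) (max_lt hQdeg (by simp))
      rw [coeff_eq_zero_of_natDegree_lt hdeg] at hcoef
      have ha : picInt e hT = 0 := by
        rcases mul_eq_zero.1 hcoef.symm with h | h
        · rcases mul_eq_zero.1 h with h' | h'
          · exfalso
            push_cast at h'
            linarith [(by positivity : (0 : ℚ) ≤ (m : ℚ))]
          · exact_mod_cast h'
        · exact absurd h hRpos.ne'
      obtain ⟨w⟩ := picInt_inj e hT (PicLoc.isInvertible_structureModule X) (ha.trans (picInt_structure e).symm)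
      exact ⟨ι ≫ w.hom, mono_comp _ _⟩

end Embed

end Groth.Agent.ExtStab
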