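import Groth.Agent.ExtStabLib.RankTwo
import Groth.Agent.LazMukLib.EndBound
import Groth.Agent.ProjSerreLib.GenDual
import Groth.Agent.VBLib.Twist

/-!
# Sections of stable rank-two modules on a K3 surface
-/

set_option autoImplicit false
set_option backward.isDefEq.respectTransparency false
set_option linter.style.haveILetI false
set_option maxHeartbeats 1000000
set_option synthInstance.maxHeartbeats 200000

universe u

open CategoryTheory CategoryTheory.Limits AlgebraicGeometry TopologicalSpace Polynomial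
open Groth.Agent.PullbackMod Groth.Agent.DCohLib Groth.Agent.Nakai StabCat
open Groth.Agent.IntLib (PicRing pairing dif inv')

noncomputable section

namespace Groth.Agent.ExtStab

theorem eq_zero_of_untwist_src {X : Scheme.{u}} {G J : X.Modules} (θ : CohB1.tensorMod G J ≅ Coh.structureModule X)
    {A B J' : X.Modules} (e : (CurveLib.tensR J).obj B ≅ J') (φ : (CurveLib.tensR G).obj A ⟶ B)
    (h : (VBLib.untwist θ).inv.app A ≫ (CurveLib.tensR J).map φ ≫ e.hom = 0) : φ = 0 := by
  haveI := VBLib.isEquivalence_tensR (AmpleLib.comm J G ≪≫ θ)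
  refine (CurveLib.tensR J).map_injective ?_
  rw [Functor.map_zero, ← cancel_epi ((VBLib.untwist θ).inv.app A), ← cancel_mono e.hom, Category.assoc, h,
    Limits.comp_zero, Limits.zero_comp]

theorem eq_zero_of_untwist_tgt {X : Scheme.{u}} {G J : X.Modules} (θ : CohB1.tensorMod G J ≅ Coh.structureModule X)
    {A B J' : X.Modules} (e : (CurveLib.tensR J).obj A ≅ J') (s : A ⟶ (CurveLib.tensR G).obj B)
    (h : e.inv ≫ (CurveLib.tensR J).map s ≫ (VBLib.untwist θ).hom.app B = 0) : s = 0 := by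
  haveI := VBLib.isEquivalence_tensR (AmpleLib.comm J G ≪≫ θ)
  refine (CurveLib.tensR J).map_injective ?_
  rw [Functor.map_zero, ← cancel_mono ((VBLib.untwist θ).hom.app B), ← cancel_epi e.inv]
  exact h.trans (by rw [Limits.zero_comp, Limits.comp_zero])

theorem exists_untwist_hom {X : Scheme.{u}} {G J : X.Modules} (θ : CohB1.tensorMod G J ≅ Coh.structureModule X)
    {A B J' : X.Modules} (e : (CurveLib.tensR J).obj A ≅ J') (s : A ⟶ (CurveLib.tensR G).obj B) (hs : s ≠ 0) :
    ∃ j : J' ⟶ B, j ≠ 0 :=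
  ⟨e.inv ≫ (CurveLib.tensR J).map s ≫ (VBLib.untwist θ).hom.app B, fun h => hs (eq_zero_of_untwist_tgt θ e s h)⟩

theorem eq_zero_of_untwist {X : Scheme.{u}} {G J : X.Modules} (θ : CohB1.tensorMod G J ≅ Coh.structureModule X)
    {A : X.Modules} (h : ∀ ψ : A ⟶ J, ψ = 0) (φ : (CurveLib.tensR G).obj A ⟶ Coh.structureModule X) : φ = 0 :=
  eq_zero_of_untwist_src (A := A) (B := Coh.structureModule X) (J' := J) θ (AmpleLib.unitL J) φ (h _)

theorem exists_untwist_section {X : Scheme.{u}} {G J : X.Modules} (θ : CohB1.tensorMod G J ≅ Coh.structureModule X)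
    {B : X.Modules} (s : Coh.structureModule X ⟶ (CurveLib.tensR G).obj B) (hs : s ≠ 0) : ∃ j : J ⟶ B, j ≠ 0 :=
  exists_untwist_hom (A := Coh.structureModule X) (B := B) (J' := J) θ (AmpleLib.unitL J) s hs

/-- Changing the target of a monomorphism with finite cokernel. -/
theorem exists_comp_iso {X : Scheme.{u}} {N L' L'' : X.Modules} (ι : N ⟶ L') (hm : Mono ι)
    (h0 : topologicalKrullDim (CohB1.support (cokernel ι)) ≤ 0) (e : L' ≅ L'') :
    ∃ ι' : N ⟶ L'', Mono ι' ∧ topologicalKrullDim (CohB1.support (cokernel ι')) ≤ 0 := by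
  haveI := hm
  exact ⟨ι ≫ e.hom, inferInstance, by rw [CycLib.support_eq_of_iso (cokernelCompIsIso ι e.hom)]; exact h0⟩

variable (k : Type u) [Field k] {X : Scheme.{u}} [X.Over (Spec (CommRingCat.of k))] [IsIntegral X]
  [Smooth (X ↘ Spec (CommRingCat.of k))] [IsProper (X ↘ Spec (CommRingCat.of k))]

omit [Smooth (X ↘ Spec (CommRingCat.of k))] in
/-- Stable modules are slope-semistable. -/
theorem isMuSemistable_of_isStable {L V : X.Modules} (hL : CohB1.IsAmple L)
    (hst : ShStab.IsStable k X L V 2) : ShStab.IsMuSemistable k X L V 2 :=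
  ShStabLib.isMuSemistable_of_isSemistable k hL (by omega) (ShStabLib.isSemistable_of_isStable k hL hst)

/-- With trivial canonical module the Hilbert polynomial of the structure sheaf has no linear term. -/
theorem alpha_one_structure (hdim : topologicalKrullDim X = 2) {L : X.Modules} (hL : CohB1.IsAmple L)
    (hK : ExtPow.IsExtPow 2 (Omega.sheaf (X ↘ Spec (CommRingCat.of k))) (Coh.structureModule X))
    {pO : ℚ[X]} (hpO : ShStabLib.HP k L (Coh.structureModule X) pO) : alpha 1 pO = 0 := by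
  haveI := EulerIneqLib.isNoetherian_proper (X := X) k
  have hO := DevLib.isCoh_structureModule X
  have hdO : ShStabLib.DimLE 2 (Coh.structureModule X) :=
    lt_of_le_of_lt (Topology.IsInducing.subtypeVal.topologicalKrullDim_le.trans hdim.le)
      (by exact_mod_cast Nat.lt_succ_self 2)
  have hdeg := ShStabLib.degree_lt k hL hO (d := 2) hdO hpO
  obtain ⟨hWi, hd, -⟩ := TwistShriek.canonical_data_proper k hdim hK
  have h1 := TwistShriek.two_mul_euler_of_duality k hdim.le hWi hd hL.1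
  have hO0 : cl hWi = 0 := by
    rw [cl, show IntLib.inv' hWi = 1 from Subtype.ext IntLib.mk_structureModule, map_one, sub_self]
  rw [TwistShriek.intNum_eq_form k hdim.le hL.1 hL.1, TwistShriek.intNum_eq_form k hdim.le hL.1 hWi, hO0] at h1
  have h2 : alpha 2 pO = (form k (cl hL.1) (cl hL.1) : ℚ) :=
    (alpha_invertible k hdim hL ParaFLib.isInvertible_structureModule hpO hpO).1
  have h3 : pO.eval (1 : ℚ) = (Curv2.euler k X L : ℚ) := by
    rw [show (1 : ℚ) = ((1 : ℕ) : ℚ) by norm_num, ← hpO 1]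
    exact congrArg (fun z : ℤ => (z : ℚ)) (CurveLib.euler_iso (K := k)
      (AmpleLib.unitL (CohB1.tensorPow L 1) ≪≫ AmpleLib.unitL L))
  have h4 : pO.eval (0 : ℚ) = (Curv2.euler k X (Coh.structureModule X) : ℚ) := by
    rw [show (0 : ℚ) = ((0 : ℕ) : ℚ) by norm_num, ← hpO 0]
    exact congrArg (fun z : ℤ => (z : ℚ)) (CurveLib.euler_iso (K := k)
      (AmpleLib.unitL (Coh.structureModule X)))
  have h := alpha_eval hdeg
  rw [h3, h4, h2] at h
  have hz : form k (cl hL.1) (0 : PicRing X) = 0 := by rw [form, mul_zero, map_zero]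
  rw [hz] at h1
  have h1' := congrArg (fun z : ℤ => (z : ℚ)) h1
  push_cast at h1'
  linarith

/-- A coherent module with positive Euler characteristic and no maps to the structure sheaf has a section. -/
theorem exists_section_of_euler (hdim : topologicalKrullDim X = 2) {L : X.Modules} (hL : CohB1.IsAmple L)
    (hK : ExtPow.IsExtPow 2 (Omega.sheaf (X ↘ Spec (CommRingCat.of k))) (Coh.structureModule X))
    {W : X.Modules} (hW : Coh.IsCoh W) (hhom : ∀ φ : W ⟶ Coh.structureModule X, φ = 0)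
    (hχ : 1 ≤ Curv2.euler k X W) : ∃ s : Coh.structureModule X ⟶ W, s ≠ 0 := by
  haveI := EulerIneqLib.isNoetherian_proper (X := X) k
  obtain ⟨N, ι, hι0, hι⟩ := TwistShriek.exists_closedImmersion_of_ample (X ↘ Spec (CommRingCat.of k)) hL
  haveI := hι0
  haveI : SmoothOfRelativeDimension 2 (X ↘ Spec (CommRingCat.of k)) :=
    TwistShriek.smoothOfRelativeDimension_of_smooth (X ↘ Spec (CommRingCat.of k)) hdim
  obtain ⟨t, ht⟩ := FundLocIsoLib.exists_trace_topForms ι hι hK
  obtain ⟨-, h2⟩ := ProjSerreLib.finrank_hom_gen t ht hW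
  haveI : Subsingleton (W ⟶ Coh.structureModule X) := ⟨fun a b => (hhom a).trans (hhom b).symm⟩
  rw [Module.finrank_zero_of_subsingleton] at h2
  rw [CurveLib.euler_eq_sum (K := k) W 3 fun q hq =>
    CurveLib.subsingleton_HH_of_dim (d := 2) _ hdim.le (by omega)] at hχ
  simp only [Finset.sum_range_succ, Finset.sum_range_zero] at hχ
  norm_num at hχ
  have h0 : 0 < Module.finrank k (Coh.HH X W 0) := by omega
  haveI := Module.nontrivial_of_finrank_pos h0
  exact CurveLib.exists_hom_ne_zero W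

variable [IsAlgClosed k] [PicGrp.Law X]

/-- A rank-two slope-semistable module of the degree of the polarisation with `χ(V ⊗ L^n) ≥ 1` contains
a twist of the structure sheaf. -/
theorem exists_hom_of_euler (hdim : topologicalKrullDim X = 2) {L : X.Modules} (hL : CohB1.IsAmple L)
    (hK : ExtPow.IsExtPow 2 (Omega.sheaf (X ↘ Spec (CommRingCat.of k))) (Coh.structureModule X))
    (hgen : ∀ c : PicLoc.PicSet X, ∃ n : ℤ, c = PicGrp.cls L hL.1 ^ n)
    {V : X.Modules} (hμ : ShStab.IsMuSemistable k X L V 2) {pV pO : ℚ[X]} (hpV : ShStabLib.HP k L V pV)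
    (hpO : ShStabLib.HP k L (Coh.structureModule X) pO)
    (hV2 : alpha 2 pV = 2 * (form k (cl hL.1) (cl hL.1) : ℚ))
    (hV1 : alpha 1 pV = 2 * alpha 1 pO + (form k (cl hL.1) (cl hL.1) : ℚ))
    (n : ℕ) (hn : 1 ≤ pV.eval (n : ℚ)) :
    ∃ (T : X.Modules) (hT : PicF.IsInvertible T) (_ : PicGrp.cls T hT = PicGrp.cls L hL.1 ^ (-(n : ℤ)))
      (j : T ⟶ V), j ≠ 0 := by
  haveI := EulerIneqLib.isNoetherian_proper (X := X) k
  obtain ⟨G, hGdef⟩ : ∃ G : X.Modules, G = CohB1.tensorPow L n := ⟨_, rfl⟩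
  have hG : PicF.IsInvertible G := hGdef ▸ AmpleLib.isInvertible_tensorPow hL.1 n
  obtain ⟨J, hJ, ⟨θ⟩⟩ := AmpleEmb.exists_isInverseOf hG
  have hJc : PicGrp.cls J hJ = PicGrp.cls L hL.1 ^ (-(n : ℤ)) := by
    rw [zpow_neg, zpow_natCast, ← PicGrp.cls_inv_eq_cls hG hJ ⟨θ⟩]
    subst hGdef
    exact congrArg (·⁻¹) (Subtype.ext (PicGrp.cls_pow_val hL.1 n).symm)
  have hneg : form k (cl hJ) (cl hL.1) ≤ 0 := by
    rw [form_of_cls k hdim hL hJ _ hJc, neg_mul]
    exact neg_nonpos.2 (mul_nonneg (Int.natCast_nonneg n)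
      (form_ample_pos k (by exact_mod_cast hdim) hL).le)
  have hW : Coh.IsCoh ((CurveLib.tensR G).obj V) := CurveLib.isCoh_tmod hμ.1 (CurveLib.isCoh_of_isInvertible hG)
  have hhom : ∀ φ : (CurveLib.tensR G).obj V ⟶ Coh.structureModule X, φ = 0 := fun φ =>
    eq_zero_of_untwist θ (fun ψ => hom_eq_zero_of_nonpos k hdim hL hgen hμ hpV hpO hV2 hV1 hJ hneg ψ) φ
  have hχ : 1 ≤ Curv2.euler k X ((CurveLib.tensR G).obj V) := by
    subst hGdef
    have h : (1 : ℚ) ≤ (Curv2.euler k X (ShStab.twist X L V n) : ℚ) := hn.trans (le_of_eq (hpV n).symm)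
    exact_mod_cast h
  obtain ⟨s, hs⟩ := exists_section_of_euler k hdim hL hK hW hhom hχ
  obtain ⟨j, hj⟩ := exists_untwist_section θ s hs
  exact ⟨J, hJ, hJc, j, hj⟩

omit [IsAlgClosed k] [PicGrp.Law X] [IsIntegral X] [Smooth (X ↘ Spec (CommRingCat.of k))] in
/-- An extension of a module of degree above half that of `V` does not split. -/
theorem nonsplit_of_slope {L : X.Modules} (hL : CohB1.IsAmple L) {V N : X.Modules}
    (hμ : ShStab.IsMuSemistable k X L V 2) (hN : Coh.IsCoh N) {δ a1 : ℚ} (hδ : 0 < δ)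
    {pV pO : ℚ[X]} (hpV : ShStabLib.HP k L V pV) (hpO : ShStabLib.HP k L (Coh.structureModule X) pO)
    (hO2 : alpha 2 pO = δ) (hO1 : alpha 1 pO = a1) (hV2 : alpha 2 pV = 2 * δ) (hV1 : alpha 1 pV = 2 * a1 + δ)
    {a : Coh.structureModule X ⟶ V} {b : V ⟶ N} {w : a ≫ b = 0} (hS : (ShortComplex.mk a b w).ShortExact)
    (hdim : topologicalKrullDim X = 2)
    (r : V ⟶ Coh.structureModule X) : a ≫ r ≠ 𝟙 (Coh.structureModule X) := by
  haveI := EulerIneqLib.isNoetherian_proper (X := X) k
  intro hr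
  let σ := ShortComplex.Splitting.ofExactOfRetraction _ hS.exact r hr hS.epi_g
  haveI : Mono σ.s := mono_of_mono_fac σ.s_g
  obtain ⟨pN, -, hpN⟩ := ShStabLib.exists_hp k hL hN (d := 2)
    (lt_of_le_of_lt (Topology.IsInducing.subtypeVal.topologicalKrullDim_le.trans hdim.le)
      (by exact_mod_cast Nat.lt_succ_self 2))
  have hs : pV = pO + pN :=
    ShStabLib.hp_add k hL hS (DevLib.isCoh_structureModule X) hμ.1 hN hpO hpV hpN
  have hN2 : alpha 2 pN = δ := by
    have h := congrArg (alpha 2) hs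
    rw [ShStabLib.alpha_add, hV2, hO2] at h
    linarith
  have hN1 : alpha 1 pN = a1 + δ := by
    have h := congrArg (alpha 1) hs
    rw [ShStabLib.alpha_add, hV1, hO1] at h
    linarith
  have h := hμ.2.2.2.2 N σ.s inferInstance hN pN pV hpN hpV (by rw [hN2]; exact hδ) (by rw [hN2, hV2]; linarith)
  change alpha 1 pN / alpha 2 pN ≤ alpha 1 pV / alpha 2 pV at h
  rw [hN2, hV2, hN1, hV1, div_le_div_iff₀ hδ (by linarith)] at h
  nlinarith

end Groth.Agent.ExtStab

namespace Groth.Agent.ExtStab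

/-- Replacing the first term of a short exact sequence by an isomorphic one. -/
theorem shortExact_of_iso_fst {X : Scheme.{u}} {M M' V N : X.Modules} {a : M ⟶ V} {b : V ⟶ N} {w : a ≫ b = 0}
    (h : (ShortComplex.mk a b w).ShortExact) (e : M ≅ M') :
    ∃ (a' : M' ⟶ V) (w' : a' ≫ b = 0), (ShortComplex.mk a' b w').ShortExact :=
  ⟨e.inv ≫ a, by rw [Category.assoc, w, Limits.comp_zero], ShortComplex.shortExact_of_iso
    (ShortComplex.isoMk e (Iso.refl V) (Iso.refl N) (by simp) (by simp)) h⟩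

end Groth.Agent.ExtStab
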